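import Groth.Agent.RegLocus.Fiber
import Groth.Agent.GeomRed.Tensor

/-!
Geometrically reduced algebras stay reduced after any field extension; composition of flat maps with
geometrically reduced fibres.
-/

set_option autoImplicit false

universe u

open TensorProduct

namespace Groth.Agent.RegLocus

theorem isReduced_tensor_field (k A K : Type u) [Field k] [CommRing A] [Algebra k A]
    [Algebra.IsGeometricallyReduced k A] [Field K] [Algebra k K] : IsReduced (K ⊗[k] A) := by
  let Ω := AlgebraicClosure K
  let kb := AlgebraicClosure k
  let φ : kb →ₐ[k] Ω := IsAlgClosed.lift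
  letI : Algebra kb Ω := φ.toRingHom.toAlgebra
  have : IsScalarTower k kb Ω := IsScalarTower.of_algebraMap_eq fun x => (φ.commutes x).symm
  have : IsReduced (kb ⊗[k] A) := (Algebra.isGeometricallyReduced_field_iff k A).1 ‹_›
  have : IsReduced (Ω ⊗[kb] (kb ⊗[k] A)) := GeomRed.isReduced_tensorProduct_of_perfectField kb Ω (kb ⊗[k] A)
  have : IsReduced (Ω ⊗[k] A) := isReduced_of_injective (Algebra.TensorProduct.cancelBaseChange k kb kb Ω A).symm.toAlgHom
    (Algebra.TensorProduct.cancelBaseChange k kb kb Ω A).symm.injective
  exact isReduced_of_injective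
    (Algebra.TensorProduct.map (IsScalarTower.toAlgHom k K Ω) (AlgHom.id k A))
    (Module.Flat.rTensor_preserves_injective_linearMap _ (algebraMap K Ω).injective)

theorem isNoetherianRing_fiber (A B : Type u) [CommRing A] [CommRing B] [IsNoetherianRing B] [Algebra A B]
    (p : Ideal A) [p.IsPrime] : IsNoetherianRing (p.Fiber B) := by
  letI : Algebra B (p.Fiber B) := Algebra.TensorProduct.rightAlgebra
  have : IsNoetherianRing (Localization (Algebra.algebraMapSubmonoid B p.primeCompl)) :=
    IsLocalization.isNoetherianRing (Algebra.algebraMapSubmonoid B p.primeCompl) _ inferInstance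
  exact isNoetherianRing_of_ringEquiv _ (Ideal.Fiber.algEquivAux₁ (S := B) p).toRingEquiv.symm

theorem isNoetherianRing_tensor_finite (A B : Type u) [CommRing A] [CommRing B] [IsNoetherianRing B] [Algebra A B]
    (p : Ideal A) [p.IsPrime] (K : Type u) [Field K] [Algebra p.ResidueField K] [Module.Finite p.ResidueField K]
    [Algebra A K] [IsScalarTower A p.ResidueField K] : IsNoetherianRing (K ⊗[A] B) := by
  have := isNoetherianRing_fiber A B p
  have : IsNoetherianRing (p.Fiber B ⊗[p.ResidueField] K) :=
    Algebra.FiniteType.isNoetherianRing (p.Fiber B) (p.Fiber B ⊗[p.ResidueField] K)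
  exact isNoetherianRing_of_ringEquiv _
    ((Algebra.TensorProduct.comm p.ResidueField (p.Fiber B) K).toRingEquiv.trans
      (Algebra.TensorProduct.cancelBaseChange A p.ResidueField p.ResidueField K B).toRingEquiv)

/-- it is enough to test geometric reducedness of a fibre on finite extensions -/
theorem geomReduced_fiber_of_finite (A C : Type u) [CommRing A] [CommRing C] [Algebra A C] (p : Ideal A) [p.IsPrime]
    (h : ∀ (K : Type u) [Field K] [Algebra p.ResidueField K] [Module.Finite p.ResidueField K] [Algebra A K]
      [IsScalarTower A p.ResidueField K], IsReduced (K ⊗[A] C)) :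
    Algebra.IsGeometricallyReduced p.ResidueField (p.Fiber C) := by
  rw [Algebra.isGeometricallyReduced_field_iff]
  let L := AlgebraicClosure p.ResidueField
  have : IsReduced (p.Fiber C ⊗[p.ResidueField] L) := by
    apply IsReduced.tensorProduct_of_flat_of_forall_fg
    intro K' hK'
    have : Algebra.FiniteType p.ResidueField K' := K'.fg_iff_finiteType.mp hK'
    have : Algebra.IsIntegral p.ResidueField K' := ⟨fun x =>
      (isIntegral_algHom_iff K'.val Subtype.val_injective).1 (Algebra.IsIntegral.isIntegral _)⟩
    have : Module.Finite p.ResidueField K' := Algebra.IsIntegral.finite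
    letI : Field K' := fieldOfFiniteDimensional p.ResidueField K'
    letI : Algebra A K' := ((algebraMap p.ResidueField K').comp (algebraMap A p.ResidueField)).toAlgebra
    have : IsScalarTower A p.ResidueField K' := IsScalarTower.of_algebraMap_eq' rfl
    have := h K'
    have e : p.Fiber C ⊗[p.ResidueField] K' ≃+* K' ⊗[A] C :=
      (Algebra.TensorProduct.comm p.ResidueField (p.Fiber C) K').toRingEquiv.trans
        (Algebra.TensorProduct.cancelBaseChange A p.ResidueField p.ResidueField K' C).toRingEquiv
    exact isReduced_of_injective e e.injective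
  exact isReduced_of_injective (Algebra.TensorProduct.comm p.ResidueField L (p.Fiber C)).toAlgHom
    (Algebra.TensorProduct.comm p.ResidueField L (p.Fiber C)).injective

theorem fibLoc_reduced_of_fibre (A B : Type u) [CommRing A] [CommRing B] [Algebra A B] (q : Ideal B) [q.IsPrime]
    [IsReduced ((q.comap (algebraMap A B)).Fiber B)] : IsReduced (EGA4.FibLocRing A B q) := by
  obtain ⟨P, hP, ⟨f⟩⟩ := exists_fibre_localization A B q
  exact isReduced_of_injective f.symm f.symm.injective

theorem geomReduced_trans (A B C : Type u) [CommRing A] [CommRing B] [CommRing C]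
    [IsNoetherianRing B] [IsNoetherianRing C] [Algebra A B] [Algebra B C] [Algebra A C] [IsScalarTower A B C]
    [Module.Flat B C]
    (hAB : ∀ (p : Ideal A) [p.IsPrime], Algebra.IsGeometricallyReduced p.ResidueField (p.Fiber B))
    (hBC : ∀ (q : Ideal B) [q.IsPrime], Algebra.IsGeometricallyReduced q.ResidueField (q.Fiber C))
    (p : Ideal A) [p.IsPrime] : Algebra.IsGeometricallyReduced p.ResidueField (p.Fiber C) := by
  refine geomReduced_fiber_of_finite A C p fun K _ _ _ _ _ => ?_
  let R := K ⊗[A] B
  letI : Algebra B R := Algebra.TensorProduct.rightAlgebra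
  have : IsNoetherianRing R := isNoetherianRing_tensor_finite A B p K
  have := hAB p
  have : IsReduced (K ⊗[p.ResidueField] p.Fiber B) := isReduced_tensor_field p.ResidueField (p.Fiber B) K
  have : IsReduced R := isReduced_of_injective
    (Algebra.TensorProduct.cancelBaseChange A p.ResidueField p.ResidueField K B).symm.toAlgHom
    (Algebra.TensorProduct.cancelBaseChange A p.ResidueField p.ResidueField K B).symm.injective
  -- `K ⊗_A C = (K ⊗_A B) ⊗_B C`
  have : IsScalarTower A B R := IsScalarTower.of_algebraMap_eq fun a => by
    simp only [RingHom.algebraMap_toAlgebra]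
    exact ((Algebra.TensorProduct.includeRight : B →ₐ[A] R).commutes a).symm
  let e : R ⊗[B] C ≃+* K ⊗[A] C :=
    ((Algebra.TensorProduct.comm B R C).toRingEquiv.trans
      ((Algebra.TensorProduct.congr (AlgEquiv.refl : C ≃ₐ[B] C)
        ({ (Algebra.TensorProduct.comm A K B).toRingEquiv with commutes' := fun b => Algebra.TensorProduct.comm_tmul A (1 : K) b } :
          R ≃ₐ[B] B ⊗[A] K)).toRingEquiv.trans
        ((Algebra.TensorProduct.cancelBaseChange A B B C K).toRingEquiv.trans
          (Algebra.TensorProduct.comm A C K).toRingEquiv)))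
  have : IsNoetherianRing (R ⊗[B] C) := by
    have := isNoetherianRing_tensor_finite A C p K
    exact isNoetherianRing_of_ringEquiv _ e.symm
  have : IsReduced (R ⊗[B] C) := by
    refine isReduced_of_flat R (R ⊗[B] C) fun Q _ => ?_
    let Q0 := Q.comap (algebraMap R (R ⊗[B] C))
    let q := Q0.comap (algebraMap B R)
    have : Q0.LiesOver q := ⟨rfl⟩
    letI := Localization.AtPrime.algebraOfLiesOver q Q0
    have := hBC q
    have : IsReduced (Q0.ResidueField ⊗[q.ResidueField] q.Fiber C) :=
      isReduced_tensor_field q.ResidueField (q.Fiber C) Q0.ResidueField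
    have e' : Q0.Fiber (R ⊗[B] C) ≃+* Q0.ResidueField ⊗[q.ResidueField] q.Fiber C :=
      (Algebra.TensorProduct.cancelBaseChange B R R Q0.ResidueField C).toRingEquiv.trans
        (Algebra.TensorProduct.cancelBaseChange B q.ResidueField q.ResidueField Q0.ResidueField C).symm.toRingEquiv
    have : IsReduced ((Q.comap (algebraMap R (R ⊗[B] C))).Fiber (R ⊗[B] C)) := isReduced_of_injective e' e'.injective
    exact fibLoc_reduced_of_fibre R (R ⊗[B] C) Q
  exact isReduced_of_injective e.symm e.symm.injective

theorem geomReduced_descend (A B C : Type u) [CommRing A] [CommRing B] [CommRing C] [Algebra A B] [Algebra B C]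
    [Algebra A C] [IsScalarTower A B C] [Module.FaithfullyFlat B C]
    (p : Ideal A) [p.IsPrime] [Algebra.IsGeometricallyReduced p.ResidueField (p.Fiber C)] :
    Algebra.IsGeometricallyReduced p.ResidueField (p.Fiber B) := by
  refine Algebra.IsGeometricallyReduced.of_injective
    (Algebra.TensorProduct.map (AlgHom.id p.ResidueField p.ResidueField) (IsScalarTower.toAlgHom A B C)) ?_
  let g : p.Fiber B → p.Fiber C := fun x =>
    Algebra.TensorProduct.comm A C p.ResidueField
      (Algebra.TensorProduct.cancelBaseChange A B B C p.ResidueField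
        ((TensorProduct.mk B C (B ⊗[A] p.ResidueField) 1) (Algebra.TensorProduct.comm A p.ResidueField B x)))
  have hg : Function.Injective g :=
    (Algebra.TensorProduct.comm A C p.ResidueField).injective.comp
      ((Algebra.TensorProduct.cancelBaseChange A B B C p.ResidueField).injective.comp
        ((Module.FaithfullyFlat.tensorProduct_mk_injective (A := B) (B := C) (B ⊗[A] p.ResidueField)).comp
          (Algebra.TensorProduct.comm A p.ResidueField B).injective))
  convert hg using 1
  funext x
  induction x using TensorProduct.induction_on with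
  | zero => simp [g]
  | tmul k b => simp [g, Algebra.smul_def]
  | add y z hy hz => simp only [map_add, hy, hz, g]

end Groth.Agent.RegLocus
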