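import Groth.Agent.RegLocus.IdealCpl
import Groth.Agent.RegLocus.GeomRedTrans
import Mathlib

/-!
# Descending reducedness to completions from a flat algebra receiving a map from the completion
-/

universe u

open TensorProduct IsLocalRing

set_option linter.style.haveILetI false

namespace Groth.Agent.RegLocus

/-- Functoriality of completions. -/
theorem exists_cplMap (A B : Type u) [CommRing A] [CommRing B] [Algebra A B] (I : Ideal A) (J : Ideal B)
    (h : I.map (algebraMap A B) ≤ J) :
    Nonempty (AdicCompletion I A →ₐ[A] AdicCompletion J B) := by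
  have hle : ∀ k, (I ^ k).map (algebraMap A B) ≤ J ^ k := fun k => by
    rw [Ideal.map_pow]; exact Ideal.pow_right_mono h k
  let f : ∀ k, AdicCompletion I A →+* B ⧸ J ^ k := fun k =>
    (Ideal.quotientMap (J ^ k) (algebraMap A B) (Ideal.map_le_iff_le_comap.1 (hle k))).comp
      (AdicCompletion.evalₐ I k).toRingHom
  let θ : AdicCompletion I A →+* AdicCompletion J B := AdicCompletion.liftRingHom J f (fun {a b} hab => by
    ext z
    induction z using AdicCompletion.induction_on with
    | _ y =>
      show Ideal.Quotient.factor (Ideal.pow_le_pow_right (I := J) hab)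
          (Ideal.quotientMap (J ^ b) (algebraMap A B) (Ideal.map_le_iff_le_comap.1 (hle b))
            (AdicCompletion.evalₐ I b (AdicCompletion.mk I A y))) =
        Ideal.quotientMap (J ^ a) (algebraMap A B) (Ideal.map_le_iff_le_comap.1 (hle a))
            (AdicCompletion.evalₐ I a (AdicCompletion.mk I A y))
      rw [AdicCompletion.evalₐ_mk, AdicCompletion.evalₐ_mk]
      show Ideal.Quotient.mk _ (algebraMap A B (y.1 b)) = Ideal.Quotient.mk _ (algebraMap A B (y.1 a))
      rw [Ideal.Quotient.eq, ← map_sub]
      refine hle a (Ideal.mem_map_of_mem _ ?_)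
      have h := y.2 hab
      rw [SModEq.sub_mem, Ideal.smul_top_eq_map, Algebra.algebraMap_self, Ideal.map_id,
        Submodule.restrictScalars_mem] at h
      rw [← neg_sub]
      exact neg_mem h)
  exact ⟨{ θ with
    commutes' := fun a => by
      refine AdicCompletion.ext_evalₐ fun k => ?_
      show AdicCompletion.evalₐ J k (θ (algebraMap A _ a)) = _
      rw [AdicCompletion.evalₐ_liftRingHom, IsScalarTower.algebraMap_apply A B (AdicCompletion J B)]
      refine Eq.trans ?_ ((AdicCompletion.evalₐ J k).commutes _).symm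
      exact congrArg (Ideal.quotientMap (J ^ k) (algebraMap A B) (Ideal.map_le_iff_le_comap.1 (hle k)))
        ((AdicCompletion.evalₐ I k).commutes a) }⟩

/-- Reducedness descends to `Â ⊗ C` from a flat algebra `B` with `mB ≠ B` receiving `Â`. -/
theorem isReduced_cpl_tensor_descend (A B : Type u) [CommRing A] [IsNoetherianRing A] [IsLocalRing A]
    [CommRing B] [Algebra A B] [Module.Flat A B] (hmB : (maximalIdeal A).map (algebraMap A B) ≠ ⊤)
    (θ : EGA4.Cpl A →ₐ[A] B) (C : Type u) [CommRing C] [Algebra A C] [Module.Finite A C]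
    [IsReduced (B ⊗[A] C)] : IsReduced (EGA4.Cpl A ⊗[A] C) := by
  let m := maximalIdeal A
  let S := EGA4.Cpl A ⊗[A] C
  obtain ⟨hcN, hff, -⟩ := cpl_facts A
  haveI := hcN
  haveI : IsAdicComplete (maximalIdeal (EGA4.Cpl A)) S := CplFin.isAdicComplete_of_finite _ _ S
  refine ⟨fun x hx => ?_⟩
  refine IsHausdorff.haus (I := maximalIdeal (EGA4.Cpl A)) inferInstance x fun n => ?_
  rw [SModEq.zero, Ideal.smul_top_eq_map, Submodule.restrictScalars_mem, Ideal.map_pow,
    AdicCompletion.maximalIdeal_eq_map, Ideal.map_map, ← IsScalarTower.algebraMap_eq, ← Ideal.map_pow]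
  obtain ⟨c, hc⟩ := exists_approx_ideal A m C n x
  let ψ : S →ₐ[A] B ⊗[A] C := Algebra.TensorProduct.map θ (AlgHom.id A C)
  have hψx : ψ x = 0 := (hx.map ψ).eq_zero
  have h6 : (1 : B) ⊗ₜ[A] c ∈ (m ^ n).map (algebraMap A (B ⊗[A] C)) := by
    have := Ideal.mem_map_of_mem ψ.toRingHom hc
    rw [Ideal.map_map, show ψ.toRingHom.comp (algebraMap A S) = algebraMap A (B ⊗[A] C) from
      RingHom.ext fun a => ψ.commutes a] at this
    rw [show ψ.toRingHom (x - (1 : EGA4.Cpl A) ⊗ₜ[A] c) = - ((1 : B) ⊗ₜ[A] c) from by
      show ψ (x - (1 : EGA4.Cpl A) ⊗ₜ[A] c) = _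
      rw [map_sub, hψx, zero_sub, neg_inj]
      show Algebra.TensorProduct.map θ (AlgHom.id A C) _ = _
      rw [Algebra.TensorProduct.map_tmul, map_one]
      rfl] at this
    exact neg_mem_iff.1 this
  obtain ⟨s, hs, hsc⟩ := exists_notMem_smul_mem A B m hmB C (m ^ n) c h6
  have hu : IsUnit s := by
    by_contra h
    exact hs h
  have hcn : c ∈ (m ^ n • ⊤ : Submodule A C) := (Submodule.smul_mem_iff_of_isUnit _ hu).1 hsc
  have h5 : (1 : EGA4.Cpl A) ⊗ₜ[A] c ∈ (m ^ n).map (algebraMap A S) := by
    rw [Ideal.smul_top_eq_map, Submodule.restrictScalars_mem] at hcn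
    have := Ideal.mem_map_of_mem (Algebra.TensorProduct.includeRight : C →ₐ[A] S).toRingHom hcn
    rw [Ideal.map_map] at this
    rwa [show (Algebra.TensorProduct.includeRight : C →ₐ[A] S).toRingHom.comp (algebraMap A C) = algebraMap A S from
      RingHom.ext fun a => (Algebra.TensorProduct.includeRight : C →ₐ[A] S).commutes a] at this
  simpa using add_mem hc h5

set_option synthInstance.maxHeartbeats 100000 in
/-- Flat with geometrically reduced fibres: tensoring with a reduced finite algebra stays reduced. -/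
theorem isReduced_tensor_of_geomReduced_fibres (A B : Type u) [CommRing A] [IsNoetherianRing A] [CommRing B]
    [IsNoetherianRing B] [Algebra A B] [Module.Flat A B]
    (h : ∀ (p : Ideal A) [p.IsPrime], Algebra.IsGeometricallyReduced p.ResidueField (p.Fiber B))
    (C : Type u) [CommRing C] [Algebra A C] [Module.Finite A C] [IsReduced C] :
    IsReduced (B ⊗[A] C) := by
  let R := C ⊗[A] B
  haveI : IsNoetherianRing (B ⊗[A] C) := Algebra.FiniteType.isNoetherianRing B (B ⊗[A] C)
  haveI : IsNoetherianRing C := IsNoetherianRing.of_finite A C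
  haveI : IsNoetherianRing R := isNoetherianRing_of_ringEquiv _ (Algebra.TensorProduct.comm A B C).toRingEquiv
  haveI : IsReduced R := by
    refine isReduced_of_flat C R fun Q _ => ?_
    let Q0 := Q.comap (algebraMap C R)
    let p := Q0.comap (algebraMap A C)
    have : Q0.LiesOver p := ⟨rfl⟩
    letI := Localization.AtPrime.algebraOfLiesOver p Q0
    have := h p
    have : IsReduced (Q0.ResidueField ⊗[p.ResidueField] p.Fiber B) :=
      isReduced_tensor_field p.ResidueField (p.Fiber B) Q0.ResidueField
    have e' : Q0.Fiber R ≃+* Q0.ResidueField ⊗[p.ResidueField] p.Fiber B :=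
      (Algebra.TensorProduct.cancelBaseChange A C C Q0.ResidueField B).toRingEquiv.trans
        (Algebra.TensorProduct.cancelBaseChange A p.ResidueField p.ResidueField Q0.ResidueField B).symm.toRingEquiv
    have : IsReduced ((Q.comap (algebraMap C R)).Fiber R) := isReduced_of_injective e' e'.injective
    exact fibLoc_reduced_of_fibre C R Q
  exact isReduced_of_injective (Algebra.TensorProduct.comm A B C) (Algebra.TensorProduct.comm A B C).injective

/-- EGA IV 7.4.? : geometrically reduced formal fibres from a local hom into a ring with such fibres. -/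
theorem geomReducedFormalFibres_of_hom (A A' : Type u) [CommRing A] [CommRing A'] [IsNoetherianRing A]
    [IsNoetherianRing A'] [IsLocalRing A] [IsLocalRing A'] [Algebra A A'] [IsLocalHom (algebraMap A A')]
    [Module.Flat A A']
    (hf : ∀ (p : Ideal A) [p.IsPrime], Algebra.IsGeometricallyReduced p.ResidueField (p.Fiber A'))
    (hA' : EGA4.HasGeomReducedFormalFibres A') : EGA4.HasGeomReducedFormalFibres A := by
  obtain ⟨hN', hff', -⟩ := cpl_facts A'
  haveI := hN'
  haveI := hff'
  haveI : Module.Flat A (EGA4.Cpl A') := Module.Flat.trans A A' (EGA4.Cpl A')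
  have hle : (maximalIdeal A).map (algebraMap A A') ≤ maximalIdeal A' :=
    Ideal.map_le_iff_le_comap.2 (le_of_eq ((local_hom_TFAE (algebraMap A A')).out 0 4 rfl rfl |>.1 inferInstance).symm)
  obtain ⟨θ⟩ := exists_cplMap A A' (maximalIdeal A) (maximalIdeal A') hle
  refine geomReducedFormalFibres_of_tensor A fun C _ _ _ _ => ?_
  haveI : IsReduced (EGA4.Cpl A' ⊗[A] C) := isReduced_tensor_of_geomReduced_fibres A (EGA4.Cpl A')
    (fun p _ => geomReduced_trans A A' (EGA4.Cpl A') hf hA' p) C
  refine isReduced_cpl_tensor_descend A (EGA4.Cpl A') ?_ θ C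
  rw [IsScalarTower.algebraMap_eq A A' (EGA4.Cpl A'), ← Ideal.map_map]
  refine ne_top_of_le_ne_top ?_ (Ideal.map_mono hle)
  rw [← AdicCompletion.maximalIdeal_eq_map]
  exact (maximalIdeal.isMaximal _).ne_top

end Groth.Agent.RegLocus
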