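import Groth.Agent.RegLocus.NagataCrit
import Groth.Agent.CplFin.Basic
import Mathlib

/-!
# Completion of a finite algebra over a local ring along its Jacobson radical
-/

universe u

open TensorProduct IsLocalRing

set_option linter.style.haveILetI false

namespace Groth.Agent.RegLocus

theorem exists_approx (A : Type u) [CommRing A] [IsNoetherianRing A] [IsLocalRing A] (n : ℕ) (b : EGA4.Cpl A) :
    ∃ a : A, b - algebraMap A (EGA4.Cpl A) a ∈ ((maximalIdeal A).map (algebraMap A (EGA4.Cpl A))) ^ n := by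
  obtain ⟨a, ha⟩ := Submodule.Quotient.mk_surjective _ (AdicCompletion.eval (maximalIdeal A) A n b)
  refine ⟨a, ?_⟩
  have h : b - algebraMap A (EGA4.Cpl A) a ∈ (AdicCompletion.eval (maximalIdeal A) A n).ker := by
    rw [LinearMap.mem_ker, map_sub, sub_eq_zero, ← ha]
    rfl
  rw [← AdicCompletion.pow_smul_top_eq_ker_eval (IsNoetherian.noetherian _)] at h
  rw [← Ideal.map_pow]
  rwa [Ideal.smul_top_eq_map, Submodule.restrictScalars_mem] at h

set_option synthInstance.maxHeartbeats 100000 in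
/-- For a finite algebra `C` over a Noetherian local ring `A`: `Ĉ ≅ Â ⊗_A C`. -/
theorem jacobsonCpl_equiv' (A : Type u) [CommRing A] [IsNoetherianRing A] [IsLocalRing A]
    (C : Type u) [CommRing C] [Algebra A C] [Module.Finite A C] :
    ∃ e : AdicCompletion ((⊥ : Ideal C).jacobson) C ≃+* EGA4.Cpl A ⊗[A] C,
      ∀ c : C, e (algebraMap C (AdicCompletion ((⊥ : Ideal C).jacobson) C) c) = (1 : EGA4.Cpl A) ⊗ₜ[A] c := by
  obtain ⟨hcN, hff, -⟩ := cpl_facts A
  haveI := hcN
  haveI := hff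
  let J := (⊥ : Ideal C).jacobson
  let m := maximalIdeal A
  let S := EGA4.Cpl A ⊗[A] C
  letI : Algebra C S := Algebra.TensorProduct.rightAlgebra
  have hSA : ∀ a : A, algebraMap A S a = algebraMap C S (algebraMap A C a) := fun a => by
    show algebraMap A (EGA4.Cpl A) a ⊗ₜ[A] (1 : C) = (1 : EGA4.Cpl A) ⊗ₜ[A] algebraMap A C a
    exact Algebra.TensorProduct.tmul_one_eq_one_tmul a
  haveI : IsScalarTower A C S := IsScalarTower.of_algebraMap_eq hSA
  haveI : Module.FaithfullyFlat C S :=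
    Module.FaithfullyFlat.of_linearEquiv C (C ⊗[A] EGA4.Cpl A)
      { (Algebra.TensorProduct.comm A (EGA4.Cpl A) C).toLinearEquiv with
        map_smul' := fun c x => by
          show Algebra.TensorProduct.comm A (EGA4.Cpl A) C (c • x) = c • Algebra.TensorProduct.comm A (EGA4.Cpl A) C x
          rw [Algebra.smul_def, map_mul, Algebra.smul_def]
          rfl }
  have hmJ : m.map (algebraMap A C) ≤ J := Ideal.map_le_iff_le_comap.2 fun a ha => by
    show algebraMap A C a ∈ sInf {P : Ideal C | ⊥ ≤ P ∧ P.IsMaximal}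
    refine Submodule.mem_sInf.2 fun (P : Ideal C) hP => ?_
    haveI := hP.2
    haveI : (P.comap (algebraMap A C)).IsMaximal := Ideal.isMaximal_comap_of_isIntegral_of_isMaximal P
    exact (eq_maximalIdeal ‹(P.comap (algebraMap A C)).IsMaximal›).ge ha
  haveI hCN : IsNoetherianRing C := IsNoetherianRing.of_finite A C
  have hJrad : J ≤ (m.map (algebraMap A C)).radical := by
    rw [Ideal.radical_eq_sInf]
    refine le_sInf fun P ⟨hP, hPp⟩ => ?_
    haveI := hPp
    have h1 : P.comap (algebraMap A C) = m :=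
      ((maximalIdeal.isMaximal A).eq_of_le (Ideal.comap_ne_top _ hPp.ne_top) (Ideal.map_le_iff_le_comap.1 hP)).symm
    haveI : (P.comap (algebraMap A C)).IsMaximal := h1 ▸ maximalIdeal.isMaximal A
    haveI : P.IsMaximal := Ideal.isMaximal_of_isIntegral_of_isMaximal_comap (R := A) P ‹_›
    exact sInf_le ⟨bot_le, ‹P.IsMaximal›⟩
  obtain ⟨k, hk⟩ := Ideal.exists_pow_le_of_le_radical_of_fg hJrad (IsNoetherian.noetherian _)
  let JS := J.map (algebraMap C S)
  let mS := m.map (algebraMap A S)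
  have hmSJS : mS ≤ JS := by
    show m.map (algebraMap A S) ≤ _
    rw [IsScalarTower.algebraMap_eq A C S, ← Ideal.map_map]
    exact Ideal.map_mono hmJ
  haveI : IsAdicComplete (maximalIdeal (EGA4.Cpl A)) S := CplFin.isAdicComplete_of_finite _ _ S
  haveI hcm : IsAdicComplete mS S := by
    have h1 := (IsAdicComplete.map_algebraMap_iff (maximalIdeal (EGA4.Cpl A)) S (S := S)).2 inferInstance
    rwa [AdicCompletion.maximalIdeal_eq_map, Ideal.map_map, ← IsScalarTower.algebraMap_eq] at h1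
  haveI hcJ : IsAdicComplete JS S := CplFin.isAdicComplete_of_le_of_pow_le S mS JS hmSJS (k + 1) (by omega) (by
    refine (Ideal.pow_le_pow_right (Nat.le_succ k)).trans ?_
    show (J.map (algebraMap C S)) ^ k ≤ m.map (algebraMap A S)
    rw [← Ideal.map_pow, IsScalarTower.algebraMap_eq A C S, ← Ideal.map_map]
    exact Ideal.map_mono hk)
  let q : ∀ n, C ⧸ J ^ n →+* S ⧸ JS ^ n := fun n =>
    Ideal.quotientMap (JS ^ n) (algebraMap C S) (Ideal.map_le_iff_le_comap.1 (Ideal.map_pow (algebraMap C S) J n).le)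
  have hqmk : ∀ n c, q n (Ideal.Quotient.mk _ c) = Ideal.Quotient.mk _ (algebraMap C S c) := fun n c => rfl
  have hqinj : ∀ n, Function.Injective (q n) := fun n => by
    rw [injective_iff_map_eq_zero]
    intro z hz
    obtain ⟨c, rfl⟩ := Ideal.Quotient.mk_surjective z
    rw [hqmk, Ideal.Quotient.eq_zero_iff_mem] at hz
    rw [Ideal.Quotient.eq_zero_iff_mem, ← Ideal.comap_map_eq_self_of_faithfullyFlat (B := S) (J ^ n),
      Ideal.mem_comap, Ideal.map_pow]
    exact hz
  have hqsurj : ∀ n, Function.Surjective (q n) := fun n z => by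
    obtain ⟨z, rfl⟩ := Ideal.Quotient.mk_surjective z
    suffices h : ∃ c, z - algebraMap C S c ∈ JS ^ n by
      obtain ⟨c, hc⟩ := h
      exact ⟨Ideal.Quotient.mk _ c, by rw [hqmk]; exact (Ideal.Quotient.eq.2 hc).symm⟩
    induction z using TensorProduct.induction_on with
    | zero => exact ⟨0, by simp⟩
    | add x y hx hy =>
      obtain ⟨c, hc⟩ := hx
      obtain ⟨d, hd⟩ := hy
      exact ⟨c + d, by rw [map_add, add_sub_add_comm]; exact add_mem hc hd⟩
    | tmul b c =>
      obtain ⟨a, ha⟩ := exists_approx A n b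
      refine ⟨algebraMap A C a * c, Ideal.pow_right_mono hmSJS n ?_⟩
      have e : b ⊗ₜ[A] c - algebraMap C S (algebraMap A C a * c)
          = algebraMap (EGA4.Cpl A) S (b - algebraMap A (EGA4.Cpl A) a) * ((1 : EGA4.Cpl A) ⊗ₜ[A] c) := by
        rw [map_mul, ← hSA, map_sub, sub_mul, ← IsScalarTower.algebraMap_apply]
        congr 1
        show b ⊗ₜ[A] c = (b ⊗ₜ[A] (1 : C)) * ((1 : EGA4.Cpl A) ⊗ₜ[A] c)
        rw [Algebra.TensorProduct.tmul_mul_tmul, mul_one, one_mul]
      rw [e]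
      refine Ideal.mul_mem_right _ _ ?_
      have h2 := Ideal.mem_map_of_mem (algebraMap (EGA4.Cpl A) S) ha
      rwa [Ideal.map_pow, Ideal.map_map, ← IsScalarTower.algebraMap_eq] at h2
  let φ : ∀ n, C ⧸ J ^ n ≃+* S ⧸ JS ^ n := fun n => RingEquiv.ofBijective (q n) ⟨hqinj n, hqsurj n⟩
  have hcompat : ∀ {a b : ℕ} (hle : a ≤ b) (z : C ⧸ J ^ b),
      Ideal.Quotient.factor (Ideal.pow_le_pow_right (I := JS) hle) (q b z) =
        q a (Ideal.Quotient.factor (Ideal.pow_le_pow_right (I := J) hle) z) := fun {a b} hle z => by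
    obtain ⟨c, rfl⟩ := Ideal.Quotient.mk_surjective z
    rfl
  let Φ : AdicCompletion J C →+* S := IsAdicComplete.liftRingHom JS
    (fun n => (q n).comp (AdicCompletion.evalₐ J n).toRingHom) (fun {a b} hle => by
      ext x
      refine (hcompat hle (AdicCompletion.evalₐ J b x)).trans ?_
      show q a _ = q a _
      congr 1
      induction x using AdicCompletion.induction_on with
      | _ y =>
        rw [AdicCompletion.evalₐ_mk]
        refine Eq.trans ?_ (AdicCompletion.evalₐ_mk J a y).symm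
        show Ideal.Quotient.mk (J ^ a) (y.1 b) = Ideal.Quotient.mk (J ^ a) (y.1 a)
        refine (Ideal.Quotient.eq.2 ?_)
        have h := y.2 hle
        rw [SModEq.sub_mem, Ideal.smul_top_eq_map, Algebra.algebraMap_self, Ideal.map_id,
          Submodule.restrictScalars_mem] at h
        rw [← neg_sub]
        exact neg_mem h)
  have hΦ : ∀ n x, Ideal.Quotient.mk (JS ^ n) (Φ x) = q n (AdicCompletion.evalₐ J n x) := fun n x =>
    IsAdicComplete.mk_liftRingHom _ _ _ n x
  let Ψ : S →+* AdicCompletion J C := AdicCompletion.liftRingHom J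
    (fun n => (φ n).symm.toRingHom.comp (Ideal.Quotient.mk (JS ^ n))) (fun {a b} hle => by
      refine RingHom.ext fun s => hqinj a ?_
      refine (hcompat hle ((φ b).symm (Ideal.Quotient.mk _ s))).symm.trans ?_
      show Ideal.Quotient.factor _ (φ b ((φ b).symm (Ideal.Quotient.mk _ s))) = φ a ((φ a).symm (Ideal.Quotient.mk _ s))
      rw [RingEquiv.apply_symm_apply, RingEquiv.apply_symm_apply]
      rfl)
  refine ⟨RingEquiv.ofBijective Φ ⟨fun x y hxy => AdicCompletion.ext_evalₐ fun n => hqinj n ?_, fun s => ⟨Ψ s, ?_⟩⟩,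
    fun c => ?_⟩
  · rw [← hΦ, ← hΦ, hxy]
  · refine sub_eq_zero.1 (IsHausdorff.haus (I := JS) inferInstance _ fun n => ?_)
    rw [SModEq.zero, Ideal.smul_top_eq_map, Algebra.algebraMap_self, Ideal.map_id, Submodule.restrictScalars_mem,
      ← Ideal.Quotient.eq, hΦ, AdicCompletion.evalₐ_liftRingHom]
    exact (φ n).apply_symm_apply _
  · show Φ (algebraMap C _ c) = algebraMap C S c
    refine sub_eq_zero.1 (IsHausdorff.haus (I := JS) inferInstance _ fun n => ?_)
    rw [SModEq.zero, Ideal.smul_top_eq_map, Algebra.algebraMap_self, Ideal.map_id, Submodule.restrictScalars_mem,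
      ← Ideal.Quotient.eq, hΦ, AlgHom.commutes]
    rfl

/-- For a finite algebra `C` over a Noetherian local ring `A`: `Ĉ ≅ Â ⊗_A C`. -/
theorem jacobsonCpl_equiv (A : Type u) [CommRing A] [IsNoetherianRing A] [IsLocalRing A]
    (C : Type u) [CommRing C] [Algebra A C] [Module.Finite A C] :
    Nonempty (AdicCompletion ((⊥ : Ideal C).jacobson) C ≃+* EGA4.Cpl A ⊗[A] C) :=
  ⟨(jacobsonCpl_equiv' A C).choose⟩

/-- The completion of a quotient, as an algebra over it. -/
theorem cplQuotient_equiv (A : Type u) [CommRing A] [IsNoetherianRing A] [IsLocalRing A] (I : Ideal A)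
    [Nontrivial (A ⧸ I)] : Nonempty (((A ⧸ I) ⊗[A] EGA4.Cpl A) ≃ₐ[A ⧸ I] EGA4.Cpl (A ⧸ I)) := by
  obtain ⟨e, he⟩ := jacobsonCpl_equiv' A (A ⧸ I)
  have hJ : (⊥ : Ideal (A ⧸ I)).jacobson = maximalIdeal (A ⧸ I) := IsLocalRing.jacobson_eq_maximalIdeal ⊥ bot_ne_top
  have key : ∀ J : Ideal (A ⧸ I), J = maximalIdeal (A ⧸ I) →
      ∀ e : AdicCompletion J (A ⧸ I) ≃+* EGA4.Cpl A ⊗[A] (A ⧸ I),
      (∀ c, e (algebraMap (A ⧸ I) (AdicCompletion J (A ⧸ I)) c) = (1 : EGA4.Cpl A) ⊗ₜ[A] c) →
      Nonempty (((A ⧸ I) ⊗[A] EGA4.Cpl A) ≃ₐ[A ⧸ I] EGA4.Cpl (A ⧸ I)) := by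
    rintro J rfl e he
    let g : ((A ⧸ I) ⊗[A] EGA4.Cpl A) ≃+* EGA4.Cpl (A ⧸ I) :=
      (Algebra.TensorProduct.comm A (A ⧸ I) (EGA4.Cpl A)).toRingEquiv.trans e.symm
    refine ⟨{ g with commutes' := fun c => ?_ }⟩
    show e.symm (Algebra.TensorProduct.comm A (A ⧸ I) (EGA4.Cpl A) (algebraMap (A ⧸ I) _ c)) = algebraMap (A ⧸ I) _ c
    rw [e.symm_apply_eq, he, Algebra.TensorProduct.algebraMap_apply, Algebra.algebraMap_self, RingHom.id_apply,
      Algebra.TensorProduct.comm_tmul]
  exact key _ hJ e he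

end Groth.Agent.RegLocus
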