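import Groth.Agent.RegLocus.GeomMisc
import Groth.Agent.RegLocus.CplDescend
import Groth.Agent.RegLocus.SemilocalCpl
import Groth.Agent.FlatCrit.Basic
import Mathlib

/-!
# Formal fibres from a flat local homomorphism: `Â → Â'` is faithfully flat, descent of fibres
-/

universe u

open TensorProduct IsLocalRing

set_option linter.style.haveILetI false

namespace Groth.Agent.RegLocus

/-- Flatness over `A` implies flatness over a ring `A'` in which `A` is dense for the `I`-topology. -/
theorem flat_of_dense (A A' B : Type u) [CommRing A] [CommRing A'] [CommRing B] [IsNoetherianRing A']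
    [IsNoetherianRing B] [Algebra A A'] [Algebra A B] [Algebra A' B] [IsScalarTower A A' B] [Module.Flat A B]
    (I : Ideal A) (hI : I.map (algebraMap A B) ≤ (⊥ : Ideal B).jacobson)
    (happ : ∀ (n : ℕ) (x : A'), ∃ a : A, x - algebraMap A A' a ∈ (I ^ n).map (algebraMap A A')) :
    Module.Flat A' B := by
  refine FlatCrit.flat_of_lTensor_injective_mod_pow (S := B) (M := B) (I := I.map (algebraMap A A')) ?_ fun n N => ?_
  · rwa [Ideal.map_map, ← IsScalarTower.algebraMap_eq]
  have key : ∀ (K : Type u) [AddCommGroup K] [Module A' K] [Module A K] [IsScalarTower A A' K],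
      (∀ x ∈ (I ^ n).map (algebraMap A A'), ∀ k : K, x • k = 0) → TensorProduct.CompatibleSMul A A' B K := by
    intro K _ _ _ _ hK
    refine ⟨fun x b k => ?_⟩
    obtain ⟨a, ha⟩ := happ n x
    have hkill : ∀ i : A', i ∈ (I ^ n).map (algebraMap A A') → ∀ b : B, (i • b) ⊗ₜ[A] k = 0 := by
      intro i hi
      refine Submodule.span_induction (p := fun i _ => ∀ b : B, (i • b) ⊗ₜ[A] k = 0) ?_ ?_ ?_ ?_ hi
      · rintro _ ⟨c, hc, rfl⟩ b
        rw [algebraMap_smul, TensorProduct.smul_tmul, ← algebraMap_smul A' c k,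
          hK _ (Ideal.mem_map_of_mem _ hc), TensorProduct.tmul_zero]
      · exact fun b => by rw [zero_smul, TensorProduct.zero_tmul]
      · exact fun y z _ _ hy hz b => by rw [add_smul, TensorProduct.add_tmul, hy, hz, add_zero]
      · exact fun y z _ hz b => by rw [smul_eq_mul, mul_comm, mul_smul]; exact hz (y • b)
    have h1 : (x • b) ⊗ₜ[A] k = (algebraMap A A' a • b) ⊗ₜ[A] k := by
      rw [← sub_eq_zero, ← TensorProduct.sub_tmul, ← sub_smul]
      exact hkill _ ha b
    have h2 : x • k = algebraMap A A' a • k := by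
      rw [← sub_eq_zero, ← sub_smul]
      exact hK _ ha k
    rw [h1, h2, algebraMap_smul, algebraMap_smul, TensorProduct.smul_tmul]
  have hQ : ∀ x ∈ (I ^ n).map (algebraMap A A'), ∀ k : A' ⧸ I.map (algebraMap A A') ^ n, x • k = 0 := by
    intro x hx k
    obtain ⟨k, rfl⟩ := Ideal.Quotient.mk_surjective k
    rw [Ideal.map_pow] at hx
    exact Ideal.Quotient.eq_zero_iff_mem.2 (Ideal.mul_mem_right k _ hx)
  haveI := key (A' ⧸ I.map (algebraMap A A') ^ n) hQ
  haveI := key N fun x hx k => Subtype.ext (hQ x hx k)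
  let eN := TensorProduct.equivOfCompatibleSMul A A' A B N
  let eQ := TensorProduct.equivOfCompatibleSMul A A' A B (A' ⧸ I.map (algebraMap A A') ^ n)
  have hc : ∀ z, eQ (N.subtype.lTensor B z) = (N.subtype.restrictScalars A).lTensor B (eN z) := by
    intro z
    induction z using TensorProduct.induction_on with
    | zero => simp only [map_zero]
    | add y z hy hz => simp only [map_add, hy, hz]
    | tmul b k => rfl
  intro z w h
  refine eN.injective (Module.Flat.lTensor_preserves_injective_linearMap (M := B) (N.subtype.restrictScalars A)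
    Subtype.val_injective ?_)
  rw [← hc, ← hc, h]

/-- For a flat local homomorphism, `Â → Â'` is faithfully flat. -/
theorem exists_cpl_faithfullyFlat (A A' : Type u) [CommRing A] [CommRing A'] [IsNoetherianRing A] [IsNoetherianRing A']
    [IsLocalRing A] [IsLocalRing A'] [Algebra A A'] [IsLocalHom (algebraMap A A')] [Module.Flat A A'] :
    ∃ (_ : Algebra (EGA4.Cpl A) (EGA4.Cpl A')), IsScalarTower A (EGA4.Cpl A) (EGA4.Cpl A') ∧
      Module.FaithfullyFlat (EGA4.Cpl A) (EGA4.Cpl A') := by
  obtain ⟨hN, -, -⟩ := cpl_facts A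
  haveI := hN
  obtain ⟨hN', hff', -⟩ := cpl_facts A'
  haveI := hN'
  haveI := hff'
  haveI : Module.Flat A (EGA4.Cpl A') := Module.Flat.trans A A' (EGA4.Cpl A')
  have hle : (maximalIdeal A).map (algebraMap A A') ≤ maximalIdeal A' :=
    Ideal.map_le_iff_le_comap.2 fun a ha => (mem_maximalIdeal _).2 fun hu => (mem_maximalIdeal a).1 ha (IsUnit.of_map _ a hu)
  obtain ⟨θ⟩ := exists_cplMap A A' (maximalIdeal A) (maximalIdeal A') hle
  letI iA : Algebra (EGA4.Cpl A) (EGA4.Cpl A') := θ.toRingHom.toAlgebra
  haveI hsc : IsScalarTower A (EGA4.Cpl A) (EGA4.Cpl A') := IsScalarTower.of_algebraMap_eq fun a => (θ.commutes a).symm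
  have hm : (maximalIdeal A).map (algebraMap A (EGA4.Cpl A')) ≤ maximalIdeal (EGA4.Cpl A') := by
    rw [IsScalarTower.algebraMap_eq A A' (EGA4.Cpl A'), ← Ideal.map_map, AdicCompletion.maximalIdeal_eq_map]
    exact Ideal.map_mono hle
  haveI : Module.Flat (EGA4.Cpl A) (EGA4.Cpl A') := by
    refine flat_of_dense A (EGA4.Cpl A) (EGA4.Cpl A') (maximalIdeal A) ?_ fun n x => ?_
    · exact hm.trans (IsLocalRing.jacobson_eq_maximalIdeal ⊥ bot_ne_top).ge
    · obtain ⟨a, ha⟩ := exists_approx A n x
      exact ⟨a, by rwa [Ideal.map_pow]⟩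
  haveI : IsLocalHom (algebraMap (EGA4.Cpl A) (EGA4.Cpl A')) := ⟨fun x hx => by
    by_contra h
    have hmem : x ∈ maximalIdeal (EGA4.Cpl A) := (mem_maximalIdeal x).2 h
    rw [AdicCompletion.maximalIdeal_eq_map] at hmem
    have h2 := Ideal.mem_map_of_mem (algebraMap (EGA4.Cpl A) (EGA4.Cpl A')) hmem
    rw [Ideal.map_map, ← IsScalarTower.algebraMap_eq] at h2
    exact (mem_maximalIdeal _).1 (hm h2) hx⟩
  exact ⟨iA, hsc, Module.FaithfullyFlat.of_flat_of_isLocalHom⟩

/-- Regular homomorphisms descend along a faithfully flat extension of the target. -/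
theorem isRegularHom_descend (A B C : Type u) [CommRing A] [CommRing B] [CommRing C] [IsNoetherianRing B]
    [IsNoetherianRing C] [Algebra A B] [Algebra B C] [Algebra A C] [IsScalarTower A B C] [Module.FaithfullyFlat B C]
    (hAC : CAlg.IsRegularHom A C) : CAlg.IsRegularHom A B := by
  haveI := hAC.1
  refine ⟨flat_of_comp_faithfullyFlat A B C, fun p _ => ⟨isNoetherianRing_fiber A B p, fun k' _ _ hfin => ?_⟩⟩
  haveI := hfin
  letI : Algebra A k' := ((algebraMap p.ResidueField k').comp (algebraMap A p.ResidueField)).toAlgebra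
  haveI : IsScalarTower A p.ResidueField k' := IsScalarTower.of_algebraMap_eq fun _ => rfl
  let R := k' ⊗[A] B
  letI : Algebra B R := Algebra.TensorProduct.rightAlgebra
  haveI : IsNoetherianRing R := isNoetherianRing_tensor_finite A B p k'
  have : IsScalarTower A B R := IsScalarTower.of_algebraMap_eq fun a => by
    simp only [RingHom.algebraMap_toAlgebra]
    exact ((Algebra.TensorProduct.includeRight : B →ₐ[A] R).commutes a).symm
  let e : R ⊗[B] C ≃+* k' ⊗[A] C :=
    ((Algebra.TensorProduct.comm B R C).toRingEquiv.trans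
      ((Algebra.TensorProduct.congr (AlgEquiv.refl : C ≃ₐ[B] C)
        ({ (Algebra.TensorProduct.comm A k' B).toRingEquiv with commutes' := fun b => Algebra.TensorProduct.comm_tmul A (1 : k') b } :
          R ≃ₐ[B] B ⊗[A] k')).toRingEquiv.trans
        ((Algebra.TensorProduct.cancelBaseChange A B B C k').toRingEquiv.trans
          (Algebra.TensorProduct.comm A C k').toRingEquiv)))
  have h1 : IsRegularRing (k' ⊗[A] C) :=
    isRegularRing_of_ringEquiv' (Algebra.TensorProduct.cancelBaseChange A p.ResidueField p.ResidueField k' C).toRingEquiv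
      ((hAC.2 p).2 k' hfin)
  have h2 : IsRegularRing R := isRegularRing_descend R (R ⊗[B] C) (isRegularRing_of_ringEquiv' e.symm h1)
  exact isRegularRing_of_ringEquiv'
    (Algebra.TensorProduct.cancelBaseChange A p.ResidueField p.ResidueField k' B).toRingEquiv.symm h2

end Groth.Agent.RegLocus
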