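import Groth.Prelude.Def_EGA4b
import Mathlib

/-!
The fibre local ring `B_q/pB_q` is a local ring of the fibre `κ(p) ⊗ B`; geometric properties of fibres.
-/

set_option autoImplicit false

universe u

open IsLocalRing TensorProduct

namespace Groth.Agent.RegLocus

theorem exists_fibre_localization (A B : Type u) [CommRing A] [CommRing B] [Algebra A B] (q : Ideal B) [q.IsPrime] :
    ∃ (P : Ideal ((q.comap (algebraMap A B)).Fiber B)) (_ : P.IsPrime),
      Nonempty (Localization.AtPrime P ≃+* EGA4.FibLocRing A B q) := by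
  let p := q.comap (algebraMap A B)
  let P := PrimeSpectrum.primesOverOrderIsoFiber A B p ⟨q, ‹_›, ⟨rfl⟩⟩
  have h : P.asIdeal.comap (Algebra.TensorProduct.includeRight : B →ₐ[A] p.ResidueField ⊗[A] B) = q :=
    (PrimeSpectrum.coe_primesOverOrderIsoFiber_symm_apply (p := p) P).symm.trans
      (congrArg Subtype.val ((PrimeSpectrum.primesOverOrderIsoFiber A B p).symm_apply_apply _))
  refine ⟨P.asIdeal, P.isPrime, ?_⟩
  have key : ∀ (P : Ideal (p.Fiber B)) [P.IsPrime] (r : Ideal B) [r.IsPrime],
      P.comap (Algebra.TensorProduct.includeRight : B →ₐ[A] p.ResidueField ⊗[A] B) = r →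
      Nonempty (Localization.AtPrime P ≃+* Localization.AtPrime r ⧸ p.map (algebraMap A (Localization.AtPrime r))) := by
    intro P _ r _ hr
    subst hr
    exact ⟨((Ideal.Fiber.algEquivAux₂ p P).toRingEquiv).trans (Ideal.quotEquivOfEq (by
      rw [Ideal.map_map, ← IsScalarTower.algebraMap_eq]))⟩
  exact key P.asIdeal q h

theorem localization_equiv {R S : Type u} [CommRing R] [CommRing S] (e : R ≃+* S) (P : Ideal R) [P.IsPrime] :
    ∃ (Q : Ideal S) (_ : Q.IsPrime), Nonempty (Localization.AtPrime Q ≃+* Localization.AtPrime P) := by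
  let Q : Ideal S := P.comap e.symm.toRingHom
  refine ⟨Q, inferInstance, ⟨(IsLocalization.ringEquivOfRingEquiv (M := P.primeCompl) (T := Q.primeCompl)
    (Localization.AtPrime P) (Localization.AtPrime Q) e ?_).symm⟩⟩
  ext x
  simp only [Submonoid.mem_map, Q, Ideal.mem_primeCompl_iff, Ideal.mem_comap]
  exact ⟨fun ⟨y, hy, hxy⟩ => by subst hxy; simpa using hy, fun hx => ⟨e.symm x, hx, by simp⟩⟩

theorem isNormalRing_of_equiv {R S : Type u} [CommRing R] [CommRing S] (e : R ≃+* S) (h : EGA4.IsNormalRing R) :
    EGA4.IsNormalRing S := fun P _ => by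
  obtain ⟨Q, hQ, ⟨f⟩⟩ := localization_equiv e.symm P
  obtain ⟨h1, h2⟩ := h Q
  exact ⟨f.symm.toMulEquiv.isDomain, IsIntegrallyClosed.of_equiv (R := Localization.AtPrime Q) f⟩

theorem fibLoc_normal (A B : Type u) [CommRing A] [CommRing B] [Algebra A B]
    (h : ∀ (p : Ideal A) [p.IsPrime], EGA4.IsGeomNormal p.ResidueField (p.Fiber B)) (q : Ideal B) [q.IsPrime] :
    IsDomain (EGA4.FibLocRing A B q) ∧ IsIntegrallyClosed (EGA4.FibLocRing A B q) := by
  obtain ⟨P, hP, ⟨f⟩⟩ := exists_fibre_localization A B q
  obtain ⟨h1, h2⟩ := isNormalRing_of_equiv (Algebra.TensorProduct.lid (q.comap (algebraMap A B)).ResidueField _).toRingEquiv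
    (h (q.comap (algebraMap A B)) (q.comap (algebraMap A B)).ResidueField inferInstance) P
  exact ⟨f.symm.toMulEquiv.isDomain, IsIntegrallyClosed.of_equiv (R := Localization.AtPrime P) f⟩

theorem fibLoc_reduced (A B : Type u) [CommRing A] [CommRing B] [Algebra A B]
    (h : ∀ (p : Ideal A) [p.IsPrime], Algebra.IsGeometricallyReduced p.ResidueField (p.Fiber B)) (q : Ideal B) [q.IsPrime] :
    IsReduced (EGA4.FibLocRing A B q) := by
  obtain ⟨P, hP, ⟨f⟩⟩ := exists_fibre_localization A B q
  have := h (q.comap (algebraMap A B))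
  have : IsReduced ((q.comap (algebraMap A B)).Fiber B) :=
    Algebra.isReduced_of_isGeometricallyReduced (q.comap (algebraMap A B)).ResidueField
  exact isReduced_of_injective f.symm f.symm.injective

/-- flat over reduced with reduced fibres is reduced -/
theorem isReduced_of_flat (A B : Type u) [CommRing A] [CommRing B] [IsNoetherianRing B] [Algebra A B] [Module.Flat A B]
    [IsReduced A] [IsNoetherianRing A] (hfib : ∀ (q : Ideal B) [q.IsPrime], IsReduced (EGA4.FibLocRing A B q)) : IsReduced B := by
  classical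
  refine ⟨fun x hx => ?_⟩
  by_contra hx0
  obtain ⟨Q, hQ, hle⟩ := exists_le_isAssociatedPrime_of_isNoetherianRing (R := B) x hx0
  have := hQ.isPrime
  obtain ⟨-, y, hy⟩ := isAssociatedPrime_iff.mp hQ
  let p := Q.comap (algebraMap A B)
  -- every element of `p` is a zero divisor of `A`
  have hzd : ∀ a ∈ p, ¬ IsSMulRegular A a := fun a ha hreg => by
    have h1 : IsSMulRegular B a := Module.Flat.isSMulRegular_of_isRegular (R := A) (M := B)
      (isLeftRegular_iff_isRegular.1 hreg)
    have h2 : algebraMap A B a * y = 0 := by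
      have := hy ▸ (show algebraMap A B a ∈ Q from ha)
      rwa [Submodule.mem_colon_singleton, smul_eq_mul, Submodule.mem_bot] at this
    have hy0 : y = 0 := h1 (show a • y = a • 0 by rw [smul_zero, Algebra.smul_def, h2])
    exact this.ne_top (hy.trans (eq_top_iff.mpr fun r _ => by simp [hy0, Submodule.mem_colon_singleton]))
  have hmin : p ∈ minimalPrimes A := by
    by_contra hnm
    have hsub : ¬ ((p : Set A) ⊆ ⋃ r ∈ ((minimalPrimes.finite_of_isNoetherianRing A).toFinset : Set (Ideal A)), (r : Set A)) := fun hs => by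
      obtain ⟨r, hr, hpr⟩ := (Ideal.subset_union_prime (R := A) (s := (minimalPrimes.finite_of_isNoetherianRing A).toFinset) (f := id) p p
        (fun r hr _ _ => ((Set.Finite.mem_toFinset _).1 hr).1.1)).1 hs
      have hr' := (Set.Finite.mem_toFinset _).1 hr
      have : r = p := le_antisymm (hr'.2 ⟨inferInstance, bot_le⟩ hpr) hpr
      exact hnm (this ▸ hr')
    obtain ⟨a, ha, hau⟩ := Set.not_subset.1 hsub
    refine hzd a ha (IsSMulRegular.of_right_eq_zero_of_smul fun c hc => ?_)
    have hc' : c ∈ nilradical A := by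
      rw [nilradical, ← Ideal.sInf_minimalPrimes, Submodule.mem_sInf]
      intro r hr
      exact (hr.1.1.mem_or_mem (show a * c ∈ r by rw [← smul_eq_mul, hc]; exact zero_mem _)).resolve_left
        fun h => hau (Set.mem_biUnion (Finset.mem_coe.2 ((Set.Finite.mem_toFinset _).2 hr)) h)
    exact (mem_nilradical.1 hc').eq_zero
  -- the fibre is the whole local ring
  let L := Localization.AtPrime Q
  have h0 : p.map (algebraMap A L) = ⊥ := by
    rw [eq_bot_iff, Ideal.map_le_iff_le_comap]
    intro a ha
    have : IsReduced (Localization.AtPrime p) := inferInstance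
    have hnil : algebraMap A (Localization.AtPrime p) a ∈ nilradical (Localization.AtPrime p) := by
      rw [nilradical_eq_sInf, Submodule.mem_sInf]
      intro P (hP : Ideal.IsPrime P)
      have hd := (IsLocalization.isPrime_iff_isPrime_disjoint p.primeCompl (Localization.AtPrime p) P).1 hP
      have hle' : Ideal.comap (algebraMap A (Localization.AtPrime p)) P ≤ p := fun x hx =>
        by_contra fun hxp => Set.disjoint_left.1 hd.2 hxp hx
      exact hmin.2 ⟨hd.1, bot_le⟩ hle' ha
    obtain ⟨s, hs⟩ := (IsLocalization.map_eq_zero_iff p.primeCompl _ a).1 (mem_nilradical.1 hnil).eq_zero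
    rw [Ideal.mem_comap, Submodule.mem_bot, IsScalarTower.algebraMap_apply A B L,
      IsLocalization.map_eq_zero_iff Q.primeCompl L]
    exact ⟨⟨algebraMap A B s, s.2⟩, by rw [← map_mul, hs, map_zero]⟩
  have : IsReduced L := isReduced_of_injective
    ((Ideal.quotEquivOfEq h0).trans (RingEquiv.quotientBot L)).symm
    ((Ideal.quotEquivOfEq h0).trans (RingEquiv.quotientBot L)).symm.injective
  obtain ⟨s, hs⟩ := (IsLocalization.map_eq_zero_iff Q.primeCompl L x).1 (hx.map (algebraMap B L)).eq_zero
  exact s.2 (hle (by rw [Submodule.mem_colon_singleton, smul_eq_mul, hs]; exact zero_mem _))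

end Groth.Agent.RegLocus
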