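import Groth.Agent.RegLocus.Smooth
import Groth.Agent.RegLocus.Fiber
import Groth.Agent.PBasis.Derivations
import Mathlib

/-!
`L ⊗_k K` is regular for `L/k` separable (geometrically reduced), when Noetherian.
-/

set_option autoImplicit false

universe u

open TensorProduct IsLocalRing
open scoped IntermediateField.algebraAdjoinAdjoin

namespace Groth.Agent.RegLocus

/-- ascent at a prime generated from below -/
theorem regular_of_map_comap (A B : Type u) [CommRing A] [CommRing B] [IsNoetherianRing B] [Algebra A B]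
    [Module.Flat A B] (P : Ideal B) [P.IsPrime]
    (hP : P ≤ (P.comap (algebraMap A B)).map (algebraMap A B))
    (h : IsRegularLocalRing (Localization.AtPrime (P.comap (algebraMap A B)))) :
    IsRegularLocalRing (Localization.AtPrime P) := by
  refine regular_ascend A B P h ?_
  have e : (P.comap (algebraMap A B)).map (algebraMap A (Localization.AtPrime P)) =
      maximalIdeal (Localization.AtPrime P) := by
    rw [IsScalarTower.algebraMap_eq A B (Localization.AtPrime P), ← Ideal.map_map,
      le_antisymm Ideal.map_comap_le hP, Localization.AtPrime.map_eq_maximalIdeal]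
  have hf : IsField (EGA4.FibLocRing A B P) :=
    (Ideal.Quotient.maximal_ideal_iff_isField_quotient _).1 (e ▸ maximalIdeal.isMaximal _)
  letI := hf.toField
  infer_instance

theorem regular_of_equiv {R S : Type u} [CommRing R] [CommRing S] (e : R ≃+* S)
    (h : ∀ (Q : Ideal R) [Q.IsPrime], IsRegularLocalRing (Localization.AtPrime Q)) (P : Ideal S) [P.IsPrime] :
    IsRegularLocalRing (Localization.AtPrime P) := by
  obtain ⟨Q, hQ, ⟨f⟩⟩ := localization_equiv e.symm P
  have := h Q
  exact IsRegularLocalRing.of_ringEquiv (R := Localization.AtPrime Q) f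

theorem flat_map_tensor (k K T L : Type u) [CommRing k] [CommRing K] [CommRing T] [CommRing L] [Algebra k K]
    [Algebra k T] [Algebra k L] [Algebra T L] [IsScalarTower k T L] [Module.Flat T L] :
    letI := ((Algebra.TensorProduct.map (IsScalarTower.toAlgHom k T L) (AlgHom.id k K)).toRingHom).toAlgebra
    Module.Flat (T ⊗[k] K) (L ⊗[k] K) := by
  letI := ((Algebra.TensorProduct.map (IsScalarTower.toAlgHom k T L) (AlgHom.id k K)).toRingHom).toAlgebra
  let e0 : (T ⊗[k] K) ⊗[T] L ≃+* L ⊗[k] K := (Algebra.TensorProduct.comm T (T ⊗[k] K) L).toRingEquiv.trans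
    (Algebra.TensorProduct.cancelBaseChange k T T L K).toRingEquiv
  let e : (T ⊗[k] K) ⊗[T] L ≃ₗ[T ⊗[k] K] L ⊗[k] K :=
    { e0.toAddEquiv with
      map_smul' := fun r x => by
        have key : ∀ r : T ⊗[k] K, e0 (algebraMap (T ⊗[k] K) ((T ⊗[k] K) ⊗[T] L) r) =
            algebraMap (T ⊗[k] K) (L ⊗[k] K) r := fun r => by
          induction r using TensorProduct.induction_on with
          | zero => simp only [map_zero]
          | tmul a b => simp [e0, RingHom.algebraMap_toAlgebra, Algebra.smul_def]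
          | add y z hy hz => simp only [map_add, hy, hz]
        change e0 (r • x) = algebraMap (T ⊗[k] K) (L ⊗[k] K) r * e0 x
        rw [Algebra.smul_def r x, map_mul, key] }
  exact Module.Flat.of_linearEquiv e.symm

theorem regular_tensor_of_fg (k K L0 : Type u) [Field k] [Field K] [Field L0] [Algebra k K] [Algebra k L0]
    [Algebra.IsGeometricallyReduced k L0] [Algebra.EssFiniteType k L0]
    (P : Ideal (L0 ⊗[k] K)) [P.IsPrime] : IsRegularLocalRing (Localization.AtPrime P) := by
  obtain ⟨F, hF⟩ := IntermediateField.fg_top k L0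
  let S0 := Algebra.adjoin k (F : Set L0)
  have : IsFractionRing S0 L0 := by
    refine IsFractionRing.of_field _ _ fun z => ?_
    obtain ⟨r, hr, s, hs, hz⟩ := IntermediateField.mem_adjoin_iff_div.1
      (show z ∈ IntermediateField.adjoin k (F : Set L0) from hF ▸ IntermediateField.mem_top)
    exact ⟨⟨r, hr⟩, ⟨s, hs⟩, hz⟩
  have : Algebra.FormallySmooth k L0 := PBasis.formallySmooth_of_isGeometricallyReduced'
  have : Algebra.FiniteType k S0 := (Subalgebra.fg_iff_finiteType _).1 (Subalgebra.fg_def.2 ⟨F, F.finite_toSet, rfl⟩)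
  have : Algebra.FinitePresentation k S0 := Algebra.FinitePresentation.of_finiteType.1 inferInstance
  let η : PrimeSpectrum S0 := ⟨⊥, Ideal.isPrime_bot⟩
  have hη : η ∈ Algebra.smoothLocus k S0 := by
    show Algebra.FormallySmooth k (Localization.AtPrime η.asIdeal)
    have hpc : (⊥ : Ideal S0).primeCompl = nonZeroDivisors S0 := by
      ext x; simp [Ideal.primeCompl, mem_nonZeroDivisors_iff_ne_zero]
    have : IsLocalization η.asIdeal.primeCompl L0 := by
      show IsLocalization (⊥ : Ideal S0).primeCompl L0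
      rw [hpc]; infer_instance
    exact Algebra.FormallySmooth.of_equiv
      ((IsLocalization.algEquiv η.asIdeal.primeCompl L0 (Localization.AtPrime η.asIdeal)).restrictScalars k)
  obtain ⟨_, ⟨s, rfl⟩, hxs, hsU⟩ :=
    PrimeSpectrum.isTopologicalBasis_basic_opens.isOpen_iff.1 Algebra.isOpen_smoothLocus η hη
  let T := Localization.Away s
  have : Algebra.Smooth k T := Algebra.basicOpen_subset_smoothLocus_iff_smooth.1 hsU
  have hs0 : (algebraMap S0 L0) s ≠ 0 := (map_ne_zero_iff _ (IsFractionRing.injective S0 L0)).2 fun h =>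
    hxs (h ▸ zero_mem _)
  have hunit : ∀ y : Submonoid.powers s, IsUnit (algebraMap S0 L0 y) := fun y => by
    obtain ⟨n, hn⟩ := y.2
    rw [← hn, map_pow]; exact (isUnit_iff_ne_zero.2 hs0).pow _
  letI : Algebra T L0 := (IsLocalization.lift (S := T) hunit).toAlgebra
  have : IsScalarTower S0 T L0 := IsScalarTower.of_algebraMap_eq fun x => (IsLocalization.lift_eq (S := T) hunit x).symm
  have hle : Submonoid.powers s ≤ nonZeroDivisors S0 := by
    rw [Submonoid.powers_le]
    exact mem_nonZeroDivisors_iff_ne_zero.2 fun h => hxs (h ▸ zero_mem _)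
  have : IsFractionRing T L0 := IsFractionRing.isFractionRing_of_isDomain_of_isLocalization (Submonoid.powers s) T L0
  have : Module.Flat T L0 := IsLocalization.flat L0 (nonZeroDivisors T)
  have : IsScalarTower k T L0 := IsScalarTower.of_algebraMap_eq fun x => by
    rw [IsScalarTower.algebraMap_apply k S0 T, ← IsScalarTower.algebraMap_apply S0 T L0]; rfl
  -- the smooth model
  have : IsNoetherianRing (K ⊗[k] T) := Algebra.FiniteType.isNoetherianRing K (K ⊗[k] T)
  have hreg : ∀ (Q : Ideal (K ⊗[k] T)) [Q.IsPrime], IsRegularLocalRing (Localization.AtPrime Q) := fun Q _ => by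
    have : Algebra.IsSmoothAt K Q := (Algebra.smoothLocus_eq_univ (R := K) (A := K ⊗[k] T)).ge
      (Set.mem_univ (⟨Q, ‹_›⟩ : PrimeSpectrum (K ⊗[k] T)))
    refine regular_of_smoothAt K (K ⊗[k] T) Q ?_
    exact S0564.result K _
  have : IsNoetherianRing (K ⊗[k] L0) := Algebra.EssFiniteType.isNoetherianRing K (K ⊗[k] L0)
  have : IsNoetherianRing (L0 ⊗[k] K) :=
    isNoetherianRing_of_ringEquiv _ (Algebra.TensorProduct.comm k K L0).toRingEquiv
  let cT : T ⊗[k] K →+* L0 ⊗[k] K :=
    (Algebra.TensorProduct.map (IsScalarTower.toAlgHom k T L0) (AlgHom.id k K)).toRingHom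
  letI : Algebra (T ⊗[k] K) (L0 ⊗[k] K) := cT.toAlgebra
  have hflat : Module.Flat (T ⊗[k] K) (L0 ⊗[k] K) := flat_map_tensor k K T L0
  refine regular_of_map_comap (T ⊗[k] K) (L0 ⊗[k] K) P ?_
    (regular_of_equiv (Algebra.TensorProduct.comm k K T).toRingEquiv hreg _)
  intro x hx
  have hden : ∀ y : L0 ⊗[k] K, ∃ t : nonZeroDivisors T, ∃ r : T ⊗[k] K,
      (algebraMap T L0 t ⊗ₜ[k] (1 : K)) * y = cT r := fun y => by
    induction y using TensorProduct.induction_on with
    | zero => exact ⟨1, 0, by simp⟩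
    | tmul a b =>
      obtain ⟨a', t, rfl⟩ := IsLocalization.exists_mk'_eq (nonZeroDivisors T) a
      refine ⟨t, a' ⊗ₜ b, ?_⟩
      have ht : algebraMap T L0 t ≠ 0 := (IsLocalization.map_units L0 t).ne_zero
      simp [cT, Algebra.TensorProduct.tmul_mul_tmul, IsLocalization.mk'_spec', mul_div_cancel₀ _ ht]
    | add y z hy hz =>
      obtain ⟨t, r, hr⟩ := hy
      obtain ⟨t', r', hr'⟩ := hz
      refine ⟨t * t', ((t' : T) ⊗ₜ (1 : K)) * r + ((t : T) ⊗ₜ (1 : K)) * r', ?_⟩
      have h1 : cT ((t' : T) ⊗ₜ (1 : K)) = algebraMap T L0 t' ⊗ₜ[k] (1 : K) := by simp [cT]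
      have h2 : cT ((t : T) ⊗ₜ (1 : K)) = algebraMap T L0 t ⊗ₜ[k] (1 : K) := by simp [cT]
      rw [map_add, map_mul, map_mul, h1, h2, ← hr, ← hr', Submonoid.coe_mul, map_mul,
        show (algebraMap T L0 t * algebraMap T L0 t') ⊗ₜ[k] (1 : K) = (algebraMap T L0 t ⊗ₜ[k] (1 : K)) * (algebraMap T L0 t' ⊗ₜ[k] (1 : K)) by
          rw [Algebra.TensorProduct.tmul_mul_tmul, one_mul]]
      ring
  obtain ⟨t, r, hr⟩ := hden x
  have hu : IsUnit (algebraMap T L0 (t : T) ⊗ₜ[k] (1 : K)) :=
    (IsLocalization.map_units L0 t).map (Algebra.TensorProduct.includeLeft (R := k) (S := k) (B := K))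
  rw [← Ideal.unit_mul_mem_iff_mem _ hu, hr]
  exact Ideal.mem_map_of_mem _ (show cT r ∈ P by rw [← hr]; exact P.mul_mem_left _ hx)

/-- tensor product of a separable extension with any extension is regular -/
theorem regular_tensor (k K L : Type u) [Field k] [Field K] [Field L] [Algebra k K] [Algebra k L]
    [Algebra.IsGeometricallyReduced k L] [IsNoetherianRing (L ⊗[k] K)]
    (P : Ideal (L ⊗[k] K)) [P.IsPrime] : IsRegularLocalRing (Localization.AtPrime P) := by
  classical
  obtain ⟨G, hG⟩ := (IsNoetherian.noetherian P : P.FG)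
  have hfin : ∀ x : L ⊗[k] K, ∃ F : Finset L, ∀ E : IntermediateField k L, ↑F ⊆ (E : Set L) →
      x ∈ (Algebra.TensorProduct.map E.val (AlgHom.id k K)).range := fun x => by
    induction x using TensorProduct.induction_on with
    | zero => exact ⟨∅, fun E _ => zero_mem _⟩
    | tmul a b => exact ⟨{a}, fun E hE => ⟨⟨a, hE (by simp)⟩ ⊗ₜ b, by simp⟩⟩
    | add y z hy hz =>
      obtain ⟨F, hF⟩ := hy
      obtain ⟨F', hF'⟩ := hz
      refine ⟨F ∪ F', fun E hE => ?_⟩
      rw [Finset.coe_union, Set.union_subset_iff] at hE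
      exact add_mem (hF E hE.1) (hF' E hE.2)
  choose F hF using hfin
  let F0 : Finset L := G.biUnion F
  let L0 := IntermediateField.adjoin k (F0 : Set L)
  let c := (Algebra.TensorProduct.map L0.val (AlgHom.id k K)).toRingHom
  letI : Algebra (L0 ⊗[k] K) (L ⊗[k] K) := c.toAlgebra
  have hflat : Module.Flat (L0 ⊗[k] K) (L ⊗[k] K) := flat_map_tensor k K L0 L
  have : Algebra.IsGeometricallyReduced k L0 := Algebra.IsGeometricallyReduced.of_injective L0.val L0.val.injective
  have : Algebra.EssFiniteType k L0 := IntermediateField.essFiniteType_iff.2 (IntermediateField.fg_adjoin_finset F0)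
  refine regular_of_map_comap (L0 ⊗[k] K) (L ⊗[k] K) P ?_ (regular_tensor_of_fg k K L0 _)
  conv_lhs => rw [← hG]
  refine Ideal.span_le.2 fun g hg => ?_
  obtain ⟨r, hr⟩ := hF g L0 (fun a ha => IntermediateField.subset_adjoin k _
    (Finset.mem_coe.2 (Finset.mem_biUnion.2 ⟨g, hg, ha⟩)))
  have hr' : c r = g := hr
  have hrP : c r ∈ P := by rw [hr', ← hG]; exact Ideal.subset_span hg
  rw [← hr']
  exact Ideal.mem_map_of_mem c (Ideal.mem_comap.2 hrP)

end Groth.Agent.RegLocus
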