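import Groth.Agent.RegLocus.Basic
import Groth.Agent.S9246

/-!
Smooth algebras over regular rings are regular.
-/

set_option autoImplicit false

universe u

open IsLocalRing

namespace Groth.Agent.RegLocus

theorem isRegularRing_of_regular_local (R : Type u) [CommRing R] [IsRegularLocalRing R] : IsRegularRing R :=
  (isRegularRing_iff).2 fun p _ => S0564.result R p

theorem regular_congr {R : Type u} [CommRing R] {I J : Ideal R} [I.IsPrime] [J.IsPrime] (e : I = J)
    (h : IsRegularLocalRing (Localization.AtPrime I)) : IsRegularLocalRing (Localization.AtPrime J) := by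
  subst e; exact h

theorem regular_mvPolynomial (R : Type u) [CommRing R] (n : ℕ) (Q : Ideal (MvPolynomial (Fin n) R))
    [Q.IsPrime] (h : IsRegularLocalRing (Localization.AtPrime (Q.comap (algebraMap R (MvPolynomial (Fin n) R))))) :
    IsRegularLocalRing (Localization.AtPrime Q) := by
  let p := Q.comap (algebraMap R (MvPolynomial (Fin n) R))
  let T := MvPolynomial (Fin n) (Localization.AtPrime p)
  letI : Algebra (MvPolynomial (Fin n) R) T := MvPolynomial.algebraMvPolynomial
  let M := p.primeCompl.map (MvPolynomial.C (σ := Fin n))
  have : IsLocalization M T := MvPolynomial.isLocalization _ _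
  have hd : Disjoint (M : Set (MvPolynomial (Fin n) R)) (Q : Set (MvPolynomial (Fin n) R)) := by
    refine Set.disjoint_left.2 ?_
    rintro _ ⟨a, ha, rfl⟩ haQ
    exact ha haQ
  have := IsLocalization.isPrime_of_isPrime_disjoint M T Q ‹_› hd
  let Q' := Q.map (algebraMap (MvPolynomial (Fin n) R) T)
  have := isRegularRing_of_regular_local (Localization.AtPrime p)
  have h' : IsRegularLocalRing (Localization.AtPrime Q') := isRegularRing_iff.1 inferInstance Q'
  have := IsLocalization.isLocalization_isLocalization_atPrime_isLocalization M (Localization.AtPrime Q') Q'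
  simp_rw [Q', IsLocalization.under_map_of_isPrime_disjoint M _ ‹Q.IsPrime› hd] at this
  exact IsRegularLocalRing.of_ringEquiv (R := Localization.AtPrime Q')
    (IsLocalization.algEquiv Q.primeCompl (Localization.AtPrime Q') (Localization.AtPrime Q)).toRingEquiv

/-- smooth at a point over a regular point -/
theorem regular_of_smoothAt (R S : Type u) [CommRing R] [CommRing S] [IsNoetherianRing R] [Algebra R S]
    [Algebra.FinitePresentation R S] (P : Ideal S) [P.IsPrime] [Algebra.IsSmoothAt R P]
    (h : IsRegularLocalRing (Localization.AtPrime (P.comap (algebraMap R S)))) :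
    IsRegularLocalRing (Localization.AtPrime P) := by
  obtain ⟨f, hf, n, _, _, _⟩ := Algebra.IsSmoothAt.exists_isStandardEtale_mvPolynomial (R := R) (p := P)
  let L := Localization.Away f
  have hd : Disjoint (Submonoid.powers f : Set S) (P : Set S) :=
    (Ideal.disjoint_powers_iff_notMem_of_isPrime _).mpr hf
  let P' := P.map (algebraMap S L)
  have : P'.IsPrime := IsLocalization.isPrime_of_isPrime_disjoint (.powers f) _ _ ‹_› hd
  have hcomap : P'.comap (algebraMap S L) = P := IsLocalization.under_map_of_isPrime_disjoint (.powers f) _ ‹_› hd
  let Q := P'.comap (algebraMap (MvPolynomial (Fin n) R) L)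
  have hQ : IsRegularLocalRing (Localization.AtPrime Q) := by
    refine regular_mvPolynomial R n Q ?_
    have e : Q.comap (algebraMap R (MvPolynomial (Fin n) R)) = P.comap (algebraMap R S) := by
      rw [Ideal.comap_comap, ← IsScalarTower.algebraMap_eq R (MvPolynomial (Fin n) R) L,
        IsScalarTower.algebraMap_eq R S L, ← Ideal.comap_comap, hcomap]
    exact regular_congr e.symm h
  have hL := (S9246.result (MvPolynomial (Fin n) R) L P').1 hQ
  have := IsLocalization.isLocalization_isLocalization_atPrime_isLocalization (Submonoid.powers f) (Localization.AtPrime P') P'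
  simp_rw [P', IsLocalization.under_map_of_isPrime_disjoint (Submonoid.powers f) _ ‹P.IsPrime› hd] at this
  exact IsRegularLocalRing.of_ringEquiv (R := Localization.AtPrime P')
    (IsLocalization.algEquiv P.primeCompl (Localization.AtPrime P') (Localization.AtPrime P)).toRingEquiv

end Groth.Agent.RegLocus
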