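import Groth.Agent.RegLocus.GeomExt
import Groth.Agent.FpqcDescent.Flat

/-!
Base change of regular and normal homomorphisms.
-/

set_option autoImplicit false

universe u

open TensorProduct

namespace Groth.Agent.RegLocus

theorem exists_fg_subfield (k S K : Type u) [Field k] [CommRing S] [Algebra k S] [Field K] [Algebra k K]
    (G : Finset (K ⊗[k] S)) :
    ∃ (L : IntermediateField k K), Algebra.EssFiniteType k L ∧
      ∀ g ∈ G, g ∈ (Algebra.TensorProduct.map L.val (AlgHom.id k S)).range := by
  classical
  have hfin : ∀ x : K ⊗[k] S, ∃ F : Finset K, ∀ E : IntermediateField k K, ↑F ⊆ (E : Set K) →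
      x ∈ (Algebra.TensorProduct.map E.val (AlgHom.id k S)).range := fun x => by
    induction x using TensorProduct.induction_on with
    | zero => exact ⟨∅, fun E _ => zero_mem _⟩
    | tmul a b => exact ⟨{a}, fun E hE => ⟨⟨a, hE (by simp)⟩ ⊗ₜ b, by simp⟩⟩
    | add y z hy hz =>
      obtain ⟨F, hF⟩ := hy
      obtain ⟨F', hF'⟩ := hz
      refine ⟨F ∪ F', fun E hE => ?_⟩
      rw [Finset.coe_union, Set.union_subset_iff] at hE
      exact add_mem (hF E hE.1) (hF' E hE.2)
  choose F hF using hfin
  refine ⟨IntermediateField.adjoin k (G.biUnion F : Set K),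
    IntermediateField.essFiniteType_iff.2 (IntermediateField.fg_adjoin_finset _), fun g hg => hF g _ fun a ha =>
      IntermediateField.subset_adjoin k _ (Finset.mem_coe.2 (Finset.mem_biUnion.2 ⟨g, hg, ha⟩))⟩

theorem le_map_comap_tensor (k S L K : Type u) [Field k] [CommRing S] [Algebra k S] [Field L] [Field K] [Algebra k L]
    [Algebra k K] [Algebra L K] [IsScalarTower k L K] (Q : Ideal (K ⊗[k] S)) (G : Finset (K ⊗[k] S))
    (hG : Ideal.span (G : Set (K ⊗[k] S)) = Q)
    (hr : ∀ g ∈ G, g ∈ (Algebra.TensorProduct.map (IsScalarTower.toAlgHom k L K) (AlgHom.id k S)).range) :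
    letI := ((Algebra.TensorProduct.map (IsScalarTower.toAlgHom k L K) (AlgHom.id k S)).toRingHom).toAlgebra
    Q ≤ (Q.comap (algebraMap (L ⊗[k] S) (K ⊗[k] S))).map (algebraMap (L ⊗[k] S) (K ⊗[k] S)) := by
  letI := ((Algebra.TensorProduct.map (IsScalarTower.toAlgHom k L K) (AlgHom.id k S)).toRingHom).toAlgebra
  conv_lhs => rw [← hG]
  refine Ideal.span_le.2 fun g hg => ?_
  obtain ⟨r, hr'⟩ := hr g hg
  have hr'' : algebraMap (L ⊗[k] S) (K ⊗[k] S) r = g := hr'
  rw [← hr'']
  exact Ideal.mem_map_of_mem _ (Ideal.mem_comap.2 (by rw [hr'', ← hG]; exact Ideal.subset_span hg))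

theorem isRegularRing_of_fg_subfields (k S : Type u) [Field k] [CommRing S] [Algebra k S]
    (K : Type u) [Field K] [Algebra k K] [IsNoetherianRing (K ⊗[k] S)]
    (h : ∀ (L : IntermediateField k K), Algebra.EssFiniteType k L → IsRegularRing (L ⊗[k] S)) :
    IsRegularRing (K ⊗[k] S) := ⟨fun Q _ => by
  obtain ⟨G, hG⟩ := (IsNoetherian.noetherian Q : Q.FG)
  obtain ⟨L, hL, hr⟩ := exists_fg_subfield k S K G
  letI : Algebra (L ⊗[k] S) (K ⊗[k] S) :=
    ((Algebra.TensorProduct.map (IsScalarTower.toAlgHom k L K) (AlgHom.id k S)).toRingHom).toAlgebra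
  have : Module.Flat (L ⊗[k] S) (K ⊗[k] S) := flat_map_tensor k S L K
  exact regular_of_map_comap (L ⊗[k] S) (K ⊗[k] S) Q (le_map_comap_tensor k S L K Q G hG hr)
    ((h L hL).isRegularLocalRing_localization _)⟩

theorem fibLoc_isField (A B : Type u) [CommRing A] [CommRing B] [Algebra A B] (P : Ideal B) [P.IsPrime]
    (hP : P ≤ (P.comap (algebraMap A B)).map (algebraMap A B)) : IsField (EGA4.FibLocRing A B P) := by
  have e : (P.comap (algebraMap A B)).map (algebraMap A (Localization.AtPrime P)) =
      IsLocalRing.maximalIdeal (Localization.AtPrime P) := by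
    rw [IsScalarTower.algebraMap_eq A B (Localization.AtPrime P), ← Ideal.map_map,
      le_antisymm Ideal.map_comap_le hP, Localization.AtPrime.map_eq_maximalIdeal]
  exact (Ideal.Quotient.maximal_ideal_iff_isField_quotient _).1 (e ▸ IsLocalRing.maximalIdeal.isMaximal _)

theorem normal_key_of_map_comap (A B : Type u) [CommRing A] [CommRing B] [IsNoetherianRing A] [IsNoetherianRing B]
    [Algebra A B] [Module.Flat A B] (P : Ideal B) [P.IsPrime]
    (hP : P ≤ (P.comap (algebraMap A B)).map (algebraMap A B)) (h : EGA4.IsNormalRing A) :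
    (P.height ≤ 1 → IsRegularLocalRing (Localization.AtPrime P)) ∧
      (2 ≤ P.height → 2 ≤ LocCoh.depth (Localization.AtPrime P) (Localization.AtPrime P)) := by
  obtain ⟨h1, h2⟩ := h (P.comap (algebraMap A B))
  letI := (fibLoc_isField A B P hP).toField
  exact S2611.key A B P ⟨inferInstance, inferInstance⟩

theorem isNormalRing_of_key (R : Type u) [CommRing R] [IsNoetherianRing R]
    (h : ∀ (P : Ideal R) [P.IsPrime], (P.height ≤ 1 → IsRegularLocalRing (Localization.AtPrime P)) ∧
      (2 ≤ P.height → 2 ≤ LocCoh.depth (Localization.AtPrime P) (Localization.AtPrime P))) :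
    EGA4.IsNormalRing R := by
  refine CAlgSerre.normal_iff.2 ⟨fun p _ hp => (h p).1 (by exact_mod_cast hp), fun p _ => ?_⟩
  rw [Depth.supportDim_localizedSelf, Depth.depth_congr (Depth.localizedSelfEquiv p.primeCompl)]
  rcases le_or_gt p.height 1 with h1 | h1
  · refine (min_le_right _ _).trans ?_
    rcases eq_or_ne p.height 0 with h0 | h0
    · rw [h0]; exact WithBot.coe_le_coe.2 bot_le
    · have := (h p).1 h1
      have : IsDomain (Localization.AtPrime p) := CAlgReg.isDomain
      refine WithBot.coe_le_coe.2 (h1.trans (CAlgSerre.one_le_depth fun hf => h0 ?_))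
      have := IsLocalization.AtPrime.ringKrullDim_eq_height p (Localization.AtPrime p)
      rw [ringKrullDim_eq_zero_of_isField hf] at this
      exact (WithBot.coe_eq_coe.1 this).symm
  · exact (min_le_left _ _).trans (WithBot.coe_le_coe.2 ((h p).2 (Order.add_one_le_of_lt h1)))

theorem isNormalRing_of_fg_subfields (k S : Type u) [Field k] [CommRing S] [Algebra k S] [IsNoetherianRing S]
    (K : Type u) [Field K] [Algebra k K] [IsNoetherianRing (K ⊗[k] S)]
    (h : ∀ (L : IntermediateField k K), Algebra.EssFiniteType k L → EGA4.IsNormalRing (L ⊗[k] S)) :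
    EGA4.IsNormalRing (K ⊗[k] S) := by
  refine isNormalRing_of_key _ fun Q _ => ?_
  obtain ⟨G, hG⟩ := (IsNoetherian.noetherian Q : Q.FG)
  obtain ⟨L, hL, hr⟩ := exists_fg_subfield k S K G
  letI : Algebra (L ⊗[k] S) (K ⊗[k] S) :=
    ((Algebra.TensorProduct.map (IsScalarTower.toAlgHom k L K) (AlgHom.id k S)).toRingHom).toAlgebra
  have : Module.Flat (L ⊗[k] S) (K ⊗[k] S) := flat_map_tensor k S L K
  have : IsNoetherianRing (S ⊗[k] L) := Algebra.EssFiniteType.isNoetherianRing S (S ⊗[k] L)
  have : IsNoetherianRing (L ⊗[k] S) := isNoetherianRing_of_ringEquiv _ (Algebra.TensorProduct.comm k S L).toRingEquiv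
  exact normal_key_of_map_comap (L ⊗[k] S) (K ⊗[k] S) Q (le_map_comap_tensor k S L K Q G hG hr) (h L hL)

/-- geometric properties on finite extensions pass to any field, given finiteness on one side -/
theorem isRegularRing_any (k S : Type u) [Field k] [CommRing S] [Algebra k S] [IsNoetherianRing S]
    (h : CAlg.IsGeometricallyRegular k S) (K : Type u) [Field K] [Algebra k K] [IsNoetherianRing (K ⊗[k] S)] :
    IsRegularRing (K ⊗[k] S) :=
  isRegularRing_of_fg_subfields k S K fun L hL => isRegularRing_ext k S (fun k' _ _ hf _ => h k' hf) L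

theorem isNormalRing_any (k S : Type u) [Field k] [CommRing S] [Algebra k S] [IsNoetherianRing S]
    (h : EGA4.IsGeomNormal k S) (K : Type u) [Field K] [Algebra k K] [IsNoetherianRing (K ⊗[k] S)] :
    EGA4.IsNormalRing (K ⊗[k] S) :=
  isNormalRing_of_fg_subfields k S K fun L hL => isNormalRing_ext k S (fun k' _ _ hf _ => h k' hf) L

theorem isNoetherianRing_tensor_of_ft (A B A' : Type u) [CommRing A] [CommRing B] [CommRing A'] [IsNoetherianRing B]
    [IsNoetherianRing A'] [Algebra A B] [Algebra A A'] (hft : Algebra.FiniteType A B ∨ Algebra.FiniteType A A') :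
    IsNoetherianRing (A' ⊗[A] B) := by
  rcases hft with h | h
  · exact Algebra.FiniteType.isNoetherianRing A' (A' ⊗[A] B)
  · have := Algebra.FiniteType.isNoetherianRing B (B ⊗[A] A')
    exact isNoetherianRing_of_ringEquiv _ (Algebra.TensorProduct.comm A B A').toRingEquiv

theorem isNoetherianRing_finite_tensor (k F k' : Type u) [Field k] [CommRing F] [Algebra k F] [IsNoetherianRing F]
    [CommRing k'] [Algebra k k'] [Module.Finite k k'] : IsNoetherianRing (k' ⊗[k] F) := by
  have : IsNoetherianRing (F ⊗[k] k') := Algebra.FiniteType.isNoetherianRing F _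
  exact isNoetherianRing_of_ringEquiv _ (Algebra.TensorProduct.comm k F k').toRingEquiv

/-- Forward direction: a property of all field extensions of a fibre gives it for the fibre of the base change. -/
theorem fibre_baseChange (P : ∀ (R : Type u) [CommRing R], Prop)
    (hequiv : ∀ {R S : Type u} [CommRing R] [CommRing S], (R ≃+* S) → P R → P S)
    (A B A' : Type u) [CommRing A] [CommRing B] [CommRing A'] [Algebra A B] [Algebra A A']
    (p' : Ideal A') [p'.IsPrime] (hN : IsNoetherianRing (p'.Fiber (A' ⊗[A] B)))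
    (h : ∀ (K : Type u) [Field K] [Algebra (p'.comap (algebraMap A A')).ResidueField K]
      [IsNoetherianRing (K ⊗[(p'.comap (algebraMap A A')).ResidueField] (p'.comap (algebraMap A A')).Fiber B)],
      P (K ⊗[(p'.comap (algebraMap A A')).ResidueField] (p'.comap (algebraMap A A')).Fiber B))
    (k' : Type u) [Field k'] [Algebra p'.ResidueField k'] (hk' : Module.Finite p'.ResidueField k') :
    P (k' ⊗[p'.ResidueField] p'.Fiber (A' ⊗[A] B)) := by
  let p := p'.comap (algebraMap A A')
  letI : Algebra p.ResidueField p'.ResidueField :=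
    (Ideal.ResidueField.map p p' (algebraMap A A') rfl).toAlgebra
  have : IsScalarTower A p.ResidueField p'.ResidueField := IsScalarTower.of_algebraMap_eq fun a =>
    ((Ideal.ResidueField.map_algebraMap p p' (algebraMap A A') rfl a).trans (by
      rw [← IsScalarTower.algebraMap_apply A A' p'.ResidueField])).symm
  letI : Algebra A' k' := ((algebraMap p'.ResidueField k').comp (algebraMap A' p'.ResidueField)).toAlgebra
  have : IsScalarTower A' p'.ResidueField k' := IsScalarTower.of_algebraMap_eq' rfl
  letI : Algebra A k' := ((algebraMap A' k').comp (algebraMap A A')).toAlgebra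
  have : IsScalarTower A A' k' := IsScalarTower.of_algebraMap_eq' rfl
  letI : Algebra p.ResidueField k' := ((algebraMap p'.ResidueField k').comp (algebraMap p.ResidueField p'.ResidueField)).toAlgebra
  have : IsScalarTower p.ResidueField p'.ResidueField k' := IsScalarTower.of_algebraMap_eq' rfl
  have : IsScalarTower A p.ResidueField k' := IsScalarTower.of_algebraMap_eq fun a => by
    rw [IsScalarTower.algebraMap_apply p.ResidueField p'.ResidueField k', ← IsScalarTower.algebraMap_apply A p.ResidueField p'.ResidueField,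
      IsScalarTower.algebraMap_apply A A' p'.ResidueField]
    rfl
  have e2 : k' ⊗[p.ResidueField] p.Fiber B ≃+* k' ⊗[p'.ResidueField] p'.Fiber (A' ⊗[A] B) :=
    ((Algebra.TensorProduct.cancelBaseChange A p.ResidueField p.ResidueField k' B).toRingEquiv.trans
      (Algebra.TensorProduct.cancelBaseChange A A' A' k' B).symm.toRingEquiv).trans
      (Algebra.TensorProduct.cancelBaseChange A' p'.ResidueField p'.ResidueField k' (A' ⊗[A] B)).symm.toRingEquiv
  have : IsNoetherianRing (k' ⊗[p'.ResidueField] p'.Fiber (A' ⊗[A] B)) :=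
    isNoetherianRing_finite_tensor p'.ResidueField (p'.Fiber (A' ⊗[A] B)) k'
  have : IsNoetherianRing (k' ⊗[p.ResidueField] p.Fiber B) := isNoetherianRing_of_ringEquiv (k' ⊗[p'.ResidueField] p'.Fiber (A' ⊗[A] B)) e2.symm
  exact hequiv e2 (h k')

theorem descend_field (P : ∀ (R : Type u) [CommRing R], Prop)
    (hdesc : ∀ (A B : Type u) [CommRing A] [CommRing B] [Algebra A B] [IsNoetherianRing A] [IsNoetherianRing B]
      [Module.FaithfullyFlat A B], P B → P A)
    (κ F k k' : Type u) [Field κ] [CommRing F] [Algebra κ F] [Field k] [Field k'] [Algebra κ k] [Algebra κ k']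
    [Algebra k k'] [IsScalarTower κ k k'] [IsNoetherianRing (k ⊗[κ] F)] [IsNoetherianRing (k' ⊗[κ] F)]
    (h : P (k' ⊗[κ] F)) : P (k ⊗[κ] F) := by
  letI := ((Algebra.TensorProduct.map (IsScalarTower.toAlgHom κ k k') (AlgHom.id κ F)).toRingHom).toAlgebra
  have : Module.FaithfullyFlat (k ⊗[κ] F) (k' ⊗[κ] F) := faithfullyFlat_map_tensor κ F k k'
  exact hdesc (k ⊗[κ] F) (k' ⊗[κ] F) h

theorem fibre_descend_core (P : ∀ (R : Type u) [CommRing R], Prop)
    (hequiv : ∀ {R S : Type u} [CommRing R] [CommRing S], (R ≃+* S) → P R → P S)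
    (hdesc : ∀ (A B : Type u) [CommRing A] [CommRing B] [Algebra A B] [IsNoetherianRing A] [IsNoetherianRing B]
      [Module.FaithfullyFlat A B], P B → P A)
    (A B A' : Type u) [CommRing A] [CommRing B] [CommRing A'] [Algebra A B] [Algebra A A']
    (p' : Ideal A') [p'.IsPrime] [IsNoetherianRing (p'.Fiber (A' ⊗[A] B))]
    [IsNoetherianRing ((p'.comap (algebraMap A A')).Fiber B)]
    [Algebra (p'.comap (algebraMap A A')).ResidueField p'.ResidueField]
    [IsScalarTower A (p'.comap (algebraMap A A')).ResidueField p'.ResidueField]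
    (k : Type u) [Field k] [Algebra (p'.comap (algebraMap A A')).ResidueField k]
    [Module.Finite (p'.comap (algebraMap A A')).ResidueField k]
    (k' : Type u) [Field k'] [Algebra p'.ResidueField k'] (hfin : Module.Finite p'.ResidueField k') [Algebra k k']
    [Algebra (p'.comap (algebraMap A A')).ResidueField k']
    [IsScalarTower (p'.comap (algebraMap A A')).ResidueField p'.ResidueField k']
    [IsScalarTower (p'.comap (algebraMap A A')).ResidueField k k']
    (h : ∀ (k' : Type u) [Field k'] [Algebra p'.ResidueField k'], Module.Finite p'.ResidueField k' →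
      P (k' ⊗[p'.ResidueField] p'.Fiber (A' ⊗[A] B))) :
    P (k ⊗[(p'.comap (algebraMap A A')).ResidueField] (p'.comap (algebraMap A A')).Fiber B) := by
  let p := p'.comap (algebraMap A A')
  letI : Algebra A' k' := ((algebraMap p'.ResidueField k').comp (algebraMap A' p'.ResidueField)).toAlgebra
  have : IsScalarTower A' p'.ResidueField k' := IsScalarTower.of_algebraMap_eq' rfl
  letI : Algebra A k' := ((algebraMap A' k').comp (algebraMap A A')).toAlgebra
  have : IsScalarTower A A' k' := IsScalarTower.of_algebraMap_eq' rfl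
  have : IsScalarTower A p.ResidueField k' := IsScalarTower.of_algebraMap_eq fun a => by
    rw [IsScalarTower.algebraMap_apply p.ResidueField p'.ResidueField k', ← IsScalarTower.algebraMap_apply A p.ResidueField p'.ResidueField,
      IsScalarTower.algebraMap_apply A A' p'.ResidueField]
    rfl
  have e2 : k' ⊗[p.ResidueField] p.Fiber B ≃+* k' ⊗[p'.ResidueField] p'.Fiber (A' ⊗[A] B) :=
    ((Algebra.TensorProduct.cancelBaseChange A p.ResidueField p.ResidueField k' B).toRingEquiv.trans
      (Algebra.TensorProduct.cancelBaseChange A A' A' k' B).symm.toRingEquiv).trans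
      (Algebra.TensorProduct.cancelBaseChange A' p'.ResidueField p'.ResidueField k' (A' ⊗[A] B)).symm.toRingEquiv
  have : IsNoetherianRing (k' ⊗[p'.ResidueField] p'.Fiber (A' ⊗[A] B)) :=
    isNoetherianRing_finite_tensor p'.ResidueField (p'.Fiber (A' ⊗[A] B)) k'
  have : IsNoetherianRing (k' ⊗[p.ResidueField] p.Fiber B) := isNoetherianRing_of_ringEquiv (k' ⊗[p'.ResidueField] p'.Fiber (A' ⊗[A] B)) e2.symm
  have : IsNoetherianRing (k ⊗[p.ResidueField] p.Fiber B) := isNoetherianRing_finite_tensor p.ResidueField (p.Fiber B) k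
  exact descend_field P hdesc p.ResidueField (p.Fiber B) k k' (hequiv e2.symm (h k' hfin))

/-- Backward direction along a field extension of the residue field. -/
theorem fibre_descend (P : ∀ (R : Type u) [CommRing R], Prop)
    (hequiv : ∀ {R S : Type u} [CommRing R] [CommRing S], (R ≃+* S) → P R → P S)
    (hdesc : ∀ (A B : Type u) [CommRing A] [CommRing B] [Algebra A B] [IsNoetherianRing A] [IsNoetherianRing B]
      [Module.FaithfullyFlat A B], P B → P A)
    (A B A' : Type u) [CommRing A] [CommRing B] [CommRing A'] [Algebra A B] [Algebra A A']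
    (p' : Ideal A') [p'.IsPrime] [IsNoetherianRing (p'.Fiber (A' ⊗[A] B))]
    [IsNoetherianRing ((p'.comap (algebraMap A A')).Fiber B)]
    (h : ∀ (k' : Type u) [Field k'] [Algebra p'.ResidueField k'], Module.Finite p'.ResidueField k' →
      P (k' ⊗[p'.ResidueField] p'.Fiber (A' ⊗[A] B)))
    (k : Type u) [Field k] [Algebra (p'.comap (algebraMap A A')).ResidueField k]
    (hk : Module.Finite (p'.comap (algebraMap A A')).ResidueField k) :
    P (k ⊗[(p'.comap (algebraMap A A')).ResidueField] (p'.comap (algebraMap A A')).Fiber B) := by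
  let p := p'.comap (algebraMap A A')
  letI : Algebra p.ResidueField p'.ResidueField :=
    (Ideal.ResidueField.map p p' (algebraMap A A') rfl).toAlgebra
  have : IsScalarTower A p.ResidueField p'.ResidueField := IsScalarTower.of_algebraMap_eq fun a =>
    ((Ideal.ResidueField.map_algebraMap p p' (algebraMap A A') rfl a).trans (by
      rw [← IsScalarTower.algebraMap_apply A A' p'.ResidueField])).symm
  have : Nontrivial (p'.ResidueField ⊗[p.ResidueField] k) :=
    (Algebra.TensorProduct.includeLeft_injective (R := p.ResidueField) (S := p.ResidueField) (A := p'.ResidueField)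
      (B := k) (algebraMap p.ResidueField k).injective).nontrivial
  obtain ⟨m, hm⟩ := Ideal.exists_maximal (p'.ResidueField ⊗[p.ResidueField] k)
  let k' := (p'.ResidueField ⊗[p.ResidueField] k) ⧸ m
  letI : Field k' := Ideal.Quotient.field m
  have hfin : Module.Finite p'.ResidueField k' :=
    Module.Finite.of_surjective (Ideal.Quotient.mkₐ p'.ResidueField m).toLinearMap Ideal.Quotient.mk_surjective
  let ι : k →ₐ[p.ResidueField] k' := (Ideal.Quotient.mkₐ p.ResidueField m).comp Algebra.TensorProduct.includeRight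
  letI : Algebra k k' := ι.toRingHom.toAlgebra
  have : IsScalarTower p.ResidueField k k' := IsScalarTower.of_algebraMap_eq fun x => (ι.commutes x).symm
  exact fibre_descend_core P hequiv hdesc A B A' p' k k' hfin h

end Groth.Agent.RegLocus
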