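import Groth.Prelude.Def_Found
import Groth.Prelude.Def_EGA4b
import Groth.Agent.CAlgN2.CompleteLocal
import Groth.Agent.N2Lib.Basic
import Groth.Agent.RegLocus.GeomBaseChange
import Groth.Agent.AdicNoeth.Basic
import Groth.Agent.ArtHull.Hull
import Mathlib

/-!
# Finiteness of integral closures from reduced formal fibres; local + generic criterion
-/

universe u

set_option linter.style.haveILetI false

open TensorProduct

namespace Groth.Agent.RegLocus

/-- One component: a field generated by `B` and a finite extension of `κ(p)`. -/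
theorem finiteDimensional_component (B : Type u) [CommRing B] (q : Ideal B) [q.IsPrime] (F : Type u) [Field F]
    [Algebra (B ⧸ q) F] [Algebra (FractionRing (B ⧸ q)) F] [IsScalarTower (B ⧸ q) (FractionRing (B ⧸ q)) F]
    (T : Finset F) (hint : ∀ t ∈ T, IsIntegral (FractionRing (B ⧸ q)) t)
    (hgen : ∀ z : F, ∃ x y : IntermediateField.adjoin (FractionRing (B ⧸ q)) (T : Set F), z = (x : F) / y) :
    FiniteDimensional (FractionRing (B ⧸ q)) F := by
  haveI : FiniteDimensional (FractionRing (B ⧸ q)) (IntermediateField.adjoin (FractionRing (B ⧸ q)) (T : Set F)) :=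
    IntermediateField.finiteDimensional_adjoin (fun t ht => hint t ht)
  have htop : IntermediateField.adjoin (FractionRing (B ⧸ q)) (T : Set F) = ⊤ := by
    refine eq_top_iff.2 fun z _ => ?_
    obtain ⟨x, y, rfl⟩ := hgen z
    exact div_mem x.2 y.2
  haveI : FiniteDimensional (FractionRing (B ⧸ q)) (⊤ : IntermediateField (FractionRing (B ⧸ q)) F) :=
    htop ▸ ‹FiniteDimensional (FractionRing (B ⧸ q)) (IntermediateField.adjoin (FractionRing (B ⧸ q)) (T : Set F))›
  exact Module.Finite.equiv (IntermediateField.topEquiv (F := FractionRing (B ⧸ q)) (E := F)).toLinearEquiv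

set_option synthInstance.maxHeartbeats 200000 in
/-- If `B` is faithfully flat over `A`, all domains `B/q` are N-2, and `L ⊗_A B` is reduced for a finite
extension `L` of `κ(p)`, then the integral closure of `A` in `L` is finite. -/
theorem finite_integralClosure_of_reduced (A B : Type u) [CommRing A] [IsNoetherianRing A] [CommRing B]
    [Algebra A B] [IsNoetherianRing B] [Module.FaithfullyFlat A B]
    (hB : ∀ (q : Ideal B) [q.IsPrime], CAlg.IsN2 (B ⧸ q))
    (p : Ideal A) [p.IsPrime] (L : Type u) [Field L] [Algebra A L] [Algebra p.ResidueField L]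
    [IsScalarTower A p.ResidueField L] [FiniteDimensional p.ResidueField L]
    [IsReduced (B ⊗[A] L)] : Module.Finite A (integralClosure A L) := by
  classical
  haveI : Algebra.EssFiniteType A p.ResidueField := inferInstance
  haveI : Algebra.EssFiniteType A L := Algebra.EssFiniteType.comp A p.ResidueField L
  haveI : IsNoetherianRing (B ⊗[A] L) := Algebra.EssFiniteType.isNoetherianRing B (B ⊗[A] L)
  have hfinmin : (minimalPrimes (B ⊗[A] L)).Finite := minimalPrimes.finite_of_isNoetherianRing (B ⊗[A] L)
  let ι := (minimalPrimes (B ⊗[A] L) : Set (Ideal (B ⊗[A] L)))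
  haveI : Finite ι := hfinmin.to_subtype
  haveI hpr : ∀ P : ι, (P.1).IsPrime := fun P => P.2.1.1
  let F : ι → Type u := fun P => (P.1).ResidueField
  have key : ∀ P : ι, Module.Finite B (integralClosure B (F P)) := by
    intro P
    let q : Ideal B := RingHom.ker (algebraMap B (F P))
    haveI : q.IsPrime := RingHom.ker_isPrime _
    letI : Algebra (B ⧸ q) (F P) := (Ideal.Quotient.lift q (algebraMap B (F P)) (fun a ha => ha)).toAlgebra
    haveI : IsScalarTower B (B ⧸ q) (F P) := IsScalarTower.of_algebraMap_eq fun _ => rfl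
    haveI : FaithfulSMul (B ⧸ q) (F P) := (faithfulSMul_iff_algebraMap_injective _ _).2
      (RingHom.lift_injective_of_ker_le_ideal _ _ le_rfl)
    letI : Algebra (FractionRing (B ⧸ q)) (F P) := FractionRing.liftAlgebra _ _
    let ψ : B ⊗[A] L →+* F P := algebraMap (B ⊗[A] L) (F P)
    let bL := Module.finBasis p.ResidueField L
    let T : Finset (F P) := Finset.univ.image (fun i => ψ (1 ⊗ₜ[A] bL i))
    have hBmem : ∀ b : B, algebraMap B (F P) b ∈ Set.range (algebraMap (FractionRing (B ⧸ q)) (F P)) :=
      fun b => ⟨algebraMap (B ⧸ q) _ (Ideal.Quotient.mk q b), by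
        rw [← IsScalarTower.algebraMap_apply]; rfl⟩
    let ψL : L →+* F P := ψ.comp (Algebra.TensorProduct.includeRight (R := A) (A := B) (B := L)).toRingHom
    have hψA : ∀ a : A, ψL (algebraMap A L a) = algebraMap B (F P) (algebraMap A B a) := fun a => by
      show ψ ((1 : B) ⊗ₜ[A] algebraMap A L a) = _
      rw [← Algebra.TensorProduct.tmul_one_eq_one_tmul]
      rfl
    have hκ : ∀ k : p.ResidueField, ψL (algebraMap p.ResidueField L k) ∈
        Set.range (algebraMap (FractionRing (B ⧸ q)) (F P)) := by
      intro k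
      obtain ⟨a, b, -, rfl⟩ := IsFractionRing.div_surjective (A ⧸ p) k
      obtain ⟨a, rfl⟩ := Ideal.Quotient.mk_surjective a
      obtain ⟨b, rfl⟩ := Ideal.Quotient.mk_surjective b
      have h1 : ∀ c : A, ψL (algebraMap p.ResidueField L (algebraMap (A ⧸ p) p.ResidueField (Ideal.Quotient.mk p c)))
          = algebraMap B (F P) (algebraMap A B c) := fun c => by
        rw [← hψA c, IsScalarTower.algebraMap_apply A p.ResidueField L]
        rfl
      obtain ⟨u, hu⟩ := hBmem (algebraMap A B a)
      obtain ⟨v, hv⟩ := hBmem (algebraMap A B b)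
      exact ⟨u / v, by rw [map_div₀, map_div₀, map_div₀, h1, h1, hu, hv]⟩
    haveI hFfin : FiniteDimensional (FractionRing (B ⧸ q)) (F P) := by
      refine finiteDimensional_component B q (F P) T ?_ ?_
      · intro t ht
        obtain ⟨i, -, rfl⟩ := Finset.mem_image.1 ht
        obtain ⟨f, hf, hf0⟩ := Algebra.IsIntegral.isIntegral (R := p.ResidueField) (bL i)
        have hdeg : f.map (ψL.comp (algebraMap p.ResidueField L)) ∈
            Polynomial.lifts (algebraMap (FractionRing (B ⧸ q)) (F P)) :=
          (Polynomial.lifts_iff_coeff_lifts _).2 fun j => by rw [Polynomial.coeff_map]; exact hκ _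
        obtain ⟨g, hg, -, hgm⟩ := Polynomial.lifts_and_natDegree_eq_and_monic hdeg (hf.map _)
        refine ⟨g, hgm, ?_⟩
        rw [← Polynomial.eval_map, hg, Polynomial.eval_map]
        show Polynomial.eval₂ (ψL.comp (algebraMap p.ResidueField L)) (ψL (bL i)) f = 0
        rw [← Polynomial.hom_eval₂, hf0, map_zero]
      · intro z
        let E := IntermediateField.adjoin (FractionRing (B ⧸ q)) (T : Set (F P))
        have hmem : ∀ x : B ⊗[A] L, ψ x ∈ E := by
          intro x
          induction x using TensorProduct.induction_on with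
          | zero => rw [map_zero]; exact zero_mem _
          | add x y hx hy => rw [map_add]; exact add_mem hx hy
          | tmul b l =>
            rw [show b ⊗ₜ[A] l = algebraMap B (B ⊗[A] L) b * ((1 : B) ⊗ₜ[A] l) from by
              simp [Algebra.TensorProduct.algebraMap_apply]]
            rw [map_mul]
            refine mul_mem ?_ ?_
            · obtain ⟨u, hu⟩ := hBmem b
              have hb : ψ (algebraMap B (B ⊗[A] L) b) = algebraMap B (F P) b :=
                (IsScalarTower.algebraMap_apply B (B ⊗[A] L) (F P) b).symm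
              rw [hb, ← hu]
              exact E.algebraMap_mem u
            · show ψL l ∈ E
              rw [← bL.sum_repr l, map_sum]
              refine sum_mem fun i _ => ?_
              rw [Algebra.smul_def, map_mul]
              refine mul_mem ?_ (IntermediateField.subset_adjoin _ _
                (Finset.mem_coe.2 (Finset.mem_image.2 ⟨i, Finset.mem_univ _, rfl⟩)))
              obtain ⟨u, hu⟩ := hκ (bL.repr l i)
              rw [← hu]
              exact E.algebraMap_mem u
        obtain ⟨x, y, -, rfl⟩ := IsFractionRing.div_surjective ((B ⊗[A] L) ⧸ P.1) z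
        obtain ⟨x, rfl⟩ := Ideal.Quotient.mk_surjective x
        obtain ⟨y, rfl⟩ := Ideal.Quotient.mk_surjective y
        exact ⟨⟨_, hmem x⟩, ⟨_, hmem y⟩, rfl⟩
    haveI := N2Lib.finite_integralClosure_of_isN2 (hB q) (FractionRing (B ⧸ q)) (F P)
    haveI : Module.Finite B (integralClosure (B ⧸ q) (F P)) := Module.Finite.trans (B ⧸ q) _
    let φ : integralClosure (B ⧸ q) (F P) →ₗ[B] integralClosure B (F P) :=
      { toFun := fun z => ⟨z.1, isIntegral_trans (R := B) (A := B ⧸ q) z.1 z.2⟩
        map_add' := fun _ _ => rfl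
        map_smul' := fun _ _ => rfl }
    exact Module.Finite.of_surjective φ fun z => ⟨⟨z.1, z.2.tower_top⟩, rfl⟩
  let C := integralClosure A L
  let j : B ⊗[A] C →ₐ[B] B ⊗[A] L := Algebra.TensorProduct.map (AlgHom.id B B) C.val
  have hj : Function.Injective j := Module.Flat.lTensor_preserves_injective_linearMap (M := B) C.val.toLinearMap Subtype.val_injective
  have hint : ∀ (P : ι) (x : B ⊗[A] C), IsIntegral B (algebraMap (B ⊗[A] L) (F P) (j x)) := by
    intro P x
    induction x using TensorProduct.induction_on with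
    | zero => rw [map_zero, map_zero]; exact isIntegral_zero
    | add x y hx hy => rw [map_add, map_add]; exact hx.add hy
    | tmul b c =>
      have h1 : IsIntegral B ((1 : B) ⊗ₜ[A] (c : L)) := by
        obtain ⟨f, hf, hf0⟩ := c.2
        refine ⟨f.map (algebraMap A B), hf.map _, ?_⟩
        rw [Polynomial.eval₂_map]
        have := congrArg (Algebra.TensorProduct.includeRight : L →ₐ[A] B ⊗[A] L) hf0
        rw [map_zero, ← Polynomial.aeval_def, ← Polynomial.aeval_algHom_apply, Polynomial.aeval_def,
          IsScalarTower.algebraMap_eq A B (B ⊗[A] L)] at this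
        exact this
      have h2 : j (b ⊗ₜ[A] c) = b • ((1 : B) ⊗ₜ[A] (c : L)) := by
        simp [j, TensorProduct.smul_tmul']
      rw [h2]
      exact (h1.smul b).map (IsScalarTower.toAlgHom B (B ⊗[A] L) (F P))
  let Φ : B ⊗[A] C →ₗ[B] ((P : ι) → integralClosure B (F P)) :=
    { toFun := fun x P => ⟨algebraMap (B ⊗[A] L) (F P) (j x), hint P x⟩
      map_add' := fun x y => by funext P; exact Subtype.ext (by simp)
      map_smul' := fun b x => by
        funext P
        refine Subtype.ext ?_
        show algebraMap (B ⊗[A] L) (F P) (j (b • x)) = b • algebraMap (B ⊗[A] L) (F P) (j x)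
        rw [map_smul, Algebra.algebraMap_eq_smul_one, smul_assoc, ← Algebra.algebraMap_eq_smul_one] }
  have hΦ : Function.Injective Φ := by
    rw [injective_iff_map_eq_zero]
    intro x hx
    refine hj ?_
    rw [map_zero]
    have hnil : j x ∈ nilradical (B ⊗[A] L) := by
      rw [nilradical_eq_sInf]
      refine Submodule.mem_sInf.2 fun (P : Ideal (B ⊗[A] L)) (hP : P.IsPrime) => ?_
      obtain ⟨Q, hQ, hQP⟩ := Ideal.exists_minimalPrimes_le (bot_le : ⊥ ≤ P)
      refine hQP ?_
      have := congrArg (fun f : ((P : ι) → integralClosure B (F P)) => (f ⟨Q, hQ⟩ : F ⟨Q, hQ⟩)) hx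
      simpa [Φ, F] using this
    exact isNilpotent_iff_eq_zero.1 (mem_nilradical.1 hnil)
  haveI : Module.Finite B ((P : ι) → integralClosure B (F P)) := Module.Finite.pi
  haveI : Module.Finite B (B ⊗[A] C) := Module.Finite.of_injective Φ hΦ
  exact Module.Finite.of_finite_tensorProduct_of_faithfullyFlat B

open IsLocalRing in
theorem cpl_facts (A : Type u) [CommRing A] [IsNoetherianRing A] [IsLocalRing A] :
    IsNoetherianRing (EGA4.Cpl A) ∧ Module.FaithfullyFlat A (EGA4.Cpl A) ∧
      ∀ (q : Ideal (EGA4.Cpl A)) [q.IsPrime], CAlg.IsN2 (EGA4.Cpl A ⧸ q) := by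
  haveI hN : IsNoetherianRing (EGA4.Cpl A) := AdicNoeth.isNoetherianRing_adicCompletion _
  refine ⟨hN, Module.FaithfullyFlat.of_flat_of_isLocalHom, fun q _ => ?_⟩
  haveI : IsLocalRing (EGA4.Cpl A ⧸ q) :=
    IsLocalRing.of_surjective' (Ideal.Quotient.mk q) Ideal.Quotient.mk_surjective
  haveI : IsAdicComplete (maximalIdeal (EGA4.Cpl A ⧸ q)) (EGA4.Cpl A ⧸ q) := ArtHull.isAdicComplete_quotient q
  exact CAlgN2.isN2_of_complete_local (EGA4.Cpl A ⧸ q)

/-- Geometrically reduced formal fibre at `p` gives finite integral closures in finite extensions of `κ(p)`. -/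
theorem finite_integralClosure_of_geomReduced_fibre (A : Type u) [CommRing A] [IsNoetherianRing A] [IsLocalRing A]
    (p : Ideal A) [p.IsPrime] (h : Algebra.IsGeometricallyReduced p.ResidueField (EGA4.formalFibre A p))
    (L : Type u) [Field L] [Algebra A L] [Algebra p.ResidueField L]
    [IsScalarTower A p.ResidueField L] [FiniteDimensional p.ResidueField L] :
    Module.Finite A (integralClosure A L) := by
  obtain ⟨h1, h2, h3⟩ := cpl_facts A
  haveI := h1
  haveI := h2
  haveI := h
  haveI : Algebra.IsAlgebraic p.ResidueField L := Algebra.IsAlgebraic.of_finite _ _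
  haveI : IsReduced (L ⊗[p.ResidueField] (EGA4.formalFibre A p)) := inferInstance
  let e1 : L ⊗[p.ResidueField] (p.ResidueField ⊗[A] EGA4.Cpl A) ≃ₐ[L] L ⊗[A] EGA4.Cpl A :=
    Algebra.TensorProduct.cancelBaseChange A p.ResidueField L L (EGA4.Cpl A)
  let e2 : EGA4.Cpl A ⊗[A] L ≃+* L ⊗[p.ResidueField] (EGA4.formalFibre A p) :=
    (Algebra.TensorProduct.comm A (EGA4.Cpl A) L).toRingEquiv.trans e1.symm.toRingEquiv
  haveI : IsReduced (EGA4.Cpl A ⊗[A] L) := by
    haveI := ‹IsReduced (L ⊗[p.ResidueField] (EGA4.formalFibre A p))›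
    exact isReduced_of_injective e2 e2.injective
  exact finite_integralClosure_of_reduced A (EGA4.Cpl A) h3 p L

/-- A local ring with geometrically reduced formal fibres is Nagata. -/
theorem isN2_quotient_of_geomReduced (A : Type u) [CommRing A] [IsNoetherianRing A] [IsLocalRing A]
    (h : EGA4.HasGeomReducedFormalFibres A) (p : Ideal A) [p.IsPrime] : CAlg.IsN2 (A ⧸ p) := by
  intro L _ _ _ _ hfin
  letI : Algebra A L := ((algebraMap (A ⧸ p) L).comp (Ideal.Quotient.mk p)).toAlgebra
  haveI : IsScalarTower A (A ⧸ p) L := IsScalarTower.of_algebraMap_eq fun _ => rfl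
  let e : FractionRing (A ⧸ p) ≃ₐ[A ⧸ p] p.ResidueField := FractionRing.algEquiv (A ⧸ p) p.ResidueField
  letI : Algebra p.ResidueField L :=
    ((algebraMap (FractionRing (A ⧸ p)) L).comp e.symm.toRingEquiv.toRingHom).toAlgebra
  haveI : IsScalarTower A p.ResidueField L := IsScalarTower.of_algebraMap_eq fun a => by
    show _ = algebraMap (FractionRing (A ⧸ p)) L (e.symm (algebraMap A p.ResidueField a))
    rw [IsScalarTower.algebraMap_apply A (A ⧸ p) p.ResidueField, AlgEquiv.commutes,
      ← IsScalarTower.algebraMap_apply (A ⧸ p) (FractionRing (A ⧸ p)) L]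
    rfl
  haveI : Module.Finite p.ResidueField L := by
    obtain ⟨s, hs⟩ := hfin.fg_top
    refine ⟨⟨s, eq_top_iff.2 fun x hxt => ?_⟩⟩
    clear hxt
    have hx : x ∈ Submodule.span (FractionRing (A ⧸ p)) (s : Set L) := hs ▸ Submodule.mem_top
    induction hx using Submodule.span_induction with
    | mem y hy => exact Submodule.subset_span hy
    | zero => exact zero_mem _
    | add y z _ _ hy hz => exact add_mem hy hz
    | smul c y _ hy =>
      have : c • y = (e c) • y := by
        rw [Algebra.smul_def, Algebra.smul_def]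
        show algebraMap (FractionRing (A ⧸ p)) L c * y = algebraMap (FractionRing (A ⧸ p)) L (e.symm (e c)) * y
        rw [AlgEquiv.symm_apply_apply]
      rw [this]
      exact Submodule.smul_mem _ _ hy
  haveI := finite_integralClosure_of_geomReduced_fibre A p (h p) L
  let φ : integralClosure A L →ₗ[A] integralClosure (A ⧸ p) L :=
    { toFun := fun z => ⟨z.1, z.2.tower_top⟩, map_add' := fun _ _ => rfl, map_smul' := fun _ _ => rfl }
  haveI : Module.Finite A (integralClosure (A ⧸ p) L) :=
    Module.Finite.of_surjective φ fun z => ⟨⟨z.1, isIntegral_trans (R := A) (A := A ⧸ p) z.1 z.2⟩, rfl⟩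
  exact Module.Finite.of_restrictScalars_finite A (A ⧸ p) _

theorem isReduced_of_isNormalRing (R : Type u) [CommRing R] (h : EGA4.IsNormalRing R) : IsReduced R :=
  isReduced_ofLocalizationMaximal R fun m _ => haveI := (h m).1; inferInstance

/-- Geometrically normal implies geometrically reduced. -/
theorem geomReduced_of_geomNormal (k S : Type u) [Field k] [CommRing S] [Algebra k S]
    (h : EGA4.IsGeomNormal k S) : Algebra.IsGeometricallyReduced k S := by
  rw [Algebra.isGeometricallyReduced_field_iff]
  refine ⟨fun x hx => ?_⟩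
  obtain ⟨L, hL, hr⟩ := exists_fg_subfield k S (AlgebraicClosure k) {x}
  obtain ⟨y, hy⟩ := hr x (by simp)
  haveI : Algebra.IsAlgebraic k L := Algebra.IsAlgebraic.of_injective L.val Subtype.val_injective
  haveI : Module.Finite k L := Algebra.finite_of_essFiniteType_of_isAlgebraic
  haveI := isReduced_of_isNormalRing _ (h L inferInstance)
  have hinj : Function.Injective (Algebra.TensorProduct.map L.val (AlgHom.id k S)) :=
    Module.Flat.rTensor_preserves_injective_linearMap L.val.toLinearMap Subtype.val_injective
  have hy' : IsNilpotent y := (IsNilpotent.map_iff hinj).1 (hy ▸ hx)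
  rw [← hy]
  show Algebra.TensorProduct.map L.val (AlgHom.id k S) y = 0
  rw [hy'.eq_zero, map_zero]

end Groth.Agent.RegLocus
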