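import Groth.Agent.RegLocus.FieldTensor
import Groth.Agent.RegLocus.GeomRedTrans
import Groth.Agent.GeomRed.Tensor
import Mathlib

/-!
For an essentially finite type field extension `K/k` there is a finite purely inseparable `k₁/k` with
`(K k₁)/k₁` separable; consequences for geometric properties.
-/

set_option autoImplicit false

universe u

open TensorProduct

namespace Groth.Agent.RegLocus

theorem geomReduced_of_perfect (k kp A : Type u) [Field k] [Field kp] [PerfectField kp] [Algebra k kp]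
    [Algebra.IsAlgebraic k kp] [CommRing A] [Algebra k A] [IsReduced (kp ⊗[k] A)] :
    Algebra.IsGeometricallyReduced k A := by
  rw [Algebra.isGeometricallyReduced_field_iff]
  let φ : kp →ₐ[k] AlgebraicClosure k := IsAlgClosed.lift
  letI : Algebra kp (AlgebraicClosure k) := φ.toRingHom.toAlgebra
  have : IsScalarTower k kp (AlgebraicClosure k) := IsScalarTower.of_algebraMap_eq fun x => (φ.commutes x).symm
  have := GeomRed.isReduced_tensorProduct_of_perfectField kp (AlgebraicClosure k) (kp ⊗[k] A)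
  exact isReduced_of_injective (Algebra.TensorProduct.cancelBaseChange k kp kp (AlgebraicClosure k) A).symm.toAlgHom
    (Algebra.TensorProduct.cancelBaseChange k kp kp (AlgebraicClosure k) A).symm.injective

theorem isMaximal_nilradical_tensor (k K k1 : Type u) [Field k] [Field K] [Field k1] [Algebra k K] [Algebra k k1]
    [IsPurelyInseparable k k1] : (nilradical (K ⊗[k] k1)).IsMaximal := by
  refine Ideal.isMaximal_iff.2 ⟨fun h => ?_, fun I x hle hx hxI => ?_⟩
  · have : Nontrivial (K ⊗[k] k1) :=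
      (Algebra.TensorProduct.includeLeft_injective (R := k) (S := k) (A := K) (B := k1) (algebraMap k k1).injective).nontrivial
    obtain ⟨n, hn⟩ := mem_nilradical.1 h
    rw [one_pow] at hn
    exact one_ne_zero hn
  · obtain ⟨n, hn, c, hc⟩ := IsPurelyInseparable.exists_pow_mem_range_tensorProduct (R := K) x
    have hc0 : c ≠ 0 := fun h0 => hx (mem_nilradical.2 ⟨n, by rw [← hc, h0, map_zero]⟩)
    have hu : IsUnit (algebraMap K (K ⊗[k] k1) c) := (isUnit_iff_ne_zero.2 hc0).map _
    have : algebraMap K (K ⊗[k] k1) c ∈ I := hc ▸ Ideal.pow_mem_of_mem I hxI n hn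
    rw [I.eq_top_of_isUnit_mem this hu]
    exact Submodule.mem_top

theorem exists_of_generators (k K k1 kp : Type u) [Field k] [Field K] [Field k1] [Field kp] [PerfectField kp]
    [Algebra k K] [Algebra.EssFiniteType k K] [Algebra k k1] [Algebra k kp] [Algebra k1 kp] [IsScalarTower k k1 kp]
    [Algebra.IsAlgebraic k1 kp] [Module.Finite k k1] [IsPurelyInseparable k k1]
    (hgen : nilradical (kp ⊗[k] K) ≤ Ideal.span
      (Algebra.TensorProduct.map (IsScalarTower.toAlgHom k k1 kp) (AlgHom.id k K) ''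
        {r : k1 ⊗[k] K | IsNilpotent r})) :
    ∃ (k1 : Type u) (_ : Field k1) (_ : Algebra k k1) (K1 : Type u) (_ : Field K1) (_ : Algebra k K1)
      (_ : Algebra k1 K1) (_ : Algebra K K1) (_ : IsScalarTower k k1 K1) (_ : IsScalarTower k K K1),
      Module.Finite k k1 ∧ IsPurelyInseparable k k1 ∧ Module.Finite K K1 ∧
      Algebra.IsGeometricallyReduced k1 K1 ∧ Algebra.EssFiniteType k K1 := by
  have hmax := isMaximal_nilradical_tensor k K k1
  let K1 := (K ⊗[k] k1) ⧸ nilradical (K ⊗[k] k1)
  letI : Field K1 := Ideal.Quotient.field _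
  let ι1 : k1 →ₐ[k] K1 := (Ideal.Quotient.mkₐ k _).comp Algebra.TensorProduct.includeRight
  letI : Algebra k1 K1 := ι1.toRingHom.toAlgebra
  have : IsScalarTower k k1 K1 := IsScalarTower.of_algebraMap_eq fun x => (ι1.commutes x).symm
  have hfinK : Module.Finite K K1 :=
    Module.Finite.of_surjective (Ideal.Quotient.mkₐ K (nilradical (K ⊗[k] k1))).toLinearMap Ideal.Quotient.mk_surjective
  refine ⟨k1, inferInstance, inferInstance, K1, inferInstance, inferInstance, inferInstance, inferInstance,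
    inferInstance, inferInstance, inferInstance, inferInstance, hfinK, ?_, Algebra.EssFiniteType.comp k K K1⟩
  let φ0 := Algebra.TensorProduct.map (IsScalarTower.toAlgHom k k1 kp) (AlgHom.id k K)
  let q : k1 ⊗[k] K →ₐ[k] K1 := (Ideal.Quotient.mkₐ k _).comp (Algebra.TensorProduct.comm k k1 K).toAlgHom
  let q1 : k1 ⊗[k] K →ₐ[k1] K1 :=
    { q.toRingHom with
      commutes' := fun x => by
        change q (x ⊗ₜ[k] (1 : K)) = ι1 x
        simp [q, ι1] }
  let e := Algebra.TensorProduct.cancelBaseChange k k1 k1 kp K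
  let π : kp ⊗[k1] (k1 ⊗[k] K) →ₐ[kp] kp ⊗[k1] K1 := Algebra.TensorProduct.map (AlgHom.id kp kp) q1
  have hq1 : Function.Surjective q1.toLinearMap := fun z => by
    obtain ⟨w, rfl⟩ := Ideal.Quotient.mk_surjective z
    exact ⟨(Algebra.TensorProduct.comm k k1 K).symm w, congrArg (Ideal.Quotient.mk _)
      ((Algebra.TensorProduct.comm k k1 K).apply_symm_apply w)⟩
  have hπ : Function.Surjective π :=
    TensorProduct.map_surjective (g := LinearMap.id) (g' := q1.toLinearMap) Function.surjective_id hq1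
  have hsymm : ∀ (a : k1) (c : kp) (b : K), e.symm ((a • c) ⊗ₜ[k] b) = c ⊗ₜ[k1] (a ⊗ₜ[k] b) := fun a c b => by
    apply e.injective
    rw [AlgEquiv.apply_symm_apply]
    simp [e, Algebra.smul_def, mul_comm]
  have hcomp : ∀ w : k1 ⊗[k] K, π (e.symm (φ0 w)) = 1 ⊗ₜ q1 w := fun w => by
    induction w using TensorProduct.induction_on with
    | zero => simp
    | tmul a b =>
      have : φ0 (a ⊗ₜ[k] b) = (a • (1 : kp)) ⊗ₜ[k] b := by simp [φ0, Algebra.smul_def]
      rw [this, hsymm]
      simp [π]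
    | add y z hy hz => rw [map_add, map_add, map_add, hy, hz, map_add, TensorProduct.tmul_add]
  have hnil : ∀ y : kp ⊗[k] K, y ∈ nilradical (kp ⊗[k] K) → π (e.symm y) = 0 := by
    suffices nilradical (kp ⊗[k] K) ≤ RingHom.ker (π.toRingHom.comp e.symm.toRingEquiv.toRingHom) from fun y hy => this hy
    refine hgen.trans (Ideal.span_le.2 ?_)
    rintro _ ⟨r, hr, rfl⟩
    show π (e.symm (φ0 r)) = 0
    rw [hcomp, (IsNilpotent.map (f := q1) hr).eq_zero, TensorProduct.tmul_zero]
  have hker : ∀ w : kp ⊗[k] K, π (e.symm w) = 0 → IsNilpotent w := fun w hw => by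
    refine nilpotent_iff_mem_prime.2 fun P hP => ?_
    let φ : kp ⊗[k] K →+* ((kp ⊗[k] K) ⧸ P) := Ideal.Quotient.mk P
    let g : K ⊗[k] k1 →+* (kp ⊗[k] K) ⧸ P := φ.comp (φ0.toRingHom.comp
      (Algebra.TensorProduct.comm k K k1).toRingEquiv.toRingHom)
    let ψ : K1 →+* (kp ⊗[k] K) ⧸ P := Ideal.Quotient.lift _ g fun z hz => ((mem_nilradical.1 hz).map g).eq_zero
    have hψ : ∀ z, ψ (Ideal.Quotient.mk _ z) = φ (φ0 (Algebra.TensorProduct.comm k K k1 z)) := fun z => rfl
    let ψ1 : K1 →ₐ[k1] (kp ⊗[k] K) ⧸ P :=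
      { ψ with
        commutes' := fun x => by
          change ψ (Ideal.Quotient.mk _ ((1 : K) ⊗ₜ[k] x)) = _
          rw [hψ]
          simp [φ0, φ]
          rfl }
    let Ψ : kp ⊗[k1] K1 →ₐ[kp] (kp ⊗[k] K) ⧸ P :=
      Algebra.TensorProduct.lift (Algebra.ofId kp _) ψ1 fun _ _ => Commute.all _ _
    have hΨ : ∀ v : kp ⊗[k] K, Ψ (π (e.symm v)) = φ v := fun v => by
      induction v using TensorProduct.induction_on with
      | zero => simp
      | tmul a b =>
        have := hsymm 1 a b
        rw [one_smul] at this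
        rw [this]
        show algebraMap kp ((kp ⊗[k] K) ⧸ P) a * ψ (Ideal.Quotient.mk _ (Algebra.TensorProduct.comm k k1 K ((1 : k1) ⊗ₜ[k] b))) = _
        rw [hψ, show algebraMap kp ((kp ⊗[k] K) ⧸ P) a = φ (a ⊗ₜ 1) from rfl, ← map_mul]
        simp [φ0]
      | add y z hy hz => rw [map_add, map_add, map_add, hy, hz, map_add]
    exact Ideal.Quotient.eq_zero_iff_mem.1 (show φ w = 0 by rw [← hΨ, hw, map_zero])
  have : IsReduced (kp ⊗[k1] K1) := ⟨fun x ⟨n, hn⟩ => by
    obtain ⟨y, rfl⟩ := hπ x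
    obtain ⟨y, rfl⟩ := e.symm.surjective y
    obtain ⟨m, hm⟩ := hker (y ^ n) (by rw [map_pow, map_pow, hn])
    exact hnil y (mem_nilradical.2 ⟨n * m, by rw [pow_mul, hm]⟩)⟩
  exact geomReduced_of_perfect k1 kp K1

theorem exists_separabilizing (k K : Type u) [Field k] [Field K] [Algebra k K] [Algebra.EssFiniteType k K] :
    ∃ (k1 : Type u) (_ : Field k1) (_ : Algebra k k1) (K1 : Type u) (_ : Field K1) (_ : Algebra k K1)
      (_ : Algebra k1 K1) (_ : Algebra K K1) (_ : IsScalarTower k k1 K1) (_ : IsScalarTower k K K1),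
      Module.Finite k k1 ∧ IsPurelyInseparable k k1 ∧ Module.Finite K K1 ∧
      Algebra.IsGeometricallyReduced k1 K1 ∧ Algebra.EssFiniteType k K1 := by
  classical
  let kp := perfectClosure k (AlgebraicClosure k)
  have : IsNoetherianRing (kp ⊗[k] K) := Algebra.EssFiniteType.isNoetherianRing kp (kp ⊗[k] K)
  obtain ⟨G, hG⟩ := (IsNoetherian.noetherian (nilradical (kp ⊗[k] K)) : (nilradical (kp ⊗[k] K)).FG)
  have hfin : ∀ x : kp ⊗[k] K, ∃ F : Finset kp, ∀ E : IntermediateField k kp, ↑F ⊆ (E : Set kp) →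
      x ∈ (Algebra.TensorProduct.map E.val (AlgHom.id k K)).range := fun x => by
    induction x using TensorProduct.induction_on with
    | zero => exact ⟨∅, fun E _ => zero_mem _⟩
    | tmul a b => exact ⟨{a}, fun E hE => ⟨⟨a, hE (by simp)⟩ ⊗ₜ b, by simp⟩⟩
    | add y z hy hz =>
      obtain ⟨F, hF⟩ := hy
      obtain ⟨F', hF'⟩ := hz
      refine ⟨F ∪ F', fun E hE => ?_⟩
      rw [Finset.coe_union, Set.union_subset_iff] at hE
      exact add_mem (hF E hE.1) (hF' E hE.2)
  choose F hF using hfin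
  let k1 := IntermediateField.adjoin k (G.biUnion F : Set kp)
  have : Module.Finite k k1 := IntermediateField.finiteDimensional_adjoin fun x _ => Algebra.IsIntegral.isIntegral x
  have : IsPurelyInseparable k k1 := IsPurelyInseparable.tower_bot k k1 kp
  refine exists_of_generators k K k1 kp ?_
  conv_lhs => rw [← hG]
  refine Ideal.span_le.2 fun g hg => Ideal.subset_span ?_
  obtain ⟨r, hr⟩ := hF g k1 (fun a ha => IntermediateField.subset_adjoin k _
    (Finset.mem_coe.2 (Finset.mem_biUnion.2 ⟨g, hg, ha⟩)))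
  refine ⟨r, ?_, hr⟩
  have : IsNilpotent g := mem_nilradical.1 (hG.le (Submodule.subset_span hg))
  rw [← hr] at this
  have hinj : Function.Injective (Algebra.TensorProduct.map k1.val (AlgHom.id k K)) :=
    Module.Flat.rTensor_preserves_injective_linearMap (R := k) (M := K) k1.val.toLinearMap k1.val.injective
  exact (IsNilpotent.map_iff (f := Algebra.TensorProduct.map k1.val (AlgHom.id k K)) hinj).1 this

end Groth.Agent.RegLocus
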