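import Groth.Agent.CAlgReg.Serre
import Groth.Agent.ConstrSets.Basic
import Groth.Agent.S0564
import Groth.Agent.S0565
import Groth.Agent.S11553
import Groth.Prelude.Def_EGA4b

/-!
Regular locus: stability under generalization, descent and ascent of regularity along flat maps,
Nagata's criterion, openness criterion.
-/

set_option autoImplicit false

universe u

open IsLocalRing PrimeSpectrum

namespace Groth.Agent.RegLocus

variable {A : Type u} [CommRing A]

/-- open criterion on a Noetherian spectrum -/
theorem isOpen_of_forall [IsNoetherianRing A] (E : Set (PrimeSpectrum A))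
    (hgen : ∀ p q : PrimeSpectrum A, q.asIdeal ≤ p.asIdeal → p ∈ E → q ∈ E)
    (h : ∀ p ∈ E, ∃ f ∉ p.asIdeal, ∀ q : PrimeSpectrum A, p.asIdeal ≤ q.asIdeal → f ∉ q.asIdeal → q ∈ E) :
    IsOpen E := by
  refine isOpen_iff_mem_nhds.2 fun x hx => ConstrSets.mem_nhds_of_forall fun Y hY hYi hxY => ?_
  have hξ := hYi.isGenericPoint_genericPoint hY
  have hle : ∀ y ∈ Y, (hYi.genericPoint).asIdeal ≤ y.asIdeal := fun y hy =>
    (PrimeSpectrum.le_iff_specializes _ y).2 (hξ.specializes hy)
  obtain ⟨f, hf, hfE⟩ := h _ (hgen x _ (hle x hxY) hx)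
  refine ⟨basicOpen f, (basicOpen f).isOpen, ⟨_, hf, hξ.mem⟩, fun y hy => ?_⟩
  exact hfE y (hle y hy.2) hy.1

/-- localizations of the localization at `p` -/
theorem regular_localization_iff (p q : Ideal A) [p.IsPrime] [q.IsPrime] (hqp : q ≤ p) :
    haveI : (q.map (algebraMap A (Localization.AtPrime p))).IsPrime :=
      IsLocalization.isPrime_of_isPrime_disjoint p.primeCompl _ q ‹_›
        (Set.disjoint_left.2 fun x hx hxq => hx (hqp hxq))
    IsRegularLocalRing (Localization.AtPrime (q.map (algebraMap A (Localization.AtPrime p)))) ↔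
      IsRegularLocalRing (Localization.AtPrime q) := by
  have hd : Disjoint (p.primeCompl : Set A) (q : Set A) := Set.disjoint_left.2 fun x hx hxq => hx (hqp hxq)
  let Q := q.map (algebraMap A (Localization.AtPrime p))
  have : Q.IsPrime := IsLocalization.isPrime_of_isPrime_disjoint p.primeCompl _ q ‹_› hd
  have := IsLocalization.isLocalization_isLocalization_atPrime_isLocalization p.primeCompl (Localization.AtPrime Q) Q
  simp_rw [Q, IsLocalization.under_map_of_isPrime_disjoint p.primeCompl _ ‹q.IsPrime› hd] at this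
  let e := (IsLocalization.algEquiv q.primeCompl (Localization.AtPrime Q) (Localization.AtPrime q)).toRingEquiv
  exact ⟨fun h => IsRegularLocalRing.of_ringEquiv e, fun h => IsRegularLocalRing.of_ringEquiv e.symm⟩

theorem regular_of_le (p q : Ideal A) [p.IsPrime] [q.IsPrime] (hqp : q ≤ p)
    (h : IsRegularLocalRing (Localization.AtPrime p)) : IsRegularLocalRing (Localization.AtPrime q) := by
  have : (q.map (algebraMap A (Localization.AtPrime p))).IsPrime :=
    IsLocalization.isPrime_of_isPrime_disjoint p.primeCompl _ q ‹_›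
      (Set.disjoint_left.2 fun x hx hxq => hx (hqp hxq))
  exact (regular_localization_iff p q hqp).1 (S0564.result _ _)

/-- descent of regularity -/
theorem regular_descend (A : Type u) [CommRing A] [IsNoetherianRing A] (B : Type u) [CommRing B] [Algebra A B]
    [Module.Flat A B] (P : Ideal B) [P.IsPrime] (h : IsRegularLocalRing (Localization.AtPrime P)) :
    IsRegularLocalRing (Localization.AtPrime (P.comap (algebraMap A B))) := by
  have : P.LiesOver (P.comap (algebraMap A B)) := ⟨rfl⟩
  letI := Localization.AtPrime.algebraOfLiesOver (P.comap (algebraMap A B)) P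
  have : IsLocalHom (algebraMap (Localization.AtPrime (P.comap (algebraMap A B))) (Localization.AtPrime P)) :=
    Localization.isLocalHom_localRingHom _ _ _ rfl
  exact S0565.result _ (Localization.AtPrime P)

/-- ascent of regularity -/
theorem regular_of_flat_fibre (R S : Type u) [CommRing R] [CommRing S] [IsRegularLocalRing R] [IsLocalRing S]
    [IsNoetherianRing S] [Algebra R S] [IsLocalHom (algebraMap R S)] [Module.Flat R S]
    [IsRegularLocalRing (S ⧸ (maximalIdeal R).map (algebraMap R S))] : IsRegularLocalRing S := by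
  classical
  let I := (maximalIdeal R).map (algebraMap R S)
  apply IsRegularLocalRing.of_spanFinrank_maximalIdeal_le
  have : (maximalIdeal S).LiesOver (maximalIdeal R) :=
    ⟨((local_hom_TFAE (algebraMap R S)).out 0 4 rfl rfl |>.1 ‹IsLocalHom (algebraMap R S)›).symm⟩
  have hI : I ≤ maximalIdeal S := Ideal.map_le_iff_le_comap.2 (Ideal.over_def (maximalIdeal S) (maximalIdeal R)).le
  have : IsLocalHom (Ideal.Quotient.mk I) := IsLocalHom.of_surjective _ Ideal.Quotient.mk_surjective
  have hmap : (maximalIdeal S).map (Ideal.Quotient.mk I) = maximalIdeal (S ⧸ I) :=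
    IsLocalRing.map_maximalIdeal_of_surjective _ Ideal.Quotient.mk_surjective
  have hdim : (maximalIdeal S).height = (maximalIdeal R).height + (maximalIdeal (S ⧸ I)).height := by
    rw [← hmap]; exact Ideal.height_eq_height_add_of_liesOver_of_hasGoingDown (maximalIdeal R) (maximalIdeal S)
  obtain ⟨s, hsc, hs⟩ := Submodule.FG.exists_span_finset_card_eq_spanFinrank (maximalIdeal R).fg_of_isNoetherianRing
  obtain ⟨t, htc, ht⟩ := Submodule.FG.exists_span_finset_card_eq_spanFinrank (maximalIdeal (S ⧸ I)).fg_of_isNoetherianRing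
  let g : S ⧸ I → S := Function.surjInv Ideal.Quotient.mk_surjective
  have hspan : Ideal.span ((s.image (algebraMap R S) ∪ t.image g : Finset S) : Set S) = maximalIdeal S := by
    rw [Finset.coe_union, Finset.coe_image, Finset.coe_image, Ideal.span_union, ← Ideal.map_span,
      show Ideal.span (s : Set R) = maximalIdeal R from hs]
    have h2 : (Ideal.span (g '' (t : Set (S ⧸ I)))).map (Ideal.Quotient.mk I) = maximalIdeal (S ⧸ I) := by
      rw [Ideal.map_span, Set.image_image]
      simp only [g, Function.surjInv_eq, Set.image_id']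
      exact ht
    have h3 := congrArg (Ideal.comap (Ideal.Quotient.mk I)) (h2.trans hmap.symm)
    rw [Ideal.comap_map_of_surjective _ Ideal.Quotient.mk_surjective,
      Ideal.comap_map_of_surjective _ Ideal.Quotient.mk_surjective, ← RingHom.ker_eq_comap_bot, Ideal.mk_ker,
      sup_eq_left.2 hI, sup_comm] at h3
    exact h3
  have hle : Submodule.spanFinrank (maximalIdeal S) ≤ s.card + t.card := by
    rw [← hspan]
    refine (Submodule.spanFinrank_span_le_ncard_of_finite (Finset.finite_toSet _)).trans ?_
    rw [Set.ncard_coe_finset]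
    exact (Finset.card_union_le _ _).trans (add_le_add Finset.card_image_le Finset.card_image_le)
  have e1 := CAlgReg.dim_eq_spanFinrank (R := R)
  have e2 := CAlgReg.dim_eq_spanFinrank (R := S ⧸ I)
  rw [← hsc, ← IsLocalRing.maximalIdeal_height_eq_ringKrullDim] at e1
  rw [← htc, ← IsLocalRing.maximalIdeal_height_eq_ringKrullDim] at e2
  rw [← IsLocalRing.maximalIdeal_height_eq_ringKrullDim, hdim, WithBot.coe_add, e1, e2]
  exact_mod_cast hle

theorem regular_ascend (A B : Type u) [CommRing A] [CommRing B] [IsNoetherianRing B] [Algebra A B] [Module.Flat A B]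
    (q : Ideal B) [q.IsPrime] (hA : IsRegularLocalRing (Localization.AtPrime (q.comap (algebraMap A B))))
    (hfib : IsRegularLocalRing (EGA4.FibLocRing A B q)) : IsRegularLocalRing (Localization.AtPrime q) := by
  have : q.LiesOver (q.comap (algebraMap A B)) := ⟨rfl⟩
  letI := Localization.AtPrime.algebraOfLiesOver (q.comap (algebraMap A B)) q
  have : IsLocalHom (algebraMap (Localization.AtPrime (q.comap (algebraMap A B))) (Localization.AtPrime q)) :=
    Localization.isLocalHom_localRingHom _ _ _ rfl
  have e : (maximalIdeal (Localization.AtPrime (q.comap (algebraMap A B)))).map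
      (algebraMap (Localization.AtPrime (q.comap (algebraMap A B))) (Localization.AtPrime q)) =
      (q.comap (algebraMap A B)).map (algebraMap A (Localization.AtPrime q)) := by
    rw [← Localization.AtPrime.map_eq_maximalIdeal, Ideal.map_map, ← IsScalarTower.algebraMap_eq]
  have : IsRegularLocalRing (Localization.AtPrime q ⧸ (maximalIdeal (Localization.AtPrime (q.comap (algebraMap A B)))).map
      (algebraMap (Localization.AtPrime (q.comap (algebraMap A B))) (Localization.AtPrime q))) :=
    IsRegularLocalRing.of_ringEquiv (R := EGA4.FibLocRing A B q) (Ideal.quotEquivOfEq e.symm)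
  exact regular_of_flat_fibre (Localization.AtPrime (q.comap (algebraMap A B))) _

/-- Nagata: a regular point whose reduced closure is regular near it has regular nearby specializations. -/
theorem nagata [IsNoetherianRing A] (p : Ideal A) [p.IsPrime] (hp : IsRegularLocalRing (Localization.AtPrime p))
    (f : A) (hf : f ∉ p)
    (h : ∀ (P : Ideal (A ⧸ p)) [P.IsPrime], Ideal.Quotient.mk p f ∉ P → IsRegularLocalRing (Localization.AtPrime P)) :
    ∃ g ∉ p, ∀ (q : Ideal A) [q.IsPrime], p ≤ q → g ∉ q → IsRegularLocalRing (Localization.AtPrime q) := by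
  classical
  let L := Localization.AtPrime p
  obtain ⟨T, hTc, hT⟩ := Submodule.FG.exists_span_finset_card_eq_spanFinrank (maximalIdeal L).fg_of_isNoetherianRing
  choose num den hnd using fun z : L => IsLocalization.exists_mk'_eq p.primeCompl z
  let s := T.image num
  have hsp : Ideal.span (s : Set A) ≤ p := Ideal.span_le.2 fun a ha => by
    obtain ⟨z, hz, rfl⟩ := Finset.mem_image.1 ha
    have hzm : z ∈ maximalIdeal L := hT ▸ Submodule.subset_span hz
    rw [← hnd z] at hzm
    exact (IsLocalization.AtPrime.mk'_mem_maximal_iff L p _ _).1 hzm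
  have hmap : (Ideal.span (s : Set A)).map (algebraMap A L) = maximalIdeal L := by
    refine le_antisymm ((Ideal.map_mono hsp).trans (Localization.AtPrime.map_eq_maximalIdeal (I := p)).le) ?_
    conv_lhs => rw [← hT]
    refine Ideal.span_le.2 fun z hz => ?_
    rw [← hnd z, SetLike.mem_coe, IsLocalization.mk'_eq_mul_mk'_one]
    exact Ideal.mul_mem_right _ _ (Ideal.mem_map_of_mem _ (Ideal.subset_span (Finset.mem_image_of_mem _ hz)))
  obtain ⟨G, hG⟩ := p.fg_of_isNoetherianRing
  have hu : ∀ y ∈ G, ∃ u ∈ p.primeCompl, u * y ∈ Ideal.span (s : Set A) := fun y hy => by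
    refine (IsLocalization.algebraMap_mem_map_algebraMap_iff p.primeCompl L _ y).1 ?_
    rw [hmap, ← Localization.AtPrime.map_eq_maximalIdeal]
    exact Ideal.mem_map_of_mem _ (hG ▸ Submodule.subset_span hy)
  choose! u hu hus using hu
  refine ⟨f * ∏ y ∈ G, u y, Ideal.IsPrime.mul_notMem inferInstance hf (fun hmem => ?_), fun q _ hpq hg => ?_⟩
  · obtain ⟨y, hy, hyp⟩ := (Ideal.IsPrime.prod_mem_iff (hp := ‹p.IsPrime›)).1 hmem
    exact hu y hy hyp
  let Q := Localization.AtPrime q
  let P := p.map (algebraMap A Q)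
  have hd : Disjoint (q.primeCompl : Set A) (p : Set A) := Set.disjoint_left.2 fun x hx hxp => hx (hpq hxp)
  have : P.IsPrime := IsLocalization.isPrime_of_isPrime_disjoint q.primeCompl _ p ‹_› hd
  have : IsRegularLocalRing (Localization.AtPrime P) := (regular_localization_iff q p hpq).2 hp
  have hP : P = (Ideal.span (s : Set A)).map (algebraMap A Q) := by
    refine le_antisymm (Ideal.map_le_iff_le_comap.2 ?_) (Ideal.map_mono hsp)
    conv_lhs => rw [← hG]
    refine Ideal.span_le.2 fun y hy => ?_
    have huq : u y ∉ q := fun hmem => hg (Ideal.mul_mem_left _ _ (q.mem_of_dvd (Finset.dvd_prod_of_mem u hy) hmem))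
    exact (IsLocalization.algebraMap_mem_map_algebraMap_iff q.primeCompl Q _ y).2 ⟨u y, huq, hus y hy⟩
  have hgen : (Submodule.spanFinrank P : ℕ∞) = P.height := by
    refine le_antisymm ?_ (P.height_le_spanFinrank Ideal.IsPrime.ne_top')
    have h1 : Submodule.spanFinrank P ≤ T.card := by
      rw [hP, Ideal.map_span]
      refine (Submodule.spanFinrank_span_le_ncard_of_finite (s.finite_toSet.image _)).trans
        ((Set.ncard_image_le s.finite_toSet).trans ?_)
      rw [Set.ncard_coe_finset]; exact Finset.card_image_le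
    have h2 := CAlgReg.dim_eq_spanFinrank (R := L)
    rw [← hTc, IsLocalization.AtPrime.ringKrullDim_eq_height p] at h2
    rw [IsLocalization.height_map_of_disjoint q.primeCompl p hd]
    rw [show p.height = (T.card : ℕ∞) from WithBot.coe_eq_coe.1 (h2.trans rfl)]
    exact_mod_cast h1
  let qbar : Ideal (A ⧸ p) := q.map (Ideal.Quotient.mk p)
  have hq' : qbar.comap (Ideal.Quotient.mk p) = q := by
    rw [Ideal.comap_map_of_surjective _ Ideal.Quotient.mk_surjective, ← RingHom.ker_eq_comap_bot, Ideal.mk_ker,
      sup_eq_left.2 hpq]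
  have : qbar.IsPrime := Ideal.map_isPrime_of_surjective Ideal.Quotient.mk_surjective (by rwa [Ideal.mk_ker])
  have hfq : Ideal.Quotient.mk p f ∉ qbar := fun hmem => hg (Ideal.mul_mem_right _ _ (hq' ▸ hmem))
  have := h qbar hfq
  have hc : q.primeCompl.map (Ideal.Quotient.mk p) = qbar.primeCompl := by
    ext x
    obtain ⟨x, rfl⟩ := Ideal.Quotient.mk_surjective x
    simp only [Submonoid.mem_map, Ideal.mem_primeCompl_iff, ← Ideal.mem_comap, hq']
    refine ⟨fun ⟨y, hy, hxy⟩ hx => hy ?_, fun hx => ⟨x, hx, rfl⟩⟩
    have := hpq (Ideal.Quotient.eq.1 hxy)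
    simpa using q.add_mem this hx
  have hloc : IsLocalization.AtPrime (Q ⧸ P) qbar := by
    show IsLocalization qbar.primeCompl _
    rw [← hc]
    exact (inferInstance : IsLocalization (Algebra.algebraMapSubmonoid (A ⧸ p) q.primeCompl) (Q ⧸ P))
  have : IsRegularLocalRing (Q ⧸ P) := IsRegularLocalRing.of_ringEquiv
    (IsLocalization.algEquiv qbar.primeCompl (Localization.AtPrime qbar) (Q ⧸ P)).toRingEquiv
  exact S11553.result Q P hgen

/-- The regular locus is open as soon as, for each regular prime `p`, the regular locus of `A ⧸ p` contains a nonempty open. -/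
theorem isOpen_regLocus [IsNoetherianRing A]
    (h : ∀ p : PrimeSpectrum A, p ∈ EGA4.regLocus A →
      ∃ U : Set (PrimeSpectrum (A ⧸ p.asIdeal)), IsOpen U ∧ U.Nonempty ∧ U ⊆ EGA4.regLocus (A ⧸ p.asIdeal)) :
    IsOpen (EGA4.regLocus A) := by
  refine isOpen_of_forall _ (fun p q hle hp => regular_of_le p.asIdeal q.asIdeal hle hp) fun p hp => ?_
  obtain ⟨U, hU, ⟨x, hx⟩, hUreg⟩ := h p hp
  obtain ⟨_, ⟨fb, rfl⟩, hxf, hfU⟩ := (PrimeSpectrum.isTopologicalBasis_basic_opens.isOpen_iff.1 hU) x hx
  obtain ⟨f, rfl⟩ := Ideal.Quotient.mk_surjective fb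
  have hf : f ∉ p.asIdeal := fun hf => hxf (by rw [Ideal.Quotient.eq_zero_iff_mem.2 hf]; exact zero_mem _)
  obtain ⟨g, hg, hgreg⟩ := nagata p.asIdeal hp f hf fun P _ hP => hUreg (hfU (show (⟨P, ‹_›⟩ : PrimeSpectrum _) ∈ _ from hP))
  exact ⟨g, hg, fun q hpq hgq => hgreg q.asIdeal hpq hgq⟩

end Groth.Agent.RegLocus
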