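import Groth.Agent.RegLocus.Fiber
import Groth.Agent.RegLocus.GeomRedTrans
import Groth.Agent.S2611

/-!
Composition of flat maps with geometrically normal fibres.
-/

set_option autoImplicit false

universe u

open TensorProduct

namespace Groth.Agent.RegLocus

theorem finite_residueField_tensor (A B K : Type u) [CommRing A] [CommRing B] [Algebra A B] [Field K] [Algebra A K]
    (p : Ideal A) [p.IsPrime] [Algebra p.ResidueField K] [IsScalarTower A p.ResidueField K]
    [Module.Finite p.ResidueField K] [Algebra B (K ⊗[A] B)] [IsScalarTower A B (K ⊗[A] B)]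
    (hB : ∀ b : B, algebraMap B (K ⊗[A] B) b = 1 ⊗ₜ b)
    (Q : Ideal (K ⊗[A] B)) [Q.IsPrime] (q : Ideal B) [q.IsPrime] [Algebra q.ResidueField Q.ResidueField]
    [IsScalarTower B q.ResidueField Q.ResidueField] :
    Module.Finite q.ResidueField Q.ResidueField := by
  classical
  let ι : K →ₐ[A] Q.ResidueField :=
    (IsScalarTower.toAlgHom A (K ⊗[A] B) Q.ResidueField).comp Algebra.TensorProduct.includeLeft
  have hι : ∀ k, ι k = algebraMap (K ⊗[A] B) Q.ResidueField (k ⊗ₜ 1) := fun k => rfl
  let bK := Module.Free.chooseBasis p.ResidueField K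
  let S : Set Q.ResidueField := Set.range fun i => ι (bK i)
  have hint : ∀ x ∈ S, IsIntegral q.ResidueField x := by
    rintro _ ⟨i, rfl⟩
    obtain ⟨f, hf, hf0⟩ := Algebra.IsIntegral.isIntegral (R := p.ResidueField) (bK i)
    letI : Algebra p.ResidueField Q.ResidueField := (ι.toRingHom.comp (algebraMap p.ResidueField K)).toAlgebra
    have hcomm : ∀ c : p.ResidueField, ∃ d : q.ResidueField, algebraMap q.ResidueField Q.ResidueField d =
        ι (algebraMap p.ResidueField K c) := fun c => by
      have hAq : ∀ x : A, algebraMap q.ResidueField Q.ResidueField (algebraMap B q.ResidueField (algebraMap A B x)) =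
          algebraMap A Q.ResidueField x := fun x => by
        rw [← IsScalarTower.algebraMap_apply B q.ResidueField Q.ResidueField,
          IsScalarTower.algebraMap_apply B (K ⊗[A] B) Q.ResidueField, ← IsScalarTower.algebraMap_apply A B (K ⊗[A] B),
          ← IsScalarTower.algebraMap_apply A (K ⊗[A] B) Q.ResidueField]
      have hιA : ∀ x : A, ι (algebraMap p.ResidueField K (algebraMap A p.ResidueField x)) = algebraMap A Q.ResidueField x :=
        fun x => by rw [← IsScalarTower.algebraMap_apply A p.ResidueField K, ι.commutes]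
      obtain ⟨a, s, hs, rfl⟩ := IsFractionRing.div_surjective (A ⧸ p) c
      obtain ⟨a, rfl⟩ := Ideal.Quotient.mk_surjective a
      obtain ⟨s, rfl⟩ := Ideal.Quotient.mk_surjective s
      refine ⟨algebraMap B q.ResidueField (algebraMap A B a) / algebraMap B q.ResidueField (algebraMap A B s), ?_⟩
      rw [map_div₀, hAq, hAq, map_div₀, map_div₀]
      rw [← hιA a, ← hιA s]
      rfl
    have hdeg : ∀ n, ∃ d : q.ResidueField, algebraMap q.ResidueField Q.ResidueField d =
        ι (algebraMap p.ResidueField K (f.coeff n)) := fun n => hcomm _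
    choose d hd using hdeg
    let g : Polynomial q.ResidueField := Polynomial.X ^ f.natDegree + ∑ n ∈ Finset.range f.natDegree, Polynomial.C (d n) * Polynomial.X ^ n
    refine ⟨g, Polynomial.monic_X_pow_add (lt_of_le_of_lt (Polynomial.degree_sum_le _ _) ((Finset.sup_lt_iff (WithBot.bot_lt_coe _)).2 fun n hn => lt_of_le_of_lt (Polynomial.degree_C_mul_X_pow_le _ _) (by exact_mod_cast Finset.mem_range.1 hn))), ?_⟩
    show Polynomial.eval₂ (algebraMap q.ResidueField Q.ResidueField) (ι (bK i)) g = 0
    have h0 := congrArg ι hf0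
    rw [map_zero, Polynomial.eval₂_eq_sum_range, Finset.sum_range_succ, hf.coeff_natDegree, map_one, one_mul,
      map_add, map_sum, map_pow] at h0
    rw [← h0]
    simp only [g, Polynomial.eval₂_add, Polynomial.eval₂_finsetSum, Polynomial.eval₂_mul, Polynomial.eval₂_C,
      Polynomial.eval₂_X_pow, hd, map_mul, map_pow]
    rw [add_comm]
  let T := Algebra.adjoin q.ResidueField S
  have : Module.Finite q.ResidueField T :=
    Module.Finite.iff_fg.2 (fg_adjoin_of_finite (Set.finite_range _) hint)
  have hfield : IsField T := isField_of_isIntegral_of_isField' (Field.toIsField q.ResidueField)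
  have hrange : ∀ r : K ⊗[A] B, algebraMap (K ⊗[A] B) Q.ResidueField r ∈ T := fun r => by
    induction r using TensorProduct.induction_on with
    | zero => rw [map_zero]; exact zero_mem _
    | tmul k b =>
      have e1 : k ⊗ₜ[A] b = (k ⊗ₜ 1) * algebraMap B (K ⊗[A] B) b := by
        rw [hB, Algebra.TensorProduct.tmul_mul_tmul, one_mul, mul_one]
      rw [e1, map_mul, ← IsScalarTower.algebraMap_apply B (K ⊗[A] B) Q.ResidueField,
        IsScalarTower.algebraMap_apply B q.ResidueField Q.ResidueField]
      refine mul_mem ?_ (T.algebraMap_mem _)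
      rw [← hι, ← bK.sum_repr k, map_sum]
      refine sum_mem fun i _ => ?_
      rw [Algebra.smul_def, map_mul]
      refine mul_mem ?_ (Algebra.subset_adjoin ⟨i, rfl⟩)
      obtain ⟨a, s, hs, hc⟩ := IsFractionRing.div_surjective (A ⧸ p) (bK.repr k i)
      obtain ⟨a, rfl⟩ := Ideal.Quotient.mk_surjective a
      obtain ⟨s, rfl⟩ := Ideal.Quotient.mk_surjective s
      rw [← hc, map_div₀, map_div₀]
      have hAq : ∀ x : A, ι (algebraMap p.ResidueField K (algebraMap (A ⧸ p) p.ResidueField (Ideal.Quotient.mk p x))) =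
          algebraMap q.ResidueField Q.ResidueField (algebraMap B q.ResidueField (algebraMap A B x)) := fun x => by
        rw [← IsScalarTower.algebraMap_apply B q.ResidueField Q.ResidueField,
          IsScalarTower.algebraMap_apply B (K ⊗[A] B) Q.ResidueField, ← IsScalarTower.algebraMap_apply A B (K ⊗[A] B),
          ← IsScalarTower.algebraMap_apply A (K ⊗[A] B) Q.ResidueField, ← Ideal.Quotient.algebraMap_eq,
          ← IsScalarTower.algebraMap_apply A (A ⧸ p) p.ResidueField,
          ← IsScalarTower.algebraMap_apply A p.ResidueField K, ι.commutes]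
      rw [hAq, hAq, ← map_div₀]
      exact T.algebraMap_mem _
    | add y z hy hz => rw [map_add]; exact add_mem hy hz
  have htop : (T : Set Q.ResidueField) = Set.univ := Set.eq_univ_of_forall fun z => by
    obtain ⟨a, s, hs, rfl⟩ := IsFractionRing.div_surjective ((K ⊗[A] B) ⧸ Q) z
    obtain ⟨a, rfl⟩ := Ideal.Quotient.mk_surjective a
    obtain ⟨s, rfl⟩ := Ideal.Quotient.mk_surjective s
    have ha := hrange a
    have hs' := hrange s
    rw [IsScalarTower.algebraMap_apply (K ⊗[A] B) ((K ⊗[A] B) ⧸ Q) Q.ResidueField] at ha hs'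
    rw [div_eq_mul_inv]
    refine mul_mem ha ?_
    obtain ⟨w, hw⟩ := hfield.mul_inv_cancel (a := ⟨_, hs'⟩) (fun h => by
      have h' := congrArg Subtype.val h
      rw [ZeroMemClass.coe_zero, map_eq_zero_iff _ (IsFractionRing.injective _ _)] at h'
      exact (mem_nonZeroDivisors_iff_ne_zero.1 hs) h')
    have hw' := congrArg Subtype.val hw
    rw [MulMemClass.coe_mul, OneMemClass.coe_one] at hw'
    rw [← Ideal.Quotient.algebraMap_eq, ← eq_inv_of_mul_eq_one_right hw']
    exact w.2
  exact Module.Finite.of_surjective T.val.toLinearMap fun z => ⟨⟨z, SetLike.mem_coe.1 (htop.symm ▸ Set.mem_univ z)⟩, rfl⟩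

theorem fibLoc_normal_of_fibre (A B : Type u) [CommRing A] [CommRing B] [Algebra A B] (q : Ideal B) [q.IsPrime]
    (h : EGA4.IsNormalRing ((q.comap (algebraMap A B)).Fiber B)) :
    IsDomain (EGA4.FibLocRing A B q) ∧ IsIntegrallyClosed (EGA4.FibLocRing A B q) := by
  obtain ⟨P, hP, ⟨f⟩⟩ := exists_fibre_localization A B q
  obtain ⟨h1, h2⟩ := h P
  exact ⟨f.symm.toMulEquiv.isDomain, IsIntegrallyClosed.of_equiv (R := Localization.AtPrime P) f⟩

theorem geomNormal_trans (A B C : Type u) [CommRing A] [CommRing B] [CommRing C]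
    [IsNoetherianRing B] [IsNoetherianRing C] [Algebra A B] [Algebra B C] [Algebra A C] [IsScalarTower A B C]
    [Module.Flat B C]
    (hAB : ∀ (p : Ideal A) [p.IsPrime], EGA4.IsGeomNormal p.ResidueField (p.Fiber B))
    (hBC : ∀ (q : Ideal B) [q.IsPrime], EGA4.IsGeomNormal q.ResidueField (q.Fiber C))
    (p : Ideal A) [p.IsPrime] : EGA4.IsGeomNormal p.ResidueField (p.Fiber C) := by
  intro K _ _ hK
  letI : Algebra A K := ((algebraMap p.ResidueField K).comp (algebraMap A p.ResidueField)).toAlgebra
  have : IsScalarTower A p.ResidueField K := IsScalarTower.of_algebraMap_eq' rfl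
  let R := K ⊗[A] B
  letI : Algebra B R := Algebra.TensorProduct.rightAlgebra
  have : IsNoetherianRing R := isNoetherianRing_tensor_finite A B p K
  have hR : EGA4.IsNormalRing R := isNormalRing_of_equiv
    (Algebra.TensorProduct.cancelBaseChange A p.ResidueField p.ResidueField K B).toRingEquiv (hAB p K inferInstance)
  have : IsScalarTower A B R := IsScalarTower.of_algebraMap_eq fun a => by
    simp only [RingHom.algebraMap_toAlgebra]
    exact ((Algebra.TensorProduct.includeRight : B →ₐ[A] R).commutes a).symm
  let e : R ⊗[B] C ≃+* K ⊗[A] C :=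
    ((Algebra.TensorProduct.comm B R C).toRingEquiv.trans
      ((Algebra.TensorProduct.congr (AlgEquiv.refl : C ≃ₐ[B] C)
        ({ (Algebra.TensorProduct.comm A K B).toRingEquiv with commutes' := fun b => Algebra.TensorProduct.comm_tmul A (1 : K) b } :
          R ≃ₐ[B] B ⊗[A] K)).toRingEquiv.trans
        ((Algebra.TensorProduct.cancelBaseChange A B B C K).toRingEquiv.trans
          (Algebra.TensorProduct.comm A C K).toRingEquiv)))
  have : IsNoetherianRing (R ⊗[B] C) := by
    have := isNoetherianRing_tensor_finite A C p K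
    exact isNoetherianRing_of_ringEquiv _ e.symm
  refine isNormalRing_of_equiv (e.trans
    (Algebra.TensorProduct.cancelBaseChange A p.ResidueField p.ResidueField K C).symm.toRingEquiv) fun Q _ => ?_
  obtain ⟨h1, h2⟩ := hR (Q.comap (algebraMap R (R ⊗[B] C)))
  refine S2611.result R (R ⊗[B] C) (fun q' _ => ?_) Q
  let Q0 := q'.comap (algebraMap R (R ⊗[B] C))
  let q := Q0.comap (algebraMap B R)
  have : Q0.LiesOver q := ⟨rfl⟩
  letI := Localization.AtPrime.algebraOfLiesOver q Q0
  have : Module.Finite q.ResidueField Q0.ResidueField :=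
    finite_residueField_tensor A B K p (fun b => rfl) Q0 q
  have h := hBC q Q0.ResidueField inferInstance
  have e' : Q0.Fiber (R ⊗[B] C) ≃+* Q0.ResidueField ⊗[q.ResidueField] q.Fiber C :=
    (Algebra.TensorProduct.cancelBaseChange B R R Q0.ResidueField C).toRingEquiv.trans
      (Algebra.TensorProduct.cancelBaseChange B q.ResidueField q.ResidueField Q0.ResidueField C).symm.toRingEquiv
  exact fibLoc_normal_of_fibre R (R ⊗[B] C) q' (isNormalRing_of_equiv e'.symm h)

end Groth.Agent.RegLocus
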