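import Groth.Agent.RegLocus.GeomBaseChange
import Groth.Agent.RegLocus.GeomRedTrans
import Groth.Agent.RegLocus.GeomNormTrans
import Mathlib

/-!
# Normal / regular: localisations, tensor products, descent of normal homs
-/

universe u

open TensorProduct

set_option linter.style.haveILetI false

namespace Groth.Agent.RegLocus

/-- Localisations of normal rings are normal. -/
theorem isNormalRing_of_localization (R : Type u) [CommRing R] (M : Submonoid R) (S : Type u) [CommRing S]
    [Algebra R S] [IsLocalization M S] (h : EGA4.IsNormalRing R) : EGA4.IsNormalRing S := fun P _ => by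
  haveI := IsLocalization.isLocalization_isLocalization_atPrime_isLocalization M (Localization.AtPrime P) P
  let q := P.comap (algebraMap R S)
  let e := IsLocalization.algEquiv q.primeCompl (Localization.AtPrime q) (Localization.AtPrime P)
  obtain ⟨h1, h2⟩ := h q
  haveI := h1
  haveI := h2
  exact ⟨e.symm.toMulEquiv.isDomain, IsIntegrallyClosed.of_equiv e.toRingEquiv⟩

/-- Flatness descends along a faithfully flat extension of the middle ring. -/
theorem flat_of_comp_faithfullyFlat (A B C : Type u) [CommRing A] [CommRing B] [CommRing C] [Algebra A B]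
    [Algebra B C] [Algebra A C] [IsScalarTower A B C] [Module.FaithfullyFlat B C] [Module.Flat A C] :
    Module.Flat A B := by
  refine Module.Flat.iff_lTensor_preserves_injective_linearMap.2 fun N N' _ _ _ _ f hf => ?_
  let g : B ⊗[A] N →ₗ[B] B ⊗[A] N' := AlgebraTensorModule.lTensor B B f
  have hg : Function.Injective (LinearMap.lTensor C g) := by
    let e1 := AlgebraTensorModule.cancelBaseChange A B B C N
    let e2 := AlgebraTensorModule.cancelBaseChange A B B C N'
    have hcomm : ∀ x, e2 (LinearMap.lTensor C g x) = LinearMap.lTensor C f (e1 x) := by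
      intro x
      induction x using TensorProduct.induction_on with
      | zero => simp only [map_zero]
      | add y z hy hz => simp only [map_add, hy, hz]
      | tmul c y =>
        induction y using TensorProduct.induction_on with
        | zero => simp only [TensorProduct.tmul_zero, map_zero]
        | add u v hu hv => simp only [TensorProduct.tmul_add, map_add, hu, hv]
        | tmul b n => simp [e1, e2, g]
    intro x y hxy
    refine e1.injective (Module.Flat.lTensor_preserves_injective_linearMap (M := C) f hf ?_)
    rw [← hcomm, ← hcomm, hxy]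
  exact (Module.FaithfullyFlat.lTensor_injective_iff_injective B C g).1 hg

/-- Geometric normality passes to localisations. -/
theorem geomNormal_localization (k A : Type u) [Field k] [CommRing A] [Algebra k A] (M : Submonoid A)
    (B : Type u) [CommRing B] [Algebra A B] [IsLocalization M B] [Algebra k B] [IsScalarTower k A B]
    (h : EGA4.IsGeomNormal k A) : EGA4.IsGeomNormal k B := fun k' _ _ hfin => by
  let R := A ⊗[k] k'
  letI : Algebra R (B ⊗[A] R) := Algebra.TensorProduct.rightAlgebra
  haveI : IsLocalization (Algebra.algebraMapSubmonoid R M) (B ⊗[A] R) := inferInstance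
  have h1 : EGA4.IsNormalRing R := isNormalRing_of_equiv (Algebra.TensorProduct.comm k k' A).toRingEquiv (h k' hfin)
  have h2 : EGA4.IsNormalRing (B ⊗[A] R) :=
    isNormalRing_of_localization R (Algebra.algebraMapSubmonoid R M) (B ⊗[A] R) h1
  exact isNormalRing_of_equiv ((Algebra.TensorProduct.cancelBaseChange k A A B k').toRingEquiv.trans
    (Algebra.TensorProduct.comm k B k').toRingEquiv) h2

/-- Normal homomorphisms descend along a faithfully flat extension of the target. -/
theorem isNormalHom_descend (A B C : Type u) [CommRing A] [CommRing B] [CommRing C] [IsNoetherianRing B]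
    [IsNoetherianRing C] [Algebra A B] [Algebra B C] [Algebra A C] [IsScalarTower A B C] [Module.FaithfullyFlat B C]
    (hAC : EGA4.IsNormalHom A C) : EGA4.IsNormalHom A B := by
  haveI := hAC.1
  refine ⟨flat_of_comp_faithfullyFlat A B C, fun p _ k' _ _ hfin => ?_⟩
  haveI := hfin
  letI : Algebra A k' := ((algebraMap p.ResidueField k').comp (algebraMap A p.ResidueField)).toAlgebra
  haveI : IsScalarTower A p.ResidueField k' := IsScalarTower.of_algebraMap_eq fun _ => rfl
  let R := k' ⊗[A] B
  letI : Algebra B R := Algebra.TensorProduct.rightAlgebra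
  haveI : IsNoetherianRing R := isNoetherianRing_tensor_finite A B p k'
  have : IsScalarTower A B R := IsScalarTower.of_algebraMap_eq fun a => by
    simp only [RingHom.algebraMap_toAlgebra]
    exact ((Algebra.TensorProduct.includeRight : B →ₐ[A] R).commutes a).symm
  let e : R ⊗[B] C ≃+* k' ⊗[A] C :=
    ((Algebra.TensorProduct.comm B R C).toRingEquiv.trans
      ((Algebra.TensorProduct.congr (AlgEquiv.refl : C ≃ₐ[B] C)
        ({ (Algebra.TensorProduct.comm A k' B).toRingEquiv with commutes' := fun b => Algebra.TensorProduct.comm_tmul A (1 : k') b } :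
          R ≃ₐ[B] B ⊗[A] k')).toRingEquiv.trans
        ((Algebra.TensorProduct.cancelBaseChange A B B C k').toRingEquiv.trans
          (Algebra.TensorProduct.comm A C k').toRingEquiv)))
  haveI : IsNoetherianRing (R ⊗[B] C) := by
    have := isNoetherianRing_tensor_finite A C p k'
    exact isNoetherianRing_of_ringEquiv _ e.symm
  have h1 : EGA4.IsNormalRing (k' ⊗[A] C) :=
    isNormalRing_of_equiv (Algebra.TensorProduct.cancelBaseChange A p.ResidueField p.ResidueField k' C).toRingEquiv
      (hAC.2 p k' hfin)
  have h2 : EGA4.IsNormalRing R := isNormalRing_descend R (R ⊗[B] C) (isNormalRing_of_equiv e.symm h1)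
  exact isNormalRing_of_equiv
    (Algebra.TensorProduct.cancelBaseChange A p.ResidueField p.ResidueField k' B).toRingEquiv.symm h2

/-- Normal `⊗` geometrically normal. -/
theorem isNormalRing_tensor (k S T : Type u) [Field k] [CommRing S] [CommRing T] [Algebra k S] [Algebra k T]
    [IsNoetherianRing S] [IsNoetherianRing T] [IsNoetherianRing (S ⊗[k] T)]
    (hS : EGA4.IsNormalRing S) (hT : EGA4.IsGeomNormal k T) : EGA4.IsNormalRing (S ⊗[k] T) := fun Q _ => by
  obtain ⟨h1, h2⟩ := hS (Q.comap (algebraMap S (S ⊗[k] T)))
  haveI := h1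
  haveI := h2
  refine S2611.result S (S ⊗[k] T) (fun P _ => ?_) Q
  let q := P.comap (algebraMap S (S ⊗[k] T))
  haveI := isNoetherianRing_fiber S (S ⊗[k] T) q
  let e : q.Fiber (S ⊗[k] T) ≃+* q.ResidueField ⊗[k] T :=
    (Algebra.TensorProduct.cancelBaseChange k S S q.ResidueField T).toRingEquiv
  haveI : IsNoetherianRing (q.ResidueField ⊗[k] T) := isNoetherianRing_of_ringEquiv _ e
  have hfib : EGA4.IsNormalRing (q.Fiber (S ⊗[k] T)) := isNormalRing_of_equiv e.symm (isNormalRing_any k T hT q.ResidueField)
  obtain ⟨P', hP', ⟨f⟩⟩ := exists_fibre_localization S (S ⊗[k] T) P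
  obtain ⟨g1, g2⟩ := hfib P'
  exact ⟨f.symm.toMulEquiv.isDomain, IsIntegrallyClosed.of_equiv (R := Localization.AtPrime P') f⟩

/-- Regular `⊗` geometrically regular. -/
theorem isRegularRing_tensor (k S T : Type u) [Field k] [CommRing S] [CommRing T] [Algebra k S] [Algebra k T]
    [IsNoetherianRing S] [IsNoetherianRing T] [IsNoetherianRing (S ⊗[k] T)]
    (hS : IsRegularRing S) (hT : CAlg.IsGeometricallyRegular k T) : IsRegularRing (S ⊗[k] T) := ⟨fun P _ => by
  refine regular_ascend S (S ⊗[k] T) P (hS.isRegularLocalRing_localization _) ?_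
  let q := P.comap (algebraMap S (S ⊗[k] T))
  haveI := isNoetherianRing_fiber S (S ⊗[k] T) q
  let e : q.Fiber (S ⊗[k] T) ≃+* q.ResidueField ⊗[k] T :=
    (Algebra.TensorProduct.cancelBaseChange k S S q.ResidueField T).toRingEquiv
  haveI : IsNoetherianRing (q.ResidueField ⊗[k] T) := isNoetherianRing_of_ringEquiv _ e
  have hfib : IsRegularRing (q.Fiber (S ⊗[k] T)) := isRegularRing_of_ringEquiv' e.symm (isRegularRing_any k T hT q.ResidueField)
  obtain ⟨P', hP', ⟨f⟩⟩ := exists_fibre_localization S (S ⊗[k] T) P
  haveI := hfib.isRegularLocalRing_localization P'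
  exact IsRegularLocalRing.of_ringEquiv (R := Localization.AtPrime P') f⟩

/-- Base change to a finite extension for the second statements. -/
theorem geom_tensor (k S T : Type u) [Field k] [CommRing S] [CommRing T] [Algebra k S] [Algebra k T]
    [IsNoetherianRing S] [IsNoetherianRing T] [IsNoetherianRing (S ⊗[k] T)]
    (k' : Type u) [Field k'] [Algebra k k'] [Module.Finite k k'] :
    IsNoetherianRing (k' ⊗[k] S) ∧ IsNoetherianRing ((k' ⊗[k] S) ⊗[k] T) ∧
      Nonempty ((k' ⊗[k] S) ⊗[k] T ≃+* k' ⊗[k] (S ⊗[k] T)) := by
  let e : (k' ⊗[k] S) ⊗[k] T ≃+* k' ⊗[k] (S ⊗[k] T) := (Algebra.TensorProduct.assoc k k k k' S T).toRingEquiv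
  haveI := isNoetherianRing_finite_tensor k (S ⊗[k] T) k'
  exact ⟨isNoetherianRing_finite_tensor k S k', isNoetherianRing_of_ringEquiv _ e.symm, ⟨e⟩⟩

end Groth.Agent.RegLocus
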