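import Groth.Agent.RegLocus.FieldExt
import Groth.Agent.S4733
import Groth.Agent.S2610
import Groth.Agent.S2611
import Groth.Agent.RegNormal.Basic

/-!
Geometric regularity / normality tested on finite purely inseparable extensions gives it for all
finitely generated field extensions.
-/

set_option autoImplicit false

universe u

open TensorProduct

namespace Groth.Agent.RegLocus

theorem faithfullyFlat_map_tensor (k K T L : Type u) [CommRing k] [CommRing K] [CommRing T] [CommRing L] [Algebra k K]
    [Algebra k T] [Algebra k L] [Algebra T L] [IsScalarTower k T L] [Module.FaithfullyFlat T L] :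
    letI := ((Algebra.TensorProduct.map (IsScalarTower.toAlgHom k T L) (AlgHom.id k K)).toRingHom).toAlgebra
    Module.FaithfullyFlat (T ⊗[k] K) (L ⊗[k] K) := by
  letI := ((Algebra.TensorProduct.map (IsScalarTower.toAlgHom k T L) (AlgHom.id k K)).toRingHom).toAlgebra
  let e0 : (T ⊗[k] K) ⊗[T] L ≃+* L ⊗[k] K := (Algebra.TensorProduct.comm T (T ⊗[k] K) L).toRingEquiv.trans
    (Algebra.TensorProduct.cancelBaseChange k T T L K).toRingEquiv
  let e : (T ⊗[k] K) ⊗[T] L ≃ₗ[T ⊗[k] K] L ⊗[k] K :=
    { e0.toAddEquiv with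
      map_smul' := fun r x => by
        have key : ∀ r : T ⊗[k] K, e0 (algebraMap (T ⊗[k] K) ((T ⊗[k] K) ⊗[T] L) r) =
            algebraMap (T ⊗[k] K) (L ⊗[k] K) r := fun r => by
          induction r using TensorProduct.induction_on with
          | zero => simp only [map_zero]
          | tmul a b => simp [e0, RingHom.algebraMap_toAlgebra, Algebra.smul_def]
          | add y z hy hz => simp only [map_add, hy, hz]
        change e0 (r • x) = algebraMap (T ⊗[k] K) (L ⊗[k] K) r * e0 x
        rw [Algebra.smul_def r x, map_mul, key] }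
  exact Module.FaithfullyFlat.of_linearEquiv _ _ e.symm

theorem isRegularRing_of_ringEquiv' {R S : Type u} [CommRing R] [CommRing S] (e : R ≃+* S) (h : IsRegularRing R) :
    IsRegularRing S :=
  have := isNoetherianRing_of_ringEquiv R e
  ⟨fun p _ => regular_of_equiv e (fun Q _ => h.isRegularLocalRing_localization Q) p⟩

theorem isRegularRing_descend (A B : Type u) [CommRing A] [CommRing B] [Algebra A B] [IsNoetherianRing A]
    [Module.FaithfullyFlat A B] (h : IsRegularRing B) : IsRegularRing A :=
  ⟨fun p _ => by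
    obtain ⟨Q, hQ⟩ := PrimeSpectrum.comap_surjective_of_faithfullyFlat (A := A) (B := B) ⟨p, ‹_›⟩
    have e : p = Q.asIdeal.comap (algebraMap A B) := (congrArg PrimeSpectrum.asIdeal hQ).symm
    subst e
    exact regular_descend A B Q.asIdeal (h.isRegularLocalRing_localization Q.asIdeal)⟩

theorem isNormalRing_descend (A B : Type u) [CommRing A] [CommRing B] [Algebra A B] [IsNoetherianRing A]
    [IsNoetherianRing B] [Module.FaithfullyFlat A B] (h : EGA4.IsNormalRing B) : EGA4.IsNormalRing A := fun p _ => by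
  obtain ⟨Q, hQ⟩ := PrimeSpectrum.comap_surjective_of_faithfullyFlat (A := A) (B := B) ⟨p, ‹_›⟩
  have e : p = Q.asIdeal.comap (algebraMap A B) := (congrArg PrimeSpectrum.asIdeal hQ).symm
  subst e
  obtain ⟨h1, h2⟩ := h Q.asIdeal
  exact S2610.result A B Q.asIdeal

theorem isRegularRing_sep_ext (k S K : Type u) [Field k] [CommRing S] [Algebra k S] [IsNoetherianRing S] [Field K]
    [Algebra k K] [Algebra.IsGeometricallyReduced k K] [IsNoetherianRing (S ⊗[k] K)] (h : IsRegularRing S) :
    IsRegularRing (S ⊗[k] K) :=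
  ⟨fun q _ => regular_ascend S (S ⊗[k] K) q (h.isRegularLocalRing_localization _) (S4733.fibLoc k S K q)⟩

theorem isNormalRing_sep_ext (k S K : Type u) [Field k] [CommRing S] [Algebra k S] [IsNoetherianRing S] [Field K]
    [Algebra k K] [Algebra.IsGeometricallyReduced k K] [IsNoetherianRing (S ⊗[k] K)] (h : EGA4.IsNormalRing S) :
    EGA4.IsNormalRing (S ⊗[k] K) := fun q _ => by
  obtain ⟨h1, h2⟩ := h (q.comap (algebraMap S (S ⊗[k] K)))
  refine S2611.result S (S ⊗[k] K) (fun Q _ => ?_) q
  have := S4733.fibLoc k S K Q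
  exact ⟨CAlgReg.isDomain, RegNormal.isIntegrallyClosed _⟩

theorem ext_of_purelyInseparable (P : ∀ (R : Type u) [CommRing R], Prop)
    (hequiv : ∀ {R S : Type u} [CommRing R] [CommRing S], (R ≃+* S) → P R → P S)
    (hdesc : ∀ (A B : Type u) [CommRing A] [CommRing B] [Algebra A B] [IsNoetherianRing A] [IsNoetherianRing B]
      [Module.FaithfullyFlat A B], P B → P A)
    (hasc : ∀ (k S K : Type u) [Field k] [CommRing S] [Algebra k S] [IsNoetherianRing S] [Field K] [Algebra k K]
      [Algebra.IsGeometricallyReduced k K] [IsNoetherianRing (S ⊗[k] K)], P S → P (S ⊗[k] K))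
    (k S : Type u) [Field k] [CommRing S] [Algebra k S] [IsNoetherianRing S]
    (h : ∀ (k' : Type u) [Field k'] [Algebra k k'], Module.Finite k k' → IsPurelyInseparable k k' → P (k' ⊗[k] S))
    (K : Type u) [Field K] [Algebra k K] [Algebra.EssFiniteType k K] : P (K ⊗[k] S) := by
  obtain ⟨k1, i1, i2, K1, j1, j2, j3, j4, j5, j6, hfin, hins, hfinK, hgr, hess⟩ := exists_separabilizing k K
  have : IsNoetherianRing (S ⊗[k] k1) := Algebra.FiniteType.isNoetherianRing S (S ⊗[k] k1)
  have : IsNoetherianRing (k1 ⊗[k] S) := isNoetherianRing_of_ringEquiv _ (Algebra.TensorProduct.comm k S k1).toRingEquiv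
  have : IsNoetherianRing (S ⊗[k] K) := Algebra.EssFiniteType.isNoetherianRing S (S ⊗[k] K)
  have : IsNoetherianRing (S ⊗[k] K1) := Algebra.EssFiniteType.isNoetherianRing S (S ⊗[k] K1)
  have : IsNoetherianRing (K ⊗[k] S) := isNoetherianRing_of_ringEquiv _ (Algebra.TensorProduct.comm k S K).toRingEquiv
  have : IsNoetherianRing (K1 ⊗[k] S) := isNoetherianRing_of_ringEquiv _ (Algebra.TensorProduct.comm k S K1).toRingEquiv
  let e : K1 ⊗[k1] (k1 ⊗[k] S) ≃+* K1 ⊗[k] S := (Algebra.TensorProduct.cancelBaseChange k k1 k1 K1 S).toRingEquiv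
  let e' : (k1 ⊗[k] S) ⊗[k1] K1 ≃+* K1 ⊗[k] S := (Algebra.TensorProduct.comm k1 (k1 ⊗[k] S) K1).toRingEquiv.trans e
  have : IsNoetherianRing ((k1 ⊗[k] S) ⊗[k1] K1) := isNoetherianRing_of_ringEquiv _ e'.symm
  have hP1 : P (K1 ⊗[k] S) := hequiv e' (hasc k1 (k1 ⊗[k] S) K1 (h k1 hfin hins))
  letI := ((Algebra.TensorProduct.map (IsScalarTower.toAlgHom k K K1) (AlgHom.id k S)).toRingHom).toAlgebra
  have : Module.FaithfullyFlat (K ⊗[k] S) (K1 ⊗[k] S) := faithfullyFlat_map_tensor k S K K1
  exact hdesc (K ⊗[k] S) (K1 ⊗[k] S) hP1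

theorem isRegularRing_ext (k S : Type u) [Field k] [CommRing S] [Algebra k S] [IsNoetherianRing S]
    (h : ∀ (k' : Type u) [Field k'] [Algebra k k'], Module.Finite k k' → IsPurelyInseparable k k' → IsRegularRing (k' ⊗[k] S))
    (K : Type u) [Field K] [Algebra k K] [Algebra.EssFiniteType k K] : IsRegularRing (K ⊗[k] S) :=
  ext_of_purelyInseparable (fun R _ => IsRegularRing R) isRegularRing_of_ringEquiv'
    (fun A B _ _ _ _ _ _ => isRegularRing_descend A B) (fun k S K _ _ _ _ _ _ _ _ => isRegularRing_sep_ext k S K) k S h K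

theorem isNormalRing_ext (k S : Type u) [Field k] [CommRing S] [Algebra k S] [IsNoetherianRing S]
    (h : ∀ (k' : Type u) [Field k'] [Algebra k k'], Module.Finite k k' → IsPurelyInseparable k k' → EGA4.IsNormalRing (k' ⊗[k] S))
    (K : Type u) [Field K] [Algebra k K] [Algebra.EssFiniteType k K] : EGA4.IsNormalRing (K ⊗[k] S) :=
  ext_of_purelyInseparable (fun R _ => EGA4.IsNormalRing R) isNormalRing_of_equiv
    (fun A B _ _ _ _ _ _ => isNormalRing_descend A B) (fun k S K _ _ _ _ _ _ _ _ => isNormalRing_sep_ext k S K) k S h K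

theorem geomRegular_baseField (k S : Type u) [Field k] [CommRing S] [Algebra k S] [IsNoetherianRing S]
    (K : Type u) [Field K] [Algebra k K] [Algebra.EssFiniteType k K] (h : CAlg.IsGeometricallyRegular k S) :
    CAlg.IsGeometricallyRegular K (K ⊗[k] S) := fun K' _ _ hfin => by
  letI : Algebra k K' := ((algebraMap K K').comp (algebraMap k K)).toAlgebra
  have : IsScalarTower k K K' := IsScalarTower.of_algebraMap_eq' rfl
  have : Algebra.EssFiniteType k K' := Algebra.EssFiniteType.comp k K K'
  exact isRegularRing_of_ringEquiv' (Algebra.TensorProduct.cancelBaseChange k K K K' S).symm.toRingEquiv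
    (isRegularRing_ext k S (fun k' _ _ hf _ => h k' hf) K')

theorem geomNormal_baseField (k S : Type u) [Field k] [CommRing S] [Algebra k S] [IsNoetherianRing S]
    (K : Type u) [Field K] [Algebra k K] [Algebra.EssFiniteType k K] (h : EGA4.IsGeomNormal k S) :
    EGA4.IsGeomNormal K (K ⊗[k] S) := fun K' _ _ hfin => by
  letI : Algebra k K' := ((algebraMap K K').comp (algebraMap k K)).toAlgebra
  have : IsScalarTower k K K' := IsScalarTower.of_algebraMap_eq' rfl
  have : Algebra.EssFiniteType k K' := Algebra.EssFiniteType.comp k K K'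
  exact isNormalRing_of_equiv (Algebra.TensorProduct.cancelBaseChange k K K K' S).symm.toRingEquiv
    (isNormalRing_ext k S (fun k' _ _ hf _ => h k' hf) K')

end Groth.Agent.RegLocus

namespace Groth.Agent.RegLocus

/-- converse of the base field change: geometric properties descend along any field extension -/
theorem geom_baseField_descend (P : ∀ (R : Type u) [CommRing R], Prop)
    (hequiv : ∀ {R S : Type u} [CommRing R] [CommRing S], (R ≃+* S) → P R → P S)
    (hdesc : ∀ (A B : Type u) [CommRing A] [CommRing B] [Algebra A B] [IsNoetherianRing A] [IsNoetherianRing B]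
      [Module.FaithfullyFlat A B], P B → P A)
    (k S : Type u) [Field k] [CommRing S] [Algebra k S] [IsNoetherianRing S]
    (K : Type u) [Field K] [Algebra k K] [Algebra.EssFiniteType k K]
    (h : ∀ (K' : Type u) [Field K'] [Algebra K K'], Module.Finite K K' → P (K' ⊗[K] (K ⊗[k] S)))
    (k' : Type u) [Field k'] [Algebra k k'] (hk' : Module.Finite k k') : P (k' ⊗[k] S) := by
  have : Nontrivial (K ⊗[k] k') :=
    (Algebra.TensorProduct.includeLeft_injective (R := k) (S := k) (A := K) (B := k') (algebraMap k k').injective).nontrivial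
  obtain ⟨m, hm⟩ := Ideal.exists_maximal (K ⊗[k] k')
  let K' := (K ⊗[k] k') ⧸ m
  letI : Field K' := Ideal.Quotient.field m
  have hfin : Module.Finite K K' :=
    Module.Finite.of_surjective (Ideal.Quotient.mkₐ K m).toLinearMap Ideal.Quotient.mk_surjective
  let ι : k' →ₐ[k] K' := (Ideal.Quotient.mkₐ k m).comp Algebra.TensorProduct.includeRight
  letI : Algebra k' K' := ι.toRingHom.toAlgebra
  have : IsScalarTower k k' K' := IsScalarTower.of_algebraMap_eq fun x => (ι.commutes x).symm
  have : Algebra.EssFiniteType k K' := Algebra.EssFiniteType.comp k K K'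
  have : Algebra.EssFiniteType k k' := inferInstance
  have hP : P (K' ⊗[k] S) := hequiv (Algebra.TensorProduct.cancelBaseChange k K K K' S).toRingEquiv (h K' hfin)
  have : IsNoetherianRing (S ⊗[k] k') := Algebra.EssFiniteType.isNoetherianRing S (S ⊗[k] k')
  have : IsNoetherianRing (S ⊗[k] K') := Algebra.EssFiniteType.isNoetherianRing S (S ⊗[k] K')
  have : IsNoetherianRing (k' ⊗[k] S) := isNoetherianRing_of_ringEquiv _ (Algebra.TensorProduct.comm k S k').toRingEquiv
  have : IsNoetherianRing (K' ⊗[k] S) := isNoetherianRing_of_ringEquiv _ (Algebra.TensorProduct.comm k S K').toRingEquiv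
  letI := ((Algebra.TensorProduct.map (IsScalarTower.toAlgHom k k' K') (AlgHom.id k S)).toRingHom).toAlgebra
  have : Module.FaithfullyFlat (k' ⊗[k] S) (K' ⊗[k] S) := faithfullyFlat_map_tensor k S k' K'
  exact hdesc (k' ⊗[k] S) (K' ⊗[k] S) hP

end Groth.Agent.RegLocus
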