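import Groth.Agent.SymGr.CompleteFibre
import Groth.Agent.RegLocus.NagataCrit
import Groth.Agent.RegLocus.GeomMisc
import Groth.Agent.CplFin.Basic
import Groth.Agent.RegLocus.SemilocalCpl
import Mathlib

/-!
# Complete Noetherian local rings are G-rings
-/

universe u

open TensorProduct IsLocalRing

set_option linter.style.haveILetI false

namespace Groth.Agent.RegLocus

/-- Geometric regularity does not see a bijective change of the base field. -/
theorem geomRegular_of_surjective_base (K K' S : Type u) [Field K] [Field K'] [CommRing S] [Algebra K K']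
    [Algebra K S] [Algebra K' S] [IsScalarTower K K' S] (hs : Function.Surjective (algebraMap K K'))
    (h : CAlg.IsGeometricallyRegular K S) : CAlg.IsGeometricallyRegular K' S := fun L _ _ hfin => by
  haveI := hfin
  letI : Algebra K L := ((algebraMap K' L).comp (algebraMap K K')).toAlgebra
  haveI : IsScalarTower K K' L := IsScalarTower.of_algebraMap_eq fun _ => rfl
  haveI : Module.Finite K K' := Module.Finite.of_surjective (Algebra.linearMap K K') hs
  haveI : Module.Finite K L := Module.Finite.trans K' L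
  haveI : TensorProduct.CompatibleSMul K K' L S := ⟨fun x l s => by
    obtain ⟨c, rfl⟩ := hs x
    rw [algebraMap_smul, algebraMap_smul, TensorProduct.smul_tmul]⟩
  exact isRegularRing_of_ringEquiv'
    (Algebra.TensorProduct.equivOfCompatibleSMul K K' K' L S).toRingEquiv.symm (h L inferInstance)

/-- Geometric regularity is local. -/
theorem geomRegular_of_localizations (K W : Type u) [Field K] [CommRing W] [IsNoetherianRing W] [Algebra K W]
    (h : ∀ (P : Ideal W) [P.IsPrime], CAlg.IsGeometricallyRegular K (Localization.AtPrime P)) :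
    CAlg.IsGeometricallyRegular K W := fun L _ _ hfin => by
  haveI := hfin
  haveI : IsNoetherianRing (W ⊗[K] L) := Algebra.FiniteType.isNoetherianRing W (W ⊗[K] L)
  suffices IsRegularRing (W ⊗[K] L) from isRegularRing_of_ringEquiv' (Algebra.TensorProduct.comm K W L).toRingEquiv this
  refine ⟨fun Q hQ => ?_⟩
  let P : Ideal W := Q.comap (algebraMap W (W ⊗[K] L))
  let WP := Localization.AtPrime P
  let S' := WP ⊗[W] (W ⊗[K] L)
  letI : Algebra (W ⊗[K] L) S' := Algebra.TensorProduct.rightAlgebra
  have hreg : IsRegularRing S' :=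
    isRegularRing_of_ringEquiv' ((Algebra.TensorProduct.comm K L WP).toRingEquiv.trans
      (Algebra.TensorProduct.cancelBaseChange K W W WP L).toRingEquiv.symm) (h P L hfin)
  exact regular_at_of_localization (W ⊗[K] L) S' (Algebra.algebraMapSubmonoid (W ⊗[K] L) P.primeCompl) hreg Q
    (Set.disjoint_left.2 fun s hs hsQ => by
      obtain ⟨x, hx, rfl⟩ := hs
      exact hx hsQ)
where
  regular_at_of_localization (S S' : Type u) [CommRing S] [CommRing S'] [Algebra S S'] (M : Submonoid S)
      [IsLocalization M S'] (h : IsRegularRing S') (Q : Ideal S) [hQ : Q.IsPrime]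
      (hd : Disjoint (M : Set S) (Q : Set S)) : IsRegularLocalRing (Localization.AtPrime Q) := by
    let Q' : Ideal S' := Q.map (algebraMap S S')
    haveI : Q'.IsPrime := IsLocalization.isPrime_of_isPrime_disjoint M S' Q hQ hd
    haveI := h.isRegularLocalRing_localization Q'
    have hc : Q'.comap (algebraMap S S') = Q := IsLocalization.under_map_of_isPrime_disjoint M S' hQ hd
    haveI : IsLocalization.AtPrime (Localization.AtPrime Q') Q := by
      have := IsLocalization.isLocalization_isLocalization_atPrime_isLocalization M (Localization.AtPrime Q') Q'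
      convert this using 2
      exact hc.symm
    exact IsRegularLocalRing.of_ringEquiv (R := Localization.AtPrime Q')
      (IsLocalization.algEquiv Q.primeCompl (Localization.AtPrime Q') (Localization.AtPrime Q)).toRingEquiv

/-- The quotient of a localisation at a prime is a localisation of the quotient. -/
theorem isLocalization_quotient (R S : Type u) [CommRing R] [CommRing S] [Algebra R S] (p : Ideal R) [p.IsPrime]
    [IsLocalization.AtPrime S p] (I : Ideal R) (hIp : I ≤ p) (J : Ideal S) (hJ : J = I.map (algebraMap R S))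
    [Algebra (R ⧸ I) (S ⧸ J)] [IsScalarTower R (R ⧸ I) (S ⧸ J)] [(p.map (Ideal.Quotient.mk I)).IsPrime] :
    IsLocalization.AtPrime (S ⧸ J) (p.map (Ideal.Quotient.mk I)) := by
  have hp' : ∀ x, Ideal.Quotient.mk I x ∈ p.map (Ideal.Quotient.mk I) ↔ x ∈ p := fun x => by
    rw [← Ideal.mem_comap, Ideal.comap_map_of_surjective _ Ideal.Quotient.mk_surjective, ← RingHom.ker_eq_comap_bot,
      Ideal.mk_ker, sup_eq_left.2 hIp]
  have hmap : ∀ x, algebraMap (R ⧸ I) (S ⧸ J) (Ideal.Quotient.mk I x) = Ideal.Quotient.mk J (algebraMap R S x) :=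
    fun x => (IsScalarTower.algebraMap_apply R (R ⧸ I) (S ⧸ J) x).symm
  refine (isLocalization_iff _ _).2 ⟨fun y => ?_, fun z => ?_, fun {x y} hxy => ?_⟩
  · obtain ⟨y', hy'⟩ := Ideal.Quotient.mk_surjective (y : R ⧸ I)
    rw [← hy', hmap]
    exact (IsLocalization.map_units S (⟨y', fun h => y.2 (hy' ▸ (hp' y').2 h)⟩ : p.primeCompl)).map _
  · obtain ⟨z, rfl⟩ := Ideal.Quotient.mk_surjective z
    obtain ⟨a, s, rfl⟩ := IsLocalization.exists_mk'_eq p.primeCompl z
    refine ⟨(Ideal.Quotient.mk I a, ⟨Ideal.Quotient.mk I s, fun h => s.2 ((hp' _).1 h)⟩), ?_⟩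
    show _ * algebraMap (R ⧸ I) (S ⧸ J) (Ideal.Quotient.mk I (s : R)) = algebraMap (R ⧸ I) (S ⧸ J) (Ideal.Quotient.mk I a)
    rw [hmap, hmap, ← map_mul, IsLocalization.mk'_spec]
  · obtain ⟨x, rfl⟩ := Ideal.Quotient.mk_surjective x
    obtain ⟨y, rfl⟩ := Ideal.Quotient.mk_surjective y
    rw [hmap, hmap, Ideal.Quotient.eq, ← map_sub, hJ, IsLocalization.algebraMap_mem_map_algebraMap_iff p.primeCompl] at hxy
    obtain ⟨s, hs, hsxy⟩ := hxy
    refine ⟨⟨Ideal.Quotient.mk I s, fun h => hs ((hp' s).1 h)⟩, ?_⟩
    show Ideal.Quotient.mk I s * Ideal.Quotient.mk I x = Ideal.Quotient.mk I s * Ideal.Quotient.mk I y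
    rw [← map_mul, ← map_mul, Ideal.Quotient.eq]
    rwa [← mul_sub]

/-- Complete Noetherian local rings are G-rings: localisations have geometrically regular formal fibres. -/
theorem isRegularHom_cpl_atPrime (A : Type u) [CommRing A] [IsNoetherianRing A] [IsLocalRing A]
    [IsAdicComplete (maximalIdeal A) A] (p : Ideal A) [p.IsPrime] :
    CAlg.IsRegularHom (Localization.AtPrime p) (EGA4.Cpl (Localization.AtPrime p)) := by
  let Ap := Localization.AtPrime p
  let D0 := EGA4.Cpl Ap
  obtain ⟨hN, hff, -⟩ := cpl_facts Ap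
  haveI := hN
  haveI := hff
  refine ⟨inferInstance, fun r hr => ?_⟩
  haveI := hr
  haveI : IsNoetherianRing (r.Fiber D0) := isNoetherianRing_fiber Ap D0 r
  refine ⟨inferInstance, geomRegular_of_localizations r.ResidueField (r.Fiber D0) fun P hP => ?_⟩
  haveI := hP
  -- the complete domain below
  let r0 : Ideal A := r.comap (algebraMap A Ap)
  haveI : r0.IsPrime := Ideal.IsPrime.comap _
  have hr0p : r0 ≤ p := fun x hx => by
    by_contra hxp
    exact hr.ne_top (Ideal.eq_top_of_isUnit_mem _ hx (IsLocalization.map_units Ap (⟨x, hxp⟩ : p.primeCompl)))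
  have hrmap : r0.map (algebraMap A Ap) = r := IsLocalization.map_comap p.primeCompl Ap r
  let B := A ⧸ r0
  let C := Ap ⧸ r
  let J : Ideal D0 := r.map (algebraMap Ap D0)
  let D := D0 ⧸ J
  haveI : IsLocalRing B := IsLocalRing.of_surjective' (Ideal.Quotient.mk r0) Ideal.Quotient.mk_surjective
  haveI : IsAdicComplete (maximalIdeal B) B := CplFin.isAdicComplete_local A B
  letI : Algebra B C := (Ideal.quotientMap r (algebraMap A Ap) le_rfl).toAlgebra
  haveI : IsScalarTower A B C := IsScalarTower.of_algebraMap_eq fun a => rfl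
  let n : Ideal B := p.map (Ideal.Quotient.mk r0)
  haveI : n.IsPrime := Ideal.map_isPrime_of_surjective Ideal.Quotient.mk_surjective (by rwa [Ideal.mk_ker])
  haveI : IsLocalization.AtPrime C n := isLocalization_quotient A Ap p r0 hr0p r hrmap.symm
  haveI : IsLocalRing C := IsLocalRing.of_surjective' (Ideal.Quotient.mk r) Ideal.Quotient.mk_surjective
  -- the prime of the completion
  let Q0 : Ideal D0 := P.comap (Algebra.TensorProduct.includeRight : D0 →ₐ[Ap] r.ResidueField ⊗[Ap] D0)
  haveI : Q0.IsPrime := Ideal.IsPrime.comap _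
  have hQr : Q0.comap (algebraMap Ap D0) = r := by
    ext x
    show (Algebra.TensorProduct.includeRight : D0 →ₐ[Ap] r.ResidueField ⊗[Ap] D0) (algebraMap Ap D0 x) ∈ P ↔ _
    rw [AlgHom.commutes, IsScalarTower.algebraMap_apply Ap r.ResidueField (r.ResidueField ⊗[Ap] D0)]
    refine ⟨fun h => by_contra fun hx => hP.ne_top ?_, fun hx => ?_⟩
    · refine Ideal.eq_top_of_isUnit_mem _ h ((isUnit_iff_ne_zero.2 fun h0 => hx ?_).map _)
      exact Ideal.algebraMap_residueField_eq_zero.1 h0
    · rw [Ideal.algebraMap_residueField_eq_zero.2 hx, map_zero]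
      exact P.zero_mem
  have hJQ : J ≤ Q0 := Ideal.map_le_iff_le_comap.2 hQr.ge
  haveI : Nontrivial D := Ideal.Quotient.nontrivial_iff.2 (ne_top_of_le_ne_top (Ideal.IsPrime.ne_top ‹Q0.IsPrime›) hJQ)
  haveI : IsLocalRing D := IsLocalRing.of_surjective' (Ideal.Quotient.mk J) Ideal.Quotient.mk_surjective
  haveI : IsAdicComplete (maximalIdeal D) D := CplFin.isAdicComplete_local D0 D
  letI : Algebra C D := (Ideal.quotientMap J (algebraMap Ap D0) Ideal.le_comap_map).toAlgebra
  letI : Algebra B D := ((algebraMap C D).comp (algebraMap B C)).toAlgebra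
  haveI : IsScalarTower B C D := IsScalarTower.of_algebraMap_eq fun _ => rfl
  have hmC : maximalIdeal C = (maximalIdeal Ap).map (Ideal.Quotient.mk r) :=
    (IsLocalRing.map_maximalIdeal_of_surjective _ Ideal.Quotient.mk_surjective).symm
  have hmD : maximalIdeal D = (maximalIdeal D0).map (Ideal.Quotient.mk J) :=
    (IsLocalRing.map_maximalIdeal_of_surjective _ Ideal.Quotient.mk_surjective).symm
  have hmD0 : maximalIdeal D0 = (maximalIdeal Ap).map (algebraMap Ap D0) := AdicCompletion.maximalIdeal_eq_map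
  have hsq : (algebraMap C D).comp (Ideal.Quotient.mk r) = (Ideal.Quotient.mk J).comp (algebraMap Ap D0) := rfl
  have hDm : maximalIdeal D = (maximalIdeal C).map (algebraMap C D) := by
    rw [hmD, hmD0, hmC, Ideal.map_map, Ideal.map_map, hsq]
  have hd : ∀ (k : ℕ) (d : D), ∃ c : C, d - algebraMap C D c ∈ maximalIdeal D ^ k := fun k d => by
    obtain ⟨d, rfl⟩ := Ideal.Quotient.mk_surjective d
    obtain ⟨a, ha⟩ := exists_approx Ap k d
    refine ⟨Ideal.Quotient.mk r a, ?_⟩
    rw [hmD, hmD0, ← Ideal.map_pow]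
    show Ideal.Quotient.mk J d - Ideal.Quotient.mk J (algebraMap Ap D0 a) ∈ _
    rw [← map_sub]
    exact Ideal.mem_map_of_mem _ ha
  have hc : ∀ (k : ℕ) (c : C), algebraMap C D c ∈ maximalIdeal D ^ k → c ∈ maximalIdeal C ^ k := fun k c hk => by
    obtain ⟨a, rfl⟩ := Ideal.Quotient.mk_surjective c
    rw [hmC, ← Ideal.map_pow]
    have h1 : algebraMap Ap D0 a ∈ ((maximalIdeal Ap) ^ k ⊔ r).map (algebraMap Ap D0) := by
      have h2 : Ideal.Quotient.mk J (algebraMap Ap D0 a) ∈ ((maximalIdeal D0) ^ k).map (Ideal.Quotient.mk J) := by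
        rw [Ideal.map_pow, ← hmD]; exact hk
      rw [← Ideal.mem_comap, Ideal.comap_map_of_surjective _ Ideal.Quotient.mk_surjective, ← RingHom.ker_eq_comap_bot,
        Ideal.mk_ker, hmD0, ← Ideal.map_pow] at h2
      rwa [Ideal.map_sup]
    have h3 : a ∈ (maximalIdeal Ap) ^ k ⊔ r := by
      rw [← Ideal.comap_map_eq_self_of_faithfullyFlat (B := D0) ((maximalIdeal Ap) ^ k ⊔ r)]
      exact h1
    obtain ⟨x, hx, y, hy, rfl⟩ := Submodule.mem_sup.1 h3
    rw [map_add, Ideal.Quotient.eq_zero_iff_mem.2 hy, add_zero]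
    exact Ideal.mem_map_of_mem _ hx
  -- the local ring of the fibre
  let q : Ideal D := Q0.map (Ideal.Quotient.mk J)
  haveI : q.IsPrime := Ideal.map_isPrime_of_surjective Ideal.Quotient.mk_surjective (by rwa [Ideal.mk_ker])
  have hq : q.comap (algebraMap C D) = ⊥ := by
    refine (Submodule.eq_bot_iff _).2 fun c hc' => ?_
    obtain ⟨a, rfl⟩ := Ideal.Quotient.mk_surjective c
    refine Ideal.Quotient.eq_zero_iff_mem.2 (hQr ▸ ?_)
    have : Ideal.Quotient.mk J (algebraMap Ap D0 a) ∈ Q0.map (Ideal.Quotient.mk J) := hc'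
    rw [← Ideal.mem_comap, Ideal.comap_map_of_surjective _ Ideal.Quotient.mk_surjective, ← RingHom.ker_eq_comap_bot,
      Ideal.mk_ker, sup_eq_left.2 hJQ] at this
    exact this
  let Sr := Localization.AtPrime Q0
  let JS : Ideal Sr := J.map (algebraMap D0 Sr)
  let Dq := Sr ⧸ JS
  letI : Algebra D Dq := (Ideal.quotientMap JS (algebraMap D0 Sr) Ideal.le_comap_map).toAlgebra
  haveI : IsScalarTower D0 D Dq := IsScalarTower.of_algebraMap_eq fun _ => rfl
  haveI : IsLocalization.AtPrime Dq q := isLocalization_quotient D0 Sr Q0 J hJQ JS rfl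
  letI : Algebra B Dq := ((algebraMap D Dq).comp (algebraMap B D)).toAlgebra
  haveI : IsScalarTower B D Dq := IsScalarTower.of_algebraMap_eq fun _ => rfl
  have hBK : Function.Injective (Ideal.Quotient.lift r0 (algebraMap A r.ResidueField) fun a ha => by
      rw [IsScalarTower.algebraMap_apply A Ap r.ResidueField]
      exact Ideal.algebraMap_residueField_eq_zero.2 ha) := by
    refine (injective_iff_map_eq_zero _).2 fun b hb => ?_
    obtain ⟨a, rfl⟩ := Ideal.Quotient.mk_surjective b
    rw [Ideal.Quotient.lift_mk, IsScalarTower.algebraMap_apply A Ap r.ResidueField,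
      Ideal.algebraMap_residueField_eq_zero] at hb
    exact Ideal.Quotient.eq_zero_iff_mem.2 hb
  let e := Ideal.Fiber.algEquivAux₂ (p := r) (S := D0) P
  let σ : r.ResidueField →+* Dq := e.toRingEquiv.toRingHom.comp (algebraMap r.ResidueField (Localization.AtPrime P))
  have hσ : ∀ a : A, σ (algebraMap A r.ResidueField a) = algebraMap D Dq (algebraMap B D (Ideal.Quotient.mk r0 a)) := by
    intro a
    show e (algebraMap r.ResidueField (Localization.AtPrime P) (algebraMap A r.ResidueField a)) = _
    rw [IsScalarTower.algebraMap_apply A Ap r.ResidueField, ← IsScalarTower.algebraMap_apply Ap r.ResidueField,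
      AlgEquiv.commutes]
    rfl
  letI : Algebra B r.ResidueField := (Ideal.Quotient.lift r0 (algebraMap A r.ResidueField) fun a ha => by
      rw [IsScalarTower.algebraMap_apply A Ap r.ResidueField]
      exact Ideal.algebraMap_residueField_eq_zero.2 ha).toAlgebra
  let τ : FractionRing B →+* r.ResidueField := IsFractionRing.lift (A := B) (K := FractionRing B) (g := algebraMap B r.ResidueField) hBK
  have hτ : ∀ b, τ (algebraMap B (FractionRing B) b) = algebraMap B r.ResidueField b :=
    fun b => IsFractionRing.lift_algebraMap hBK b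
  have hτA : ∀ a : A, algebraMap A r.ResidueField a ∈ τ.range := fun a =>
    ⟨algebraMap B (FractionRing B) (Ideal.Quotient.mk r0 a), by rw [hτ]; rfl⟩
  have hτs : Function.Surjective τ := fun z => by
    obtain ⟨a, s, hs, rfl⟩ := IsFractionRing.div_surjective (Ap ⧸ r) z
    obtain ⟨a, rfl⟩ := Ideal.Quotient.mk_surjective a
    obtain ⟨s, rfl⟩ := Ideal.Quotient.mk_surjective s
    show _ ∈ τ.range
    have hmem : ∀ x : Ap, algebraMap Ap r.ResidueField x ∈ τ.range := fun x => by
      obtain ⟨a, t, rfl⟩ := IsLocalization.exists_mk'_eq p.primeCompl x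
      have h : algebraMap Ap r.ResidueField (IsLocalization.mk' Ap a t) =
          algebraMap A r.ResidueField a / algebraMap A r.ResidueField t := by
        rw [eq_div_iff, IsScalarTower.algebraMap_apply A Ap r.ResidueField (t : A), ← map_mul, IsLocalization.mk'_spec,
          ← IsScalarTower.algebraMap_apply]
        rw [IsScalarTower.algebraMap_apply A Ap r.ResidueField]
        exact ((IsLocalization.map_units Ap t).map _).ne_zero
      rw [h]
      obtain ⟨u, hu⟩ := hτA a
      obtain ⟨v, hv⟩ := hτA t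
      exact ⟨u / v, by rw [map_div₀, hu, hv]⟩
    obtain ⟨u, hu⟩ := hmem a
    obtain ⟨v, hv⟩ := hmem s
    exact ⟨u / v, by rw [map_div₀, hu, hv]; rfl⟩
  letI : Algebra (FractionRing B) Dq := (σ.comp τ).toAlgebra
  haveI : IsScalarTower B (FractionRing B) Dq := IsScalarTower.of_algebraMap_eq fun b => by
    obtain ⟨a, rfl⟩ := Ideal.Quotient.mk_surjective b
    show algebraMap D Dq (algebraMap B D (Ideal.Quotient.mk r0 a)) = σ (τ (algebraMap B (FractionRing B) (Ideal.Quotient.mk r0 a)))
    rw [hτ]
    exact (hσ a).symm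
  have h1 := SymGr.isGeometricallyRegular_completion_completeDomain (B := B) (C := C) (D := D) n hDm hd hc q hq Dq
  letI : Algebra (FractionRing B) r.ResidueField := τ.toAlgebra
  letI : Algebra r.ResidueField Dq := σ.toAlgebra
  haveI : IsScalarTower (FractionRing B) r.ResidueField Dq := IsScalarTower.of_algebraMap_eq fun _ => rfl
  have h2 := geomRegular_of_surjective_base (FractionRing B) r.ResidueField Dq hτs h1
  intro L _ _ hfin
  let e' : Localization.AtPrime P ≃ₐ[r.ResidueField] Dq :=
    { e.toRingEquiv with commutes' := fun _ => rfl }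
  exact isRegularRing_of_ringEquiv' (Algebra.TensorProduct.congr (AlgEquiv.refl : L ≃ₐ[r.ResidueField] L) e').toRingEquiv.symm
    (h2 L hfin)

end Groth.Agent.RegLocus
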