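import Mathlib

/-!
# A submodule is finitely generated if it is so locally and generically
-/

universe u v

set_option linter.style.haveILetI false

namespace Groth.Agent.RegLocus

/-- Let `f` act injectively on `M`. If a submodule is finitely generated after inverting `f` and at every
maximal ideal, then it is finitely generated. -/
theorem fg_of_local_generic {A : Type u} {M : Type v} [CommRing A] [IsNoetherianRing A] [AddCommGroup M] [Module A M]
    (f : A) (hf : Function.Injective (fun x : M => f • x)) (B : Submodule A M)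
    (hgen : ∃ N : Submodule A M, N ≤ B ∧ N.FG ∧ ∀ x ∈ B, ∃ k : ℕ, f ^ k • x ∈ N)
    (hloc : ∀ m : Ideal A, m.IsMaximal →
      ∃ N : Submodule A M, N ≤ B ∧ N.FG ∧ ∀ x ∈ B, ∃ s ∉ m, s • x ∈ N) :
    B.FG := by
  classical
  obtain ⟨N1, hN1B, hN1fg, hN1⟩ := hgen
  have key : ∀ m : Ideal A, m.IsMaximal → ∃ g : A, g ∉ m ∧ ∃ N : Submodule A M, N ≤ B ∧ N.FG ∧
      ∀ x ∈ B, ∃ k : ℕ, g ^ k • x ∈ N := by
    intro m hm
    obtain ⟨N2, hN2B, hN2fg, hN2⟩ := hloc m hm
    let N0 : Submodule A M := N1 ⊔ N2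
    have hN0fg : N0.FG := hN1fg.sup hN2fg
    haveI : Module.Finite A N0 := Module.Finite.iff_fg.2 hN0fg
    let Q : Submodule A N0 := LinearMap.range (f • (LinearMap.id : N0 →ₗ[A] N0))
    have hSfin : (associatedPrimes A (N0 ⧸ Q)).Finite := associatedPrimes.finite A (N0 ⧸ Q)
    let T := hSfin.toFinset.filter (fun r => ¬ r ≤ m)
    have hT : ∀ r : T, ∃ a ∈ r.1, a ∉ m := fun r => SetLike.not_le_iff_exists.1 (Finset.mem_filter.1 r.2).2
    choose a ha ham using hT
    refine ⟨∏ r : T, a r, fun h => ?_, N0, sup_le hN1B hN2B, hN0fg, fun x hx => ?_⟩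
    · obtain ⟨r, -, hr⟩ := (hm.isPrime.prod_mem_iff).1 h
      exact ham r hr
    · let N' : Submodule A B := N0.comap B.subtype
      let I : Ideal A := N'.colon {(⟨x, hx⟩ : B)}
      suffices h : (∏ r : T, a r) ∈ I.radical by
        obtain ⟨k, hk⟩ := Ideal.mem_radical_iff.1 h
        exact ⟨k, by simpa [I, N', Submodule.mem_colon_singleton] using hk⟩
      rw [← Ideal.sInf_minimalPrimes, Submodule.mem_sInf]
      intro (r : Ideal A) (hr : r ∈ I.minimalPrimes)
      haveI : r.IsPrime := hr.1.1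
      have hfr : f ∈ r := by
        obtain ⟨k, hk⟩ := hN1 x hx
        exact hr.1.1.mem_of_pow_mem k (hr.1.2 (by
          simpa [I, N', Submodule.mem_colon_singleton] using Submodule.mem_sup_left (T := N2) hk))
      obtain ⟨y, hy⟩ := Submodule.exists_eq_colon_of_mem_minimalPrimes hr
      have hz : f • (y : M) ∈ N0 := by
        have := hy ▸ hfr
        simpa [N', Submodule.mem_colon_singleton] using this
      have hass : r ∈ associatedPrimes A (N0 ⧸ Q) := by
        refine isAssociatedPrime_iff.2 ⟨inferInstance, Q.mkQ ⟨f • (y : M), hz⟩, ?_⟩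
        ext c
        rw [hy, Submodule.mem_colon_singleton, Submodule.mem_colon_singleton, Submodule.mem_bot, ← map_smul,
          Submodule.mkQ_apply, Submodule.Quotient.mk_eq_zero]
        show c • (y : M) ∈ N0 ↔ c • (⟨f • (y : M), hz⟩ : N0) ∈ Q
        refine ⟨fun h => ⟨⟨c • (y : M), h⟩, Subtype.ext (smul_comm f c (y : M))⟩, fun ⟨w, hw⟩ => ?_⟩
        have hw' : f • (w : M) = f • (c • (y : M)) := by
          rw [smul_comm f c]; exact congrArg Subtype.val hw
        rw [← hf hw']
        exact w.2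
      by_cases hrm : r ≤ m
      · exfalso
        obtain ⟨s, hs, hsx⟩ := hN2 x hx
        exact hs (hrm (hr.1.2 (by
          simpa [I, N', Submodule.mem_colon_singleton] using Submodule.mem_sup_right (S := N1) hsx)))
      · have hrT : r ∈ T := Finset.mem_filter.2 ⟨hSfin.mem_toFinset.2 hass, hrm⟩
        exact r.mem_of_dvd (Finset.dvd_prod_of_mem a (Finset.mem_univ (⟨r, hrT⟩ : T))) (ha ⟨r, hrT⟩)
  let G : Set A := {g | ∃ N : Submodule A M, N ≤ B ∧ N.FG ∧ ∀ x ∈ B, ∃ k : ℕ, g ^ k • x ∈ N}
  have hG : Ideal.span G = ⊤ := by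
    by_contra h
    obtain ⟨m, hm, hle⟩ := Ideal.exists_le_maximal _ h
    obtain ⟨g, hgm, hg⟩ := key m hm
    exact hgm (hle (Ideal.subset_span hg))
  obtain ⟨T, hTG, hT⟩ := Submodule.mem_span_finite_of_mem_span ((Ideal.eq_top_iff_one _).1 hG)
  choose N hNB hNfg hN using fun g : T => hTG g.2
  suffices h : B = ⨆ g : T, N g by rw [h]; exact Submodule.fg_iSup _ hNfg
  refine le_antisymm (fun x hx => ?_) (iSup_le hNB)
  let I : Ideal A := (⨆ g : T, N g).colon {x}
  have hI : I = ⊤ := by
    rw [← Ideal.radical_eq_top, Ideal.eq_top_iff_one]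
    refine Ideal.span_le.2 (fun g hg => ?_) hT
    obtain ⟨k, hk⟩ := hN ⟨g, hg⟩ x hx
    exact Ideal.mem_radical_iff.2 ⟨k, Submodule.mem_colon_singleton.2 (Submodule.mem_iSup_of_mem ⟨g, hg⟩ hk)⟩
  have := (Ideal.eq_top_iff_one I).1 hI
  simpa [I, Submodule.mem_colon_singleton] using this

end Groth.Agent.RegLocus

namespace Groth.Agent.RegLocus

/-- If a localisation of `M` is finite, some finitely generated submodule absorbs `M` up to the monoid. -/
theorem exists_fg_of_finite_localizedModule {A : Type u} {M : Type v} [CommRing A] [AddCommGroup M] [Module A M]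
    (S : Submonoid A) (h : Module.Finite (Localization S) (LocalizedModule S M)) :
    ∃ N : Submodule A M, N.FG ∧ ∀ x : M, ∃ s ∈ S, s • x ∈ N := by
  classical
  obtain ⟨G, hG⟩ := h.fg_top
  let j := LocalizedModule.mkLinearMap S M
  choose p hp using fun z : LocalizedModule S M => IsLocalizedModule.surj S j z
  let N : Submodule A M := Submodule.span A ((G.image fun z => (p z).1 : Finset M) : Set M)
  refine ⟨N, ⟨_, rfl⟩, fun x => ?_⟩
  have key : ∀ z ∈ Submodule.span (Localization S) (G : Set (LocalizedModule S M)),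
      ∃ s ∈ S, ∃ n ∈ N, s • z = j n := by
    intro z hz
    induction hz using Submodule.span_induction with
    | mem y hy =>
      exact ⟨(p y).2.1, (p y).2.2, (p y).1,
        Submodule.subset_span (Finset.mem_coe.2 (Finset.mem_image_of_mem _ hy)), hp y⟩
    | zero => exact ⟨1, S.one_mem, 0, N.zero_mem, by simp⟩
    | add y z _ _ hy hz =>
      obtain ⟨s, hs, n, hn, hy⟩ := hy
      obtain ⟨t, ht, n', hn', hz⟩ := hz
      refine ⟨t * s, S.mul_mem ht hs, t • n + s • n', N.add_mem (N.smul_mem t hn) (N.smul_mem s hn'), ?_⟩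
      rw [map_add, map_smul, map_smul, ← hy, ← hz, smul_add, mul_smul]
      congr 1
      rw [← mul_smul, mul_comm t s]
    | smul c y _ hy =>
      obtain ⟨s, hs, n, hn, hy⟩ := hy
      obtain ⟨a, t, rfl⟩ := IsLocalization.exists_mk'_eq S c
      refine ⟨t * s, S.mul_mem t.2 hs, a • n, N.smul_mem a hn, ?_⟩
      have h1 : (t : A) • (IsLocalization.mk' (Localization S) a t • y) = a • y := by
        rw [← smul_assoc, Algebra.smul_def, IsLocalization.mk'_spec', algebraMap_smul]
      rw [map_smul, ← hy, mul_comm (t : A) s, mul_smul, h1, smul_comm]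
  obtain ⟨s, hs, n, hn, hx⟩ := key (j x) (hG ▸ Submodule.mem_top)
  rw [← map_smul] at hx
  obtain ⟨⟨t, ht⟩, htx⟩ := IsLocalizedModule.exists_of_eq (S := S) (f := j) hx
  refine ⟨t * s, S.mul_mem ht hs, ?_⟩
  rw [mul_smul]
  exact (show t • s • x = t • n from htx) ▸ N.smul_mem t hn

end Groth.Agent.RegLocus
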