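import Groth.Prelude.Def_Found
import Groth.Agent.CAlgN2.Insep
import Groth.Agent.N2Lib.Basic
import Groth.Agent.N2Poly.More
import Groth.Agent.RegLocus.LocalGeneric
import Groth.Agent.RegLocus.NagataCrit
import Groth.Agent.RegLocus.GeomExt
import Mathlib

/-!
# Nagata rings: local quotients N-2 + generic normality (EGA IV 7.7.2)
-/

universe u v

set_option linter.style.haveILetI false

namespace Groth.Agent.RegLocus

/-- `(A_M)/pA_M ≅ (A/p)_M` for `p ≤ M`. -/
theorem localQuot_equiv (A : Type u) [CommRing A] (p M : Ideal A) [p.IsPrime] [M.IsPrime]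
    (m : Ideal (A ⧸ p)) [m.IsPrime] (hm : m.comap (Ideal.Quotient.mk p) = M) :
    Nonempty ((Localization.AtPrime M ⧸ p.map (algebraMap A (Localization.AtPrime M))) ≃+* Localization.AtPrime m) := by
  have hmem : ∀ a : A, Ideal.Quotient.mk p a ∈ m ↔ a ∈ M := fun a => by rw [← hm, Ideal.mem_comap]
  let φ : Localization.AtPrime M →+* Localization.AtPrime m :=
    IsLocalization.lift (M := M.primeCompl)
      (g := (algebraMap (A ⧸ p) (Localization.AtPrime m)).comp (Ideal.Quotient.mk p))
      (fun s => IsLocalization.map_units (M := m.primeCompl) (Localization.AtPrime m)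
        ⟨Ideal.Quotient.mk p s, fun h => s.2 ((hmem s).1 h)⟩)
  have hφ : ∀ a, φ (algebraMap A _ a) = algebraMap (A ⧸ p) _ (Ideal.Quotient.mk p a) :=
    fun a => IsLocalization.lift_eq _ a
  have hsurj : Function.Surjective φ := by
    intro z
    obtain ⟨x, ⟨s, hs⟩, rfl⟩ := IsLocalization.exists_mk'_eq m.primeCompl z
    obtain ⟨a, rfl⟩ := Ideal.Quotient.mk_surjective x
    obtain ⟨b, rfl⟩ := Ideal.Quotient.mk_surjective s
    refine ⟨IsLocalization.mk' _ a (⟨b, fun h => hs ((hmem b).2 h)⟩ : M.primeCompl), ?_⟩
    rw [IsLocalization.eq_mk'_iff_mul_eq, ← hφ b, ← map_mul, IsLocalization.mk'_spec, hφ]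
  have hker : RingHom.ker φ = p.map (algebraMap A (Localization.AtPrime M)) := by
    refine le_antisymm (fun z hz => ?_) (Ideal.map_le_iff_le_comap.2 fun a ha => ?_)
    · obtain ⟨a, s, rfl⟩ := IsLocalization.exists_mk'_eq M.primeCompl z
      rw [IsLocalization.mk'_eq_mul_mk'_one]
      refine Ideal.mul_mem_right _ _ (Ideal.mem_map_of_mem _ ?_)
      have h1 : φ (algebraMap A _ a) = 0 := by
        rw [← IsLocalization.mk'_spec (Localization.AtPrime M) a s, map_mul, RingHom.mem_ker.1 hz, zero_mul]
      rw [hφ, IsLocalization.map_eq_zero_iff m.primeCompl] at h1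
      obtain ⟨⟨c, hc⟩, h2⟩ := h1
      obtain ⟨c, rfl⟩ := Ideal.Quotient.mk_surjective c
      rw [← map_mul, Ideal.Quotient.eq_zero_iff_mem] at h2
      exact (‹p.IsPrime›.mem_or_mem h2).resolve_left fun h => hc (by
        rw [Ideal.Quotient.eq_zero_iff_mem.2 h]; exact m.zero_mem)
    · rw [Ideal.mem_comap, RingHom.mem_ker, hφ, Ideal.Quotient.eq_zero_iff_mem.2 ha, map_zero]
  exact ⟨(Ideal.quotEquivOfEq hker.symm).trans (RingHom.quotientKerEquivOfSurjective hsurj)⟩

/-- If a submodule spans finitely over a localisation, it is absorbed by a finitely generated part. -/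
theorem exists_fg_absorb {A : Type u} {S : Type u} {W : Type v} [CommRing A] [CommRing S] [Algebra A S]
    (M : Submonoid A) [IsLocalization M S] [AddCommGroup W] [Module A W] [Module S W] [IsScalarTower A S W]
    (B : Submodule A W) (G : Finset W) (hG : ∀ x ∈ B, x ∈ Submodule.span S (G : Set W))
    (hGB : ∀ g ∈ G, ∃ s ∈ M, s • g ∈ B) :
    ∃ N : Submodule A W, N ≤ B ∧ N.FG ∧ ∀ x ∈ B, ∃ s ∈ M, s • x ∈ N := by
  classical
  choose s hs hsB using hGB
  let G' : Finset W := G.attach.image fun g => s g.1 g.2 • g.1
  refine ⟨Submodule.span A (G' : Set W), Submodule.span_le.2 ?_, ⟨_, rfl⟩, fun x hx => ?_⟩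
  · intro y hy
    obtain ⟨g, -, rfl⟩ := Finset.mem_image.1 (Finset.mem_coe.1 hy)
    exact hsB g.1 g.2
  · have key : ∀ z ∈ Submodule.span S (G : Set W), ∃ t ∈ M, t • z ∈ Submodule.span A (G' : Set W) := by
      intro z hz
      induction hz using Submodule.span_induction with
      | mem y hy =>
        exact ⟨s y hy, hs y hy, Submodule.subset_span
          (Finset.mem_coe.2 (Finset.mem_image.2 ⟨⟨y, hy⟩, Finset.mem_attach _ _, rfl⟩))⟩
      | zero => exact ⟨1, M.one_mem, by simp⟩
      | add y z _ _ hy hz =>
        obtain ⟨t, ht, hy⟩ := hy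
        obtain ⟨t', ht', hz⟩ := hz
        refine ⟨t * t', M.mul_mem ht ht', ?_⟩
        rw [smul_add]
        refine add_mem ?_ ?_
        · rw [mul_comm, mul_smul]; exact Submodule.smul_mem _ _ hy
        · rw [mul_smul]; exact Submodule.smul_mem _ _ hz
      | smul c y _ hy =>
        obtain ⟨t, ht, hy⟩ := hy
        obtain ⟨a, r, rfl⟩ := IsLocalization.exists_mk'_eq M c
        refine ⟨r * t, M.mul_mem r.2 ht, ?_⟩
        have h1 : (r : A) • (IsLocalization.mk' S a r • y) = a • y := by
          rw [← smul_assoc, Algebra.smul_def, IsLocalization.mk'_spec', algebraMap_smul]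
        rw [mul_comm (r : A) t, mul_smul, h1, smul_comm]
        exact Submodule.smul_mem _ _ hy
    exact key x (hG x hx)

/-- Integral closure in a finite extension: finite locally at `m` when the local ring is N-2. -/
theorem exists_absorb_atPrime (R : Type u) [CommRing R] [IsDomain R] (m : Ideal R) [m.IsPrime]
    (h : CAlg.IsN2 (Localization.AtPrime m)) (L : Type u) [Field L] [Algebra R L] [Algebra (FractionRing R) L]
    [IsScalarTower R (FractionRing R) L] [FiniteDimensional (FractionRing R) L] :
    ∃ N : Submodule R L, N ≤ Subalgebra.toSubmodule (integralClosure R L) ∧ N.FG ∧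
      ∀ x ∈ Subalgebra.toSubmodule (integralClosure R L), ∃ s ∉ m, s • x ∈ N := by
  classical
  let S := Localization.AtPrime m
  have hM : m.primeCompl ≤ nonZeroDivisors R := m.primeCompl_le_nonZeroDivisors
  let g : S →+* FractionRing R := IsLocalization.lift (M := m.primeCompl) (g := algebraMap R (FractionRing R))
    (fun s => IsLocalization.map_units (FractionRing R) (⟨s, hM s.2⟩ : nonZeroDivisors R))
  letI : Algebra S (FractionRing R) := g.toAlgebra
  haveI : IsScalarTower R S (FractionRing R) :=
    IsScalarTower.of_algebraMap_eq fun r => (IsLocalization.lift_eq _ r).symm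
  haveI : IsFractionRing S (FractionRing R) :=
    IsFractionRing.isFractionRing_of_isDomain_of_isLocalization m.primeCompl S (FractionRing R)
  letI : Algebra S L := ((algebraMap (FractionRing R) L).comp g).toAlgebra
  haveI : IsScalarTower S (FractionRing R) L := IsScalarTower.of_algebraMap_eq fun _ => rfl
  haveI : IsScalarTower R S L := IsScalarTower.of_algebraMap_eq fun r => by
    show algebraMap R L r = algebraMap (FractionRing R) L (g (algebraMap R S r))
    rw [show g (algebraMap R S r) = algebraMap R (FractionRing R) r from IsLocalization.lift_eq _ r,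
      ← IsScalarTower.algebraMap_apply]
  haveI := N2Lib.finite_integralClosure_of_isN2 h (FractionRing R) L
  obtain ⟨G, hG⟩ := ‹Module.Finite S (integralClosure S L)›.fg_top
  refine exists_fg_absorb (S := S) m.primeCompl _ (G.image fun y : integralClosure S L => (y : L)) (fun x hx => ?_) (fun y hy => ?_)
  · have h1 : (⟨x, (show IsIntegral R x from hx).tower_top⟩ : integralClosure S L) ∈
        Submodule.span S (G : Set (integralClosure S L)) := hG ▸ Submodule.mem_top
    have h2 := Submodule.apply_mem_span_image_of_mem_span (integralClosure S L).val.toLinearMap h1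
    simpa using h2
  · obtain ⟨w, -, hw⟩ := Finset.mem_image.1 hy
    obtain ⟨s, hs⟩ := IsIntegral.exists_multiple_integral_of_isLocalization (S := L) m.primeCompl (Rₘ := S) w.1 w.2
    exact ⟨s, s.2, hw ▸ hs⟩

/-- Generic finiteness from one finite subalgebra with a normal localisation. -/
theorem exists_absorb_generic (R : Type u) [CommRing R] [IsDomain R] (L : Type u) [Field L] [Algebra R L]
    (hinj : Function.Injective (algebraMap R L))
    (B : Subalgebra R L) [Module.Finite R B] [IsFractionRing B L] (f : B) (hf : f ≠ 0)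
    (hn : IsIntegrallyClosed (Localization.Away f)) :
    ∃ r : R, r ≠ 0 ∧ ∃ N : Submodule R L, N ≤ Subalgebra.toSubmodule (integralClosure R L) ∧ N.FG ∧
      ∀ x ∈ Subalgebra.toSubmodule (integralClosure R L), ∃ k : ℕ, r ^ k • x ∈ N := by
  haveI : Algebra.IsIntegral R B := Algebra.IsIntegral.of_finite R B
  have hne : (Ideal.span {f}).comap (algebraMap R B) ≠ ⊥ :=
    Ideal.comap_ne_bot_of_integral_mem hf (Ideal.mem_span_singleton_self f) (Algebra.IsIntegral.isIntegral f)
  obtain ⟨r, hr, hr0⟩ := Submodule.exists_mem_ne_zero_of_ne_bot hne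
  obtain ⟨c, hc⟩ := Ideal.mem_span_singleton.1 (Ideal.mem_comap.1 hr)
  refine ⟨r, hr0, Subalgebra.toSubmodule B, fun b hb => ?_, Module.Finite.iff_fg.1 ‹_›, fun x hx => ?_⟩
  · exact (Algebra.IsIntegral.isIntegral (⟨b, hb⟩ : B)).map B.val
  · let S := Localization.Away f
    have hfu : IsUnit (algebraMap B L f) := by
      rw [isUnit_iff_ne_zero]
      exact (map_ne_zero_iff _ (IsFractionRing.injective B L)).2 hf
    let g : S →+* L := IsLocalization.Away.lift f hfu
    letI : Algebra S L := g.toAlgebra
    haveI : IsScalarTower B S L := IsScalarTower.of_algebraMap_eq fun b => (IsLocalization.Away.lift_eq f hfu b).symm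
    haveI : IsFractionRing S L :=
      IsFractionRing.isFractionRing_of_isDomain_of_isLocalization (Submonoid.powers f) S L
    have hxS : IsIntegral S x := ((show IsIntegral R x from hx).tower_top (A := B)).tower_top
    obtain ⟨y, hy⟩ := (isIntegrallyClosed_iff L).1 hn hxS
    obtain ⟨b, ⟨_, k, rfl⟩, rfl⟩ := IsLocalization.exists_mk'_eq (Submonoid.powers f) y
    refine ⟨k, ?_⟩
    have h1 : algebraMap B L (f ^ k) * x = algebraMap B L b := by
      rw [← hy, IsScalarTower.algebraMap_apply B S L, ← map_mul, mul_comm, IsLocalization.mk'_spec S b (⟨f ^ k, k, rfl⟩ : Submonoid.powers f),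
        ← IsScalarTower.algebraMap_apply]
    have h2 : r ^ k • x = ((c ^ k * b : B) : L) := by
      rw [Algebra.smul_def, map_pow, show algebraMap R L r = algebraMap B L (f * c) from by rw [← hc]; rfl,
        ← map_pow, mul_pow, map_mul, mul_comm (algebraMap B L (f ^ k)), mul_assoc, h1, ← map_mul]
      rfl
    rw [h2]
    exact (c ^ k * b).2

/-- A finite subalgebra with fraction field `L`. -/
theorem exists_finite_subalgebra (R : Type u) [CommRing R] [IsDomain R] (L : Type u) [Field L] [Algebra R L]
    [Algebra (FractionRing R) L] [IsScalarTower R (FractionRing R) L] [FiniteDimensional (FractionRing R) L] :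
    ∃ B : Subalgebra R L, Module.Finite R B ∧ IsFractionRing B L := by
  classical
  let b := Module.finBasis (FractionRing R) L
  have : ∀ i, ∃ s : nonZeroDivisors R, IsIntegral R (s • b i) := fun i =>
    IsIntegral.exists_multiple_integral_of_isLocalization (S := L) (nonZeroDivisors R) (Rₘ := FractionRing R) (b i)
      (Algebra.IsIntegral.isIntegral _)
  choose s hs using this
  let T : Finset L := Finset.univ.image fun i => s i • b i
  let B : Subalgebra R L := Algebra.adjoin R (T : Set L)
  have hfin : Module.Finite R B := Module.Finite.iff_fg.2 (fg_adjoin_of_finite T.finite_toSet (fun x hx => by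
    obtain ⟨i, -, rfl⟩ := Finset.mem_image.1 (Finset.mem_coe.1 hx)
    exact hs i))
  refine ⟨B, hfin, ?_⟩
  have hRB : ∀ r : R, algebraMap R L r ∈ B := fun r => B.algebraMap_mem r
  have hinj : Function.Injective (algebraMap R L) := by
    rw [IsScalarTower.algebraMap_eq R (FractionRing R) L]
    exact (algebraMap (FractionRing R) L).injective.comp (IsFractionRing.injective R (FractionRing R))
  refine IsFractionRing.of_field B L fun z => ?_
  have hz : z ∈ Subfield.closure (B : Set L) := by
    rw [← b.sum_repr z]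
    refine sum_mem fun i _ => ?_
    rw [Algebra.smul_def]
    refine mul_mem ?_ ?_
    · obtain ⟨a, c, -, hac⟩ := IsFractionRing.div_surjective R (b.repr z i)
      rw [← hac, map_div₀, ← IsScalarTower.algebraMap_apply, ← IsScalarTower.algebraMap_apply]
      exact div_mem (Subfield.subset_closure (hRB a)) (Subfield.subset_closure (hRB c))
    · have h0 : algebraMap R L (s i) ≠ 0 := (map_ne_zero_iff _ hinj).2 (nonZeroDivisors.ne_zero (s i).2)
      have : b i = (s i • b i) / algebraMap R L (s i) := by
        rw [Submonoid.smul_def, Algebra.smul_def, mul_div_cancel_left₀ _ h0]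
      rw [this]
      exact div_mem (Subfield.subset_closure (Algebra.subset_adjoin (Finset.mem_coe.2
        (Finset.mem_image_of_mem _ (Finset.mem_univ i))))) (Subfield.subset_closure (hRB _))
  obtain ⟨x, hx, y, hy, rfl⟩ := Subfield.mem_closure_iff.1 hz
  have hcl : Subring.closure (B : Set L) = B.toSubring := Subring.closure_eq B.toSubring
  rw [hcl] at hx hy
  exact ⟨⟨x, hx⟩, ⟨y, hy⟩, rfl⟩

/-- Nagata from the local and the generic conditions. -/
theorem isNagata_of_local_generic (A : Type u) [CommRing A] [IsNoetherianRing A]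
    (hloc : ∀ (M : Ideal A) [M.IsMaximal] (P : Ideal (Localization.AtPrime M)) [P.IsPrime],
      CAlg.IsN2 (Localization.AtPrime M ⧸ P))
    (hgen : ∀ (p : Ideal A) [p.IsPrime] (K' : Type u) [Field K'] [Algebra (A ⧸ p) K']
      [Algebra (FractionRing (A ⧸ p)) K'] [IsScalarTower (A ⧸ p) (FractionRing (A ⧸ p)) K']
      [FiniteDimensional (FractionRing (A ⧸ p)) K'] [IsPurelyInseparable (FractionRing (A ⧸ p)) K']
      (B' : Subalgebra (A ⧸ p) K'), Module.Finite (A ⧸ p) B' → IsFractionRing B' K' →
      ∃ f : B', f ≠ 0 ∧ IsIntegrallyClosed (Localization.Away f)) :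
    CAlg.IsNagata A := by
  refine ⟨inferInstance, fun p _ => CAlgN2.isN2_of_purelyInseparable (A ⧸ p) ?_⟩
  intro K' _ _ _ _ _ _
  obtain ⟨B, hB, hB'⟩ := exists_finite_subalgebra (A ⧸ p) K'
  obtain ⟨f, hf, hn⟩ := hgen p K' B hB hB'
  have hinj : Function.Injective (algebraMap (A ⧸ p) K') := by
    rw [IsScalarTower.algebraMap_eq (A ⧸ p) (FractionRing (A ⧸ p)) K']
    exact (algebraMap (FractionRing (A ⧸ p)) K').injective.comp
      (IsFractionRing.injective (A ⧸ p) (FractionRing (A ⧸ p)))
  obtain ⟨r, hr, hgenN⟩ := exists_absorb_generic (A ⧸ p) K' hinj B f hf hn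
  refine Module.Finite.iff_fg.2 (fg_of_local_generic r ?_ _ hgenN fun m hm => ?_)
  · intro x y hxy
    exact mul_left_cancel₀ ((map_ne_zero_iff _ hinj).2 hr) (by simpa [Algebra.smul_def] using hxy)
  · haveI := hm
    haveI hM : (m.comap (Ideal.Quotient.mk p)).IsMaximal :=
      Ideal.comap_isMaximal_of_surjective _ Ideal.Quotient.mk_surjective
    have hpM : p ≤ m.comap (Ideal.Quotient.mk p) := fun a ha => by
      rw [Ideal.mem_comap, Ideal.Quotient.eq_zero_iff_mem.2 ha]; exact m.zero_mem
    haveI hP : (p.map (algebraMap A (Localization.AtPrime (m.comap (Ideal.Quotient.mk p))))).IsPrime :=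
      IsLocalization.isPrime_of_isPrime_disjoint (m.comap (Ideal.Quotient.mk p)).primeCompl _ p inferInstance
        (Set.disjoint_left.2 fun a ha hap => ha (hpM hap))
    obtain ⟨e⟩ := localQuot_equiv A p (m.comap (Ideal.Quotient.mk p)) m rfl
    exact exists_absorb_atPrime (A ⧸ p) m (N2Poly.isN2_of_ringEquiv e (hloc _ _)) K'

/-- The converse. -/
theorem local_generic_of_isNagata (A : Type u) [CommRing A] (hA : CAlg.IsNagata A) :
    (∀ (M : Ideal A) [M.IsMaximal] (P : Ideal (Localization.AtPrime M)) [P.IsPrime],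
      CAlg.IsN2 (Localization.AtPrime M ⧸ P)) ∧
    ∀ (p : Ideal A) [p.IsPrime] (K' : Type u) [Field K'] [Algebra (A ⧸ p) K']
      [Algebra (FractionRing (A ⧸ p)) K'] [IsScalarTower (A ⧸ p) (FractionRing (A ⧸ p)) K']
      [FiniteDimensional (FractionRing (A ⧸ p)) K'] [IsPurelyInseparable (FractionRing (A ⧸ p)) K']
      (B' : Subalgebra (A ⧸ p) K'), Module.Finite (A ⧸ p) B' → IsFractionRing B' K' →
      ∃ f : B', f ≠ 0 ∧ IsIntegrallyClosed (Localization.Away f) := by
  classical
  refine ⟨fun M _ P _ => ?_, fun p _ K' _ _ _ _ _ _ B' hfin hfr => ?_⟩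
  · let q := P.comap (algebraMap A (Localization.AtPrime M))
    have hqP : q.map (algebraMap A (Localization.AtPrime M)) = P := IsLocalization.map_comap M.primeCompl _ P
    have hqM : q ≤ M := fun a ha => by
      by_contra h
      exact ‹P.IsPrime›.ne_top (P.eq_top_of_isUnit_mem ha
        (IsLocalization.map_units (M := M.primeCompl) (Localization.AtPrime M) ⟨a, h⟩))
    let m := M.map (Ideal.Quotient.mk q)
    have hm : m.comap (Ideal.Quotient.mk q) = M := by
      rw [Ideal.comap_map_of_surjective _ Ideal.Quotient.mk_surjective, ← RingHom.ker_eq_comap_bot,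
        Ideal.mk_ker, sup_eq_left.2 hqM]
    haveI : m.IsPrime := Ideal.map_isPrime_of_surjective Ideal.Quotient.mk_surjective (by rwa [Ideal.mk_ker])
    obtain ⟨e⟩ := localQuot_equiv A q M m hm
    haveI : (q.map (algebraMap A (Localization.AtPrime M))).IsPrime := hqP.symm ▸ ‹P.IsPrime›
    exact N2Poly.isN2_of_ringEquiv ((Ideal.quotEquivOfEq hqP.symm).trans e).symm
      (N2Lib.isN2_of_isLocalization m.primeCompl _ (hA.2 q))
  · haveI := hfin
    haveI := hfr
    haveI := hA.2 p K' inferInstance
    haveI : Algebra.IsIntegral (A ⧸ p) B' := Algebra.IsIntegral.of_finite _ B'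
    obtain ⟨G, hG⟩ := ‹Module.Finite (A ⧸ p) (integralClosure (A ⧸ p) K')›.fg_top
    have hden : ∀ z : K', ∃ v : B', v ≠ 0 ∧ (v : K') * z ∈ B' := fun z => by
      obtain ⟨u, v, hv, rfl⟩ := IsFractionRing.div_surjective B' z
      refine ⟨v, nonZeroDivisors.ne_zero hv, ?_⟩
      show algebraMap B' K' v * (algebraMap B' K' u / algebraMap B' K' v) ∈ B'
      rw [mul_div_cancel₀ _ ((map_ne_zero_iff _ (IsFractionRing.injective B' K')).2 (nonZeroDivisors.ne_zero hv))]
      exact u.2
    choose d hd0 hd using hden
    let f : B' := ∏ y ∈ G, d y.1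
    have hf0 : f ≠ 0 := Finset.prod_ne_zero_iff.2 fun y _ => hd0 _
    refine ⟨f, hf0, ?_⟩
    let S := Localization.Away f
    have hfu : IsUnit (algebraMap B' K' f) := by
      rw [isUnit_iff_ne_zero]
      exact (map_ne_zero_iff _ (IsFractionRing.injective B' K')).2 hf0
    let g : S →+* K' := IsLocalization.Away.lift f hfu
    letI : Algebra S K' := g.toAlgebra
    haveI : IsScalarTower B' S K' :=
      IsScalarTower.of_algebraMap_eq fun b => (IsLocalization.Away.lift_eq f hfu b).symm
    haveI : IsFractionRing S K' :=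
      IsFractionRing.isFractionRing_of_isDomain_of_isLocalization (Submonoid.powers f) S K'
    refine (isIntegrallyClosed_iff K').2 fun {x} hx => ?_
    obtain ⟨⟨s, k, hk⟩, hs⟩ :=
      IsIntegral.exists_multiple_integral_of_isLocalization (S := K') (Submonoid.powers f) (Rₘ := S) x hx
    have h1 : IsIntegral (A ⧸ p) (s • x) := isIntegral_trans (A := B') _ hs
    have hall : ∀ z : K', IsIntegral (A ⧸ p) z → (f : K') * z ∈ B' := by
      intro z hz
      let D : Submodule (A ⧸ p) K' := (Subalgebra.toSubmodule B').comap (LinearMap.mulLeft (A ⧸ p) (f : K'))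
      have h2 : (⟨z, hz⟩ : integralClosure (A ⧸ p) K') ∈ D.comap (integralClosure (A ⧸ p) K').val.toLinearMap := by
        have : Submodule.span (A ⧸ p) (G : Set (integralClosure (A ⧸ p) K')) ≤
            D.comap (integralClosure (A ⧸ p) K').val.toLinearMap := Submodule.span_le.2 fun y hy => by
          show (f : K') * (y : K') ∈ B'
          have : f = (∏ w ∈ G.erase y, d w.1) * d y.1 := (Finset.prod_erase_mul G _ hy).symm
          rw [this, Subalgebra.coe_mul, mul_assoc]
          exact mul_mem (∏ w ∈ G.erase y, d w.1).2 (hd _)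
        exact this (hG ▸ Submodule.mem_top)
      exact h2
    refine ⟨IsLocalization.mk' S (⟨(f : K') * (s • x), hall _ h1⟩ : B') (⟨f * s, k + 1, by show f ^ (k + 1) = f * s; rw [pow_succ']; exact congrArg (f * ·) hk⟩ : Submonoid.powers f), ?_⟩
    show g _ = x
    refine (IsLocalization.lift_mk'_spec (S := S) _ _ _ _).2 ?_
    show (f : K') * (s • x) = ((f * s : B') : K') * x
    rw [Subalgebra.coe_mul, mul_assoc, Algebra.smul_def]
    rfl

/-- Geometrically regular implies geometrically reduced. -/
theorem geomReduced_of_geomRegular (k S : Type u) [Field k] [CommRing S] [Algebra k S]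
    (h : CAlg.IsGeometricallyRegular k S) : Algebra.IsGeometricallyReduced k S :=
  geomReduced_of_geomNormal k S fun k' _ _ hfin p _ => by
    haveI := (h k' hfin).isRegularLocalRing_localization p
    exact ⟨CAlgReg.isDomain, RegNormal.isIntegrallyClosed _⟩

/-- An open nonempty regular locus gives a normal localisation. -/
theorem exists_away_integrallyClosed (B : Type u) [CommRing B] [IsDomain B] (h : IsOpen (EGA4.regLocus B)) :
    ∃ f : B, f ≠ 0 ∧ IsIntegrallyClosed (Localization.Away f) := by
  have h0 : (⟨⊥, Ideal.isPrime_bot⟩ : PrimeSpectrum B) ∈ EGA4.regLocus B := by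
    show IsRegularLocalRing (Localization.AtPrime (⊥ : Ideal B))
    haveI : IsFractionRing B (Localization.AtPrime (⊥ : Ideal B)) := by
      unfold IsFractionRing
      have e : (⊥ : Ideal B).primeCompl = nonZeroDivisors B := by
        ext x; rw [mem_nonZeroDivisors_iff_ne_zero]; rfl
      rw [← e]
      infer_instance
    have hF : IsField (Localization.AtPrime (⊥ : Ideal B)) :=
      @Field.toIsField _ (IsFractionRing.toField B)
    letI := hF.toField
    infer_instance
  obtain ⟨_, ⟨f, rfl⟩, hf, hfU⟩ := (PrimeSpectrum.isTopologicalBasis_basic_opens.isOpen_iff.1 h) _ h0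
  have hf0 : f ≠ 0 := fun e => hf (e ▸ Ideal.zero_mem _)
  haveI : IsDomain (Localization.Away f) :=
    IsLocalization.isDomain_localization (powers_le_nonZeroDivisors_of_noZeroDivisors hf0)
  refine ⟨f, hf0, IsIntegrallyClosed.of_localization_maximal fun P _ hP => ?_⟩
  let q := P.comap (algebraMap B (Localization.Away f))
  haveI hq : q.IsPrime := inferInstance
  have hfq : f ∉ q := fun hmem => ‹P.IsMaximal›.ne_top
    (P.eq_top_of_isUnit_mem hmem (IsLocalization.Away.algebraMap_isUnit f))
  haveI : IsRegularLocalRing (Localization.AtPrime q) := hfU (show (⟨q, hq⟩ : PrimeSpectrum B) ∈ _ from hfq)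
  haveI := IsLocalization.isLocalization_atPrime_localization_atPrime (Submonoid.powers f) P
  let e := IsLocalization.algEquiv q.primeCompl (Localization.AtPrime q) (Localization.AtPrime P)
  haveI : IsIntegrallyClosed (Localization.AtPrime q) := RegNormal.isIntegrallyClosed _
  exact IsIntegrallyClosed.of_equiv e.toRingEquiv

/-- A quasi-excellent ring is Nagata. -/
theorem isNagata_of_isQuasiExcellent (A : Type u) [CommRing A] (hA : EGA4.IsQuasiExcellent A) : CAlg.IsNagata A := by
  obtain ⟨hN, hG, hJ⟩ := hA
  haveI := hN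
  refine isNagata_of_local_generic A (fun M _ P _ => ?_) fun p _ K' _ _ _ _ _ _ B hfin hfr => ?_
  · exact isN2_quotient_of_geomReduced (Localization.AtPrime M)
      (fun q _ => geomReduced_of_geomRegular _ _ ((hG.2 M).2 q).2) P
  · haveI := hfin
    letI : Algebra A B := ((algebraMap (A ⧸ p) B).comp (Ideal.Quotient.mk p)).toAlgebra
    haveI : IsScalarTower A (A ⧸ p) B := IsScalarTower.of_algebraMap_eq fun _ => rfl
    haveI : Algebra.FiniteType A B :=
      Algebra.FiniteType.trans (inferInstance : Algebra.FiniteType A (A ⧸ p)) (inferInstance : Algebra.FiniteType (A ⧸ p) B)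
    exact exists_away_integrallyClosed B (hJ B inferInstance)

end Groth.Agent.RegLocus
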