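import Groth.Agent.RegLocus.Normal
import Groth.Agent.RegLocus.GeomNormTrans
import Groth.Agent.RegLocus.NagataCrit
import Mathlib

/-!
# Openness of the normal locus: finite normalisations, descent along normal homomorphisms
-/

universe u

open PrimeSpectrum

set_option linter.style.haveILetI false

namespace Groth.Agent.RegLocus

/-- A domain with finite normalisation is normal away from a nonzero element. -/
theorem exists_normal_away (D : Type u) [CommRing D] [IsDomain D]
    (h : Module.Finite D (integralClosure D (FractionRing D))) :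
    ∃ b : D, b ≠ 0 ∧ ∀ (q : Ideal D) [q.IsPrime], b ∉ q → IsIntegrallyClosed (Localization.AtPrime q) := by
  classical
  let K := FractionRing D
  let C := integralClosure D K
  obtain ⟨G, hG⟩ := h.fg_top
  choose a c hc hac using fun x : C => IsFractionRing.div_surjective (A := D) (x : K)
  let b := ∏ x ∈ G, c x
  have hb : b ≠ 0 := Finset.prod_ne_zero_iff.2 fun x _ => nonZeroDivisors.ne_zero (hc x)
  have hbC : ∀ x : C, ∃ d : D, algebraMap D K b * (x : K) = algebraMap D K d := by
    intro x
    refine Submodule.span_induction (p := fun (x : C) _ => ∃ d : D, algebraMap D K b * (x : K) = algebraMap D K d) (s := (G : Set C))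
      ?_ ⟨0, by simp⟩ ?_ ?_ (show x ∈ Submodule.span D (G : Set C) from hG ▸ Submodule.mem_top)
    · intro y hy
      obtain ⟨e, he⟩ := Finset.dvd_prod_of_mem c hy
      refine ⟨e * a y, ?_⟩
      have hne : algebraMap D K (c y) ≠ 0 := fun h0 => nonZeroDivisors.ne_zero (hc y)
        (IsFractionRing.injective D K (h0.trans (map_zero _).symm))
      show algebraMap D K (∏ x ∈ G, c x) * _ = _
      have hy' := hac y
      rw [div_eq_iff hne] at hy'
      rw [he, map_mul, map_mul, hy']
      ring
    · rintro y z _ _ ⟨d, hd⟩ ⟨d', hd'⟩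
      exact ⟨d + d', by rw [map_add, ← hd, ← hd', ← mul_add]; rfl⟩
    · rintro r y _ ⟨d, hd⟩
      refine ⟨r * d, ?_⟩
      rw [map_mul, ← hd, SetLike.val_smul, Algebra.smul_def]
      ring
  refine ⟨b, hb, fun q _ hbq => ?_⟩
  let L := Localization.AtPrime q
  letI : Algebra L K := (IsLocalization.lift (M := q.primeCompl) (S := L) (g := algebraMap D K) fun s =>
    isUnit_iff_ne_zero.2 fun h0 => s.2 (by
      rw [(IsFractionRing.injective D K (h0.trans (map_zero _).symm) : (s : D) = 0)]; exact q.zero_mem)).toAlgebra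
  haveI : IsScalarTower D L K := IsScalarTower.of_algebraMap_eq fun d => (IsLocalization.lift_eq _ d).symm
  haveI : IsFractionRing L K := IsFractionRing.isFractionRing_of_isDomain_of_isLocalization q.primeCompl L K
  refine (isIntegrallyClosed_iff K).2 fun {x} hx => ?_
  obtain ⟨s, hs⟩ := IsIntegral.exists_multiple_integral_of_isLocalization q.primeCompl x hx
  obtain ⟨d, hd⟩ := hbC ⟨_, hs⟩
  refine ⟨IsLocalization.mk' L d (⟨b * s, Ideal.IsPrime.mul_notMem inferInstance hbq s.2⟩ : q.primeCompl), ?_⟩
  have hne : algebraMap D K (b * s) ≠ 0 := fun h0 => Ideal.IsPrime.mul_notMem inferInstance hbq s.2 (by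
    rw [IsFractionRing.injective D K (h0.trans (map_zero _).symm)]; exact q.zero_mem)
  refine mul_left_cancel₀ hne ?_
  have e : algebraMap D L (b * s) * IsLocalization.mk' L d
      (⟨b * s, Ideal.IsPrime.mul_notMem inferInstance hbq s.2⟩ : q.primeCompl) = algebraMap D L d :=
    IsLocalization.mk'_spec' L d _
  rw [IsScalarTower.algebraMap_apply D L K (b * s), ← map_mul, e, ← IsScalarTower.algebraMap_apply,
    ← hd, ← IsScalarTower.algebraMap_apply, map_mul, mul_assoc]
  congr 1
  show (s • x) = _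
  rw [Submonoid.smul_def, Algebra.smul_def]

/-- The normal locus is open when the quotients by minimal primes have finite normalisation. -/
theorem isOpen_norLocus_of_finite_normalization (A : Type u) [CommRing A] [IsNoetherianRing A]
    (h : ∀ (P : Ideal A) [P.IsPrime], P ∈ minimalPrimes A →
      Module.Finite (A ⧸ P) (integralClosure (A ⧸ P) (FractionRing (A ⧸ P)))) :
    IsOpen (EGA4.norLocus A) := by
  classical
  refine isOpen_norLocus (interior (EGA4.norLocus A)) isOpen_interior interior_subset fun p hp hnor => ?_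
  obtain ⟨hpd, -⟩ := hnor
  haveI := hpd
  let P := p.asIdeal
  have hk : ∀ x ∈ P, ∃ s ∉ P, s * x = 0 := by
    intro x hx
    have hmem : algebraMap A (Localization.AtPrime P) x ∈ IsLocalRing.maximalIdeal (Localization.AtPrime P) :=
      (IsLocalization.AtPrime.to_map_mem_maximal_iff _ P x).2 hx
    have hdim : Ring.KrullDimLE 0 (Localization.AtPrime P) := Ring.KrullDimLE.mk₀ fun Q hQ => by
      haveI := hQ
      have hle : Q.comap (algebraMap A (Localization.AtPrime P)) ≤ P := fun y hy => by
        by_contra hyP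
        exact hQ.ne_top (Ideal.eq_top_of_isUnit_mem _ hy (IsLocalization.map_units _ (⟨y, hyP⟩ : P.primeCompl)))
      have he : Q.comap (algebraMap A (Localization.AtPrime P)) = P :=
        le_antisymm hle (hp.2 ⟨Ideal.IsPrime.comap _, bot_le⟩ hle)
      have : Q = IsLocalRing.maximalIdeal (Localization.AtPrime P) := by
        rw [← IsLocalization.map_comap P.primeCompl _ Q, Ideal.under_def, he, Localization.AtPrime.map_eq_maximalIdeal]
      exact this ▸ IsLocalRing.maximalIdeal.isMaximal _
    have h0 : algebraMap A (Localization.AtPrime P) x = 0 := by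
      have hn := Ring.KrullDimLE.isNilpotent_iff_mem_maximalIdeal.2 hmem
      exact hn.eq_zero
    obtain ⟨⟨s, hs⟩, hsx⟩ := (IsLocalization.map_eq_zero_iff P.primeCompl _ x).1 h0
    exact ⟨s, hs, hsx⟩
  obtain ⟨G, hG⟩ := (IsNoetherian.noetherian P : P.FG)
  choose! s hs hs0 using fun (x : A) (hx : x ∈ G) => hk x (hG ▸ Submodule.subset_span hx)
  let g := ∏ x ∈ G, s x
  have hgP : g ∉ P := fun hmem => by
    obtain ⟨x, hx, hxp⟩ := (Ideal.IsPrime.prod_mem_iff (hp := p.isPrime)).1 hmem
    exact hs x hx hxp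
  have hgk : ∀ x ∈ P, g * x = 0 := fun x hx => by
    rw [← hG] at hx
    refine Submodule.span_induction (fun y hy => ?_) (mul_zero _) (fun a b _ _ h1 h2 => by rw [mul_add, h1, h2, add_zero])
      (fun r a _ h1 => by rw [smul_eq_mul, mul_left_comm, h1, mul_zero]) hx
    obtain ⟨d, hd⟩ := Finset.dvd_prod_of_mem s hy
    show (∏ x ∈ G, s x) * y = 0
    rw [hd, mul_right_comm, hs0 y hy, zero_mul]
  obtain ⟨b, hb, hbn⟩ := exists_normal_away (A ⧸ P) (h P hp)
  obtain ⟨t, rfl⟩ := Ideal.Quotient.mk_surjective b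
  have htP : t ∉ P := fun hh => hb (Ideal.Quotient.eq_zero_iff_mem.2 hh)
  refine mem_interior.2 ⟨basicOpen (g * t), ?_, (basicOpen (g * t)).isOpen,
    Ideal.IsPrime.mul_notMem inferInstance hgP htP⟩
  intro Q hQ
  have hgQ : g ∉ Q.asIdeal := fun hh => hQ (Ideal.mul_mem_right _ _ hh)
  have htQ : t ∉ Q.asIdeal := fun hh => hQ (Ideal.mul_mem_left _ _ hh)
  have hPQ : P ≤ Q.asIdeal := fun x hx =>
    (Q.isPrime.mem_or_mem (show g * x ∈ Q.asIdeal by rw [hgk x hx]; exact zero_mem _)).resolve_left hgQ
  let Q' : Ideal (A ⧸ P) := Q.asIdeal.map (Ideal.Quotient.mk P)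
  haveI : Q'.IsPrime := Ideal.map_isPrime_of_surjective Ideal.Quotient.mk_surjective (by rwa [Ideal.mk_ker])
  have hQ' : ∀ x, Ideal.Quotient.mk P x ∈ Q' ↔ x ∈ Q.asIdeal := fun x => by
    rw [← Ideal.mem_comap, Ideal.comap_map_of_surjective _ Ideal.Quotient.mk_surjective, ← RingHom.ker_eq_comap_bot,
      Ideal.mk_ker, sup_eq_left.2 hPQ]
  haveI hic := hbn Q' (fun hh => htQ ((hQ' t).1 hh))
  let L' := Localization.AtPrime Q'
  haveI : IsScalarTower A (A ⧸ P) L' := inferInstance
  haveI : IsLocalization.AtPrime L' Q.asIdeal := by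
    have hmap : ∀ x, algebraMap A L' x = algebraMap (A ⧸ P) L' (Ideal.Quotient.mk P x) := fun x =>
      IsScalarTower.algebraMap_apply A (A ⧸ P) L' x
    refine (isLocalization_iff _ _).2 ⟨fun y => ?_, fun z => ?_, fun {x y} hxy => ?_⟩
    · rw [hmap]
      exact IsLocalization.map_units L' (⟨_, fun hh => y.2 ((hQ' _).1 hh)⟩ : Q'.primeCompl)
    · obtain ⟨a, s', rfl⟩ := IsLocalization.exists_mk'_eq Q'.primeCompl z
      obtain ⟨a, rfl⟩ := Ideal.Quotient.mk_surjective a
      obtain ⟨s'', hs''⟩ := Ideal.Quotient.mk_surjective (s' : A ⧸ P)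
      refine ⟨(a, ⟨s'', fun hh => s'.2 (hs'' ▸ (hQ' _).2 hh)⟩), ?_⟩
      show _ * algebraMap A L' s'' = algebraMap A L' a
      rw [hmap, hmap, hs'', IsLocalization.mk'_spec]
    · rw [hmap, hmap, IsLocalization.eq_iff_exists Q'.primeCompl] at hxy
      obtain ⟨⟨w, hw⟩, hwxy⟩ := hxy
      obtain ⟨w, rfl⟩ := Ideal.Quotient.mk_surjective w
      refine ⟨⟨g * w, Ideal.IsPrime.mul_notMem inferInstance hgQ fun hh => hw ((hQ' _).2 hh)⟩, ?_⟩
      rw [← map_mul, ← map_mul, ← sub_eq_zero, ← map_sub, Ideal.Quotient.eq_zero_iff_mem] at hwxy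
      show g * w * x = g * w * y
      linear_combination hgk _ hwxy
  let e := IsLocalization.algEquiv Q.asIdeal.primeCompl L' (Localization.AtPrime Q.asIdeal)
  exact ⟨e.symm.toMulEquiv.isDomain, IsIntegrallyClosed.of_equiv e.toRingEquiv⟩

/-- The normal locus descends along a faithfully flat normal homomorphism. -/
theorem isOpen_norLocus_descend (A B : Type u) [CommRing A] [CommRing B] [IsNoetherianRing A] [IsNoetherianRing B]
    [Algebra A B] [Module.FaithfullyFlat A B]
    (hfib : ∀ (p : Ideal A) [p.IsPrime], EGA4.IsGeomNormal p.ResidueField (p.Fiber B))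
    (hB : IsOpen (EGA4.norLocus B)) : IsOpen (EGA4.norLocus A) := by
  have hq : Topology.IsQuotientMap (comap (algebraMap A B)) :=
    PrimeSpectrum.isQuotientMap_of_generalizingMap PrimeSpectrum.comap_surjective_of_faithfullyFlat
      (Algebra.HasGoingDown.iff_generalizingMap_primeSpectrumComap.1 inferInstance)
  rw [← hq.isOpen_preimage]
  convert hB using 1
  ext Q
  show (IsDomain _ ∧ IsIntegrallyClosed _) ↔ (IsDomain _ ∧ IsIntegrallyClosed _)
  constructor
  · rintro ⟨h1, h2⟩
    haveI : IsDomain (Localization.AtPrime (Q.asIdeal.comap (algebraMap A B))) := h1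
    haveI : IsIntegrallyClosed (Localization.AtPrime (Q.asIdeal.comap (algebraMap A B))) := h2
    exact S2611.result A B (fun P _ => fibLoc_normal A B hfib P) Q.asIdeal
  · rintro ⟨h1, h2⟩
    haveI := h1
    haveI := h2
    exact S2610.result A B Q.asIdeal

end Groth.Agent.RegLocus
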