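import Groth.Agent.RegLocus.Smooth

/-!
J0 for finite type extensions from J0 for finite extensions.
-/

set_option autoImplicit false

universe u

open IntermediateField

namespace Groth.Agent.RegLocus

/-- regular on a nonempty principal open -/
def J0 (R : Type u) [CommRing R] : Prop :=
  ∃ f : R, f ≠ 0 ∧ ∀ (P : Ideal R) [P.IsPrime], f ∉ P → IsRegularLocalRing (Localization.AtPrime P)

theorem j0_of_isOpen {R : Type u} [CommRing R] {U : Set (PrimeSpectrum R)} (hU : IsOpen U) (hne : U.Nonempty)
    (h : U ⊆ EGA4.regLocus R) : J0 R := by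
  obtain ⟨x, hx⟩ := hne
  obtain ⟨_, ⟨f, rfl⟩, hxf, hfU⟩ := (PrimeSpectrum.isTopologicalBasis_basic_opens.isOpen_iff.1 hU) x hx
  exact ⟨f, fun h0 => hxf (h0 ▸ zero_mem _),
    fun P _ hP => h (hfU (show (⟨P, ‹_›⟩ : PrimeSpectrum R) ∈ _ from hP))⟩

theorem J0.isOpen {R : Type u} [CommRing R] [IsDomain R] (h : J0 R) :
    ∃ U : Set (PrimeSpectrum R), IsOpen U ∧ U.Nonempty ∧ U ⊆ EGA4.regLocus R := by
  obtain ⟨f, hf, hr⟩ := h
  exact ⟨PrimeSpectrum.basicOpen f, (PrimeSpectrum.basicOpen f).isOpen,
    ⟨⟨⊥, Ideal.isPrime_bot⟩, fun h0 => hf ((Ideal.mem_bot).1 h0)⟩, fun x hx => hr x.asIdeal hx⟩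

/-- descent along a finite extension -/
theorem j0_of_finite (S T : Type u) [CommRing S] [CommRing T] [IsDomain S] [IsDomain T] [IsNoetherianRing S]
    [Algebra S T] [FaithfulSMul S T] [Module.Finite S T] (h : J0 T) : J0 S := by
  obtain ⟨f, hf, hreg⟩ := h
  obtain ⟨d, hd, hd0⟩ := Submodule.exists_mem_ne_zero_of_ne_bot
    (Ideal.comap_ne_bot_of_integral_mem hf (Ideal.mem_span_singleton_self f) (Algebra.IsIntegral.isIntegral (R := S) f))
  have : Module.FinitePresentation S T := Module.finitePresentation_of_finite S T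
  let η : PrimeSpectrum S := ⟨⊥, Ideal.isPrime_bot⟩
  have hη : η ∈ Module.freeLocus S T := by
    rw [Module.mem_freeLocus]
    have : (⊥ : Ideal S).primeCompl = nonZeroDivisors S := by
      ext x; simp [Ideal.primeCompl, mem_nonZeroDivisors_iff_ne_zero]
    have hff : IsField (Localization.AtPrime η.asIdeal) := by
      have : IsFractionRing S (Localization.AtPrime η.asIdeal) := by
        show IsLocalization _ _
        rw [← this]
        exact Localization.isLocalization
      exact (IsFractionRing.toField S (K := Localization.AtPrime η.asIdeal)).toIsField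
    letI := hff.toField
    exact Module.Free.of_divisionRing _ _
  obtain ⟨_, ⟨_, ⟨c, rfl⟩, rfl⟩, hxc, hc⟩ :=
    PrimeSpectrum.isBasis_basic_opens.exists_subset_of_mem_open hη Module.isOpen_freeLocus
  have hproj := Module.basicOpen_subset_freeLocus_iff.1 hc
  have hc0 : c ≠ 0 := fun h0 => hxc (h0 ▸ zero_mem _)
  let B := Localization.Away (algebraMap S T c)
  have hB : Module.Flat S B := by
    have : IsLocalization (Algebra.algebraMapSubmonoid T (Submonoid.powers c)) B := by
      rw [Algebra.algebraMapSubmonoid, Submonoid.map_powers]; infer_instance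
    have : IsLocalizedModule (Submonoid.powers c) (IsScalarTower.toAlgHom S T B).toLinearMap :=
      isLocalizedModule_iff_isLocalization.2 this
    have : Module.Flat (Localization.Away c) (LocalizedModule (Submonoid.powers c) T) := inferInstance
    have : Module.Flat S (LocalizedModule (Submonoid.powers c) T) := Module.Flat.trans S (Localization.Away c) _
    exact Module.Flat.of_linearEquiv
      (IsLocalizedModule.iso (Submonoid.powers c) (IsScalarTower.toAlgHom S T B).toLinearMap).symm
  refine ⟨d * c, mul_ne_zero hd0 hc0, fun P _ hP => ?_⟩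
  have hinj : Function.Injective (algebraMap S T) := FaithfulSMul.algebraMap_injective S T
  obtain ⟨Q, _, hQp, hQ⟩ := Ideal.exists_ideal_over_prime_of_isIntegral P (⊥ : Ideal T)
    (by rw [← RingHom.ker_eq_comap_bot, (RingHom.injective_iff_ker_eq_bot _).1 hinj]; exact bot_le)
  have hcQ : algebraMap S T c ∉ Q := fun hmem => hP (P.mul_mem_left _ (hQ ▸ hmem))
  have hfQ : f ∉ Q := fun hmem => hP (P.mul_mem_right _ (hQ ▸ (Ideal.span_singleton_le_iff_mem Q).2 hmem hd))
  have hdis : Disjoint (Submonoid.powers (algebraMap S T c) : Set T) (Q : Set T) :=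
    (Ideal.disjoint_powers_iff_notMem_of_isPrime _).mpr hcQ
  let Q' := Q.map (algebraMap T B)
  have : Q'.IsPrime := IsLocalization.isPrime_of_isPrime_disjoint (Submonoid.powers (algebraMap S T c)) _ _ ‹_› hdis
  have hcomap : Q'.comap (algebraMap T B) = Q :=
    IsLocalization.under_map_of_isPrime_disjoint (Submonoid.powers (algebraMap S T c)) _ ‹_› hdis
  have hQ' : IsRegularLocalRing (Localization.AtPrime Q') := by
    have := IsLocalization.isLocalization_isLocalization_atPrime_isLocalization
      (Submonoid.powers (algebraMap S T c)) (Localization.AtPrime Q') Q'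
    simp_rw [Q', IsLocalization.under_map_of_isPrime_disjoint (Submonoid.powers (algebraMap S T c)) _ ‹Q.IsPrime› hdis] at this
    have := hreg Q hfQ
    exact IsRegularLocalRing.of_ringEquiv (R := Localization.AtPrime Q)
      (IsLocalization.algEquiv Q.primeCompl (Localization.AtPrime Q) (Localization.AtPrime Q')).toRingEquiv
  refine regular_congr ?_ (regular_descend S B Q' hQ')
  rw [IsScalarTower.algebraMap_eq S T B, ← Ideal.comap_comap, hcomap, hQ]

/-- finite subset of coefficients -/
theorem exists_finite_sub {K Ω : Type u} [Field K] [Field Ω] [Algebra K Ω] (B T X : Set Ω) (hX : X.Finite)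
    (h : ∀ x ∈ X, x ∈ adjoin K (B ∪ T)) : ∃ F : Finset Ω, ↑F ⊆ B ∧ ∀ x ∈ X, x ∈ adjoin K (↑F ∪ T) := by
  classical
  choose! G hG hxG using fun x hx => exists_finset_of_mem_adjoin (h x hx)
  refine ⟨(hX.toFinset.biUnion G).filter (· ∈ B), fun x hx => (Finset.mem_filter.1 hx).2, fun x hx => ?_⟩
  refine adjoin.mono K _ _ (fun y hy => ?_) (hxG x hx)
  rcases hG x hx hy with h1 | h1
  · exact Or.inl (Finset.mem_coe.2 (Finset.mem_filter.2 ⟨Finset.mem_biUnion.2 ⟨x, hX.mem_toFinset.2 hx, hy⟩, h1⟩))
  · exact Or.inr h1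

theorem adjoin_le_subfield {K Ω : Type u} [Field K] [Field Ω] [Algebra K Ω] (C : Subfield Ω)
    (hK : ∀ k, algebraMap K Ω k ∈ C) {T : Set Ω} (hT : T ⊆ C) {x : Ω} (hx : x ∈ adjoin K T) : x ∈ C :=
  Subfield.closure_le.2 (Set.union_subset (by rintro _ ⟨k, rfl⟩; exact hK k) hT)
    (show x ∈ Subfield.closure _ from hx)

set_option synthInstance.maxHeartbeats 200000 in
set_option maxHeartbeats 2000000 in
theorem j0_of_finiteType (A : Type u) [CommRing A] [IsDomain A] [IsNoetherianRing A]
    (hA : ∀ (A' : Type u) [CommRing A'] [IsDomain A'] [Algebra A A'] [FaithfulSMul A A'], Module.Finite A A' → J0 A')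
    (S : Type u) [CommRing S] [IsDomain S] [Algebra A S] [FaithfulSMul A S] [Algebra.FiniteType A S] : J0 S := by
  classical
  have : IsNoetherianRing S := Algebra.FiniteType.isNoetherianRing A S
  let Ω := AlgebraicClosure (FractionRing S)
  have hSΩ : Function.Injective (algebraMap S Ω) := by
    rw [IsScalarTower.algebraMap_eq S (FractionRing S) Ω]
    exact (algebraMap (FractionRing S) Ω).injective.comp (IsFractionRing.injective S (FractionRing S))
  have hAΩ : Function.Injective (algebraMap A Ω) := by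
    rw [IsScalarTower.algebraMap_eq A S Ω]
    exact hSΩ.comp (FaithfulSMul.algebraMap_injective A S)
  have : FaithfulSMul A Ω := (faithfulSMul_iff_algebraMap_injective A Ω).2 hAΩ
  let K := FractionRing A
  letI : Algebra K Ω := FractionRing.liftAlgebra A Ω
  have hAK : ∀ a : A, algebraMap K Ω (algebraMap A K a) = algebraMap A Ω a := fun a =>
    (IsScalarTower.algebraMap_apply A K Ω a).symm
  let Kb : IntermediateField K Ω := algebraicClosure K Ω
  have : IsAlgClosure K Kb := algebraicClosure.isAlgClosure K Ω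
  have : IsAlgClosed Kb := IsAlgClosure.isAlgClosed K
  obtain ⟨gS, hgS⟩ := (Algebra.FiniteType.out : (⊤ : Subalgebra A S).FG)
  let G : Finset Ω := gS.image (algebraMap S Ω)
  have hSG : ∀ x : S, algebraMap S Ω x ∈ Algebra.adjoin A (G : Set Ω) := fun x => by
    rw [show ((G : Set Ω)) = IsScalarTower.toAlgHom A S Ω '' (gS : Set S) by simp [G],
      ← AlgHom.map_adjoin, hgS]
    exact ⟨x, trivial, rfl⟩
  let M := adjoin Kb (G : Set Ω)
  have : Algebra.EssFiniteType Kb M := IntermediateField.essFiniteType_iff.2 (IntermediateField.fg_adjoin_finset G)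
  obtain ⟨s, hs, hsep⟩ := exists_isTranscendenceBasis_and_isSeparable_of_perfectField Kb M
  let v : s → Ω := fun i => ((i : M) : Ω)
  have hv : AlgebraicIndependent Kb v := hs.1.map' (f := M.val) M.val.injective
  -- separable polynomials for the generators
  have hP : ∀ g ∈ G, ∃ P : Polynomial Ω, P.Separable ∧ P.eval g = 0 ∧
      ∀ k, P.coeff k ∈ adjoin K ((Kb : Set Ω) ∪ Set.range v) := fun g hg => by
    let g' : M := ⟨g, subset_adjoin _ _ hg⟩
    let E0 := adjoin Kb (s : Set M)
    let P0 := minpoly E0 g'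
    refine ⟨P0.map (algebraMap E0 Ω), Polynomial.Separable.map (Algebra.IsSeparable.isSeparable E0 g'), ?_, fun k => ?_⟩
    · rw [IsScalarTower.algebraMap_eq E0 M Ω, ← Polynomial.map_map, Polynomial.eval_map,
        show (g : Ω) = algebraMap M Ω g' from rfl, Polynomial.eval₂_at_apply, Polynomial.eval_map, ← Polynomial.aeval_def,
        minpoly.aeval, map_zero]
    · rw [Polynomial.coeff_map]
      have h1 : algebraMap E0 Ω (P0.coeff k) ∈ adjoin Kb (Set.range v) := by
        have h2 : ((P0.coeff k : M) : Ω) ∈ (adjoin Kb (s : Set M)).map M.val := ⟨_, (P0.coeff k).2, rfl⟩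
        rw [adjoin_map] at h2
        refine adjoin.mono Kb _ _ ?_ h2
        rintro _ ⟨x, hx, rfl⟩; exact ⟨⟨x, hx⟩, rfl⟩
      refine adjoin_le_subfield (adjoin K ((Kb : Set Ω) ∪ Set.range v)).toSubfield
        (fun k => subset_adjoin K _ (Or.inl k.2)) (fun x hx => subset_adjoin K _ (Or.inr hx)) h1
  choose! P hPs hP0 hPc using hP
  obtain ⟨F1, hF1, hX1⟩ := exists_finite_sub (K := K) (Kb : Set Ω) (Set.range v)
    (⋃ g ∈ G, (P g).coeff '' (Finset.range ((P g).natDegree + 1) : Set ℕ))
    (G.finite_toSet.biUnion fun g _ => (Finset.finite_toSet _).image _)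
    (fun x hx => by
      simp only [Set.mem_iUnion] at hx
      obtain ⟨g, hg, k, -, rfl⟩ := hx
      exact hPc g hg k)
  obtain ⟨F2, hF2, hX2⟩ := exists_finite_sub (K := K) (Kb : Set Ω) (G : Set Ω) (Set.range v) (Set.finite_range v)
    (fun x ⟨i, hi⟩ => hi ▸ adjoin_le_subfield (adjoin K ((Kb : Set Ω) ∪ (G : Set Ω))).toSubfield
      (fun k => subset_adjoin K _ (Or.inl k.2)) (fun x hx => subset_adjoin K _ (Or.inr hx)) (i : M).2)
  -- scale to integral elements
  have hint : ∀ x ∈ F1 ∪ F2, ∃ a : A, a ≠ 0 ∧ IsIntegral A (a • x) := fun x hx => by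
    have hxK : IsAlgebraic K x := (mem_algebraicClosure_iff (x := x)).1
      ((Finset.mem_union.1 hx).elim (fun h => hF1 h) (fun h => hF2 h))
    exact ((IsFractionRing.isAlgebraic_iff A K Ω).2 hxK).exists_integral_multiple
  choose! a ha hai using hint
  let F' : Finset Ω := (F1 ∪ F2).image fun x => a x • x
  let A' := Algebra.adjoin A (F' : Set Ω)
  have hF'int : ∀ x ∈ (F' : Set Ω), IsIntegral A x := fun x hx => by
    obtain ⟨y, hy, rfl⟩ := Finset.mem_image.1 (Finset.mem_coe.1 hx)
    exact hai y hy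
  have : Module.Finite A A' := Algebra.finite_adjoin_of_finite_of_isIntegral F'.finite_toSet hF'int
  have : FaithfulSMul A A' := (faithfulSMul_iff_algebraMap_injective A A').2
    fun x y hxy => hAΩ (congrArg Subtype.val hxy)
  have : IsNoetherianRing A' := IsNoetherianRing.of_finite A A'
  let K' := adjoin K (F' : Set Ω)
  have hK' : ∀ x ∈ F1 ∪ F2, x ∈ K' := fun x hx => by
    have h1 : algebraMap A Ω (a x) * x ∈ K' :=
      subset_adjoin K _ (Finset.mem_coe.2 (Finset.mem_image.2 ⟨x, hx, Algebra.smul_def _ _⟩))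
    have h2 : algebraMap A Ω (a x) ∈ K' := hAK (a x) ▸ K'.algebraMap_mem _
    have h3 := K'.mul_mem (K'.inv_mem h2) h1
    rwa [inv_mul_cancel_left₀ ((map_ne_zero_iff _ hAΩ).2 (ha x hx))] at h3
  have hA'K' : ∀ x : A', (x : Ω) ∈ K' := fun x => Algebra.adjoin_le (S := K'.toSubalgebra.restrictScalars A)
    (fun y hy => subset_adjoin K _ hy) x.2
  letI algA'K' : Algebra A' K' := ((A'.val.toRingHom).codRestrict K' hA'K').toAlgebra
  have hKb : K' ≤ Kb := adjoin_le_iff.2 fun x hx => by
    obtain ⟨y, hy, rfl⟩ := Finset.mem_image.1 (Finset.mem_coe.1 hx)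
    rw [SetLike.mem_coe, Algebra.smul_def, ← hAK]
    exact Kb.mul_mem (Kb.algebraMap_mem _) ((Finset.mem_union.1 hy).elim (fun h => hF1 h) (fun h => hF2 h))
  have hK'closure : ∀ z : Ω, z ∈ K' → z ∈ Subfield.closure (A' : Set Ω) := fun z hz =>
    adjoin_le_subfield _ (fun k => by
      obtain ⟨b, c, -, rfl⟩ := IsFractionRing.div_surjective A k
      rw [map_div₀, hAK, hAK]
      exact div_mem (Subfield.subset_closure (A'.algebraMap_mem b)) (Subfield.subset_closure (A'.algebraMap_mem c)))
      (fun x hx => Subfield.subset_closure (Algebra.subset_adjoin hx)) hz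
  have : FaithfulSMul A' K' := (faithfulSMul_iff_algebraMap_injective A' K').2
    fun x y hxy => Subtype.ext (congrArg (fun w : K' => (w : Ω)) hxy)
  have hfracA : IsFractionRing A' K' := by
    refine IsFractionRing.of_field _ _ fun z => ?_
    obtain ⟨b, hb, c, hc, hbc⟩ := Subfield.mem_closure_iff.1 (hK'closure z z.2)
    have hcl : Subring.closure (A' : Set Ω) ≤ A'.toSubring := Subring.closure_le.2 subset_rfl
    exact ⟨⟨b, hcl hb⟩, ⟨c, hcl hc⟩, Subtype.ext hbc.symm⟩
  -- independence over K'
  let E := adjoin K' (Set.range v)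
  have hv' : AlgebraicIndependent K' v := by
    letI := (IntermediateField.inclusion hKb).toRingHom.toAlgebra
    have : IsScalarTower K' Kb Ω := IsScalarTower.of_algebraMap_eq fun _ => rfl
    exact hv.restrictScalars (IntermediateField.inclusion hKb).injective
  have hsmE : Algebra.FormallySmooth K' E := Algebra.FormallySmooth.adjoin_of_algebraicIndependent hv'
  let L2 := adjoin E (G : Set Ω)
  have hsep2 : Algebra.IsSeparable E L2 := (isSeparable_adjoin_iff_isSeparable _ _).2 fun g hg => by
    have hlift : P g ∈ Polynomial.lifts (algebraMap E Ω) := (Polynomial.lifts_iff_coeff_lifts _).2 fun k => by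
      by_cases hk : k ≤ (P g).natDegree
      · have h1 := hX1 _ (Set.mem_biUnion hg ⟨k, Finset.mem_coe.2 (Finset.mem_range.2 (Nat.lt_succ_of_le hk)), rfl⟩)
        exact ⟨⟨_, adjoin_le_subfield E.toSubfield (fun k => E.algebraMap_mem (algebraMap K K' k))
          (fun x hx => hx.elim (fun h => E.algebraMap_mem ⟨x, hK' x (Finset.mem_union_left _ h)⟩)
            (fun h => subset_adjoin K' _ h)) h1⟩, rfl⟩
      · rw [Polynomial.coeff_eq_zero_of_natDegree_lt (not_le.1 hk)]; exact ⟨0, map_zero _⟩
    obtain ⟨Q, hQ⟩ := (Polynomial.mem_lifts _).1 hlift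
    have hQs : Q.Separable := (Polynomial.separable_map (algebraMap E Ω)).1 (hQ ▸ hPs g hg)
    exact hQs.of_dvd (minpoly.dvd E g (by rw [Polynomial.aeval_def, ← Polynomial.eval_map, hQ, hP0 g hg]))
  have : Algebra.FormallyEtale E L2 := Algebra.FormallyEtale.of_isSeparable _ _
  -- the algebra S'
  let S' := Algebra.adjoin A ((F' : Set Ω) ∪ (G : Set Ω))
  have hA'S' : A' ≤ S' := Algebra.adjoin_mono Set.subset_union_left
  have hS'L2 : ∀ x : S', (x : Ω) ∈ L2 := fun x => Algebra.adjoin_le
    (S := { L2.toSubfield.toSubring with algebraMap_mem' := fun a => L2.algebraMap_mem (E.toSubfield.toSubring.subtype.codRestrict E.toSubfield.toSubring (fun x => x.2) ⟨algebraMap A Ω a, E.algebraMap_mem ⟨_, hA'K' (algebraMap A A' a)⟩⟩) })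
    (fun y hy => hy.elim (fun h => L2.algebraMap_mem ⟨y, E.algebraMap_mem ⟨y, subset_adjoin K _ h⟩⟩)
      (fun h => subset_adjoin E _ h)) x.2
  letI : Algebra A' S' := (Subalgebra.inclusion hA'S').toRingHom.toAlgebra
  have : IsScalarTower A A' S' := IsScalarTower.of_algebraMap_eq fun _ => rfl
  letI : Algebra A' E := ((algebraMap K' E).comp (algebraMap A' K')).toAlgebra
  have : IsScalarTower A' K' E := IsScalarTower.of_algebraMap_eq' rfl
  letI : Algebra A' L2 := ((algebraMap E L2).comp (algebraMap A' E)).toAlgebra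
  have : IsScalarTower A' E L2 := IsScalarTower.of_algebraMap_eq' rfl
  letI : Algebra S' L2 := (S'.val.toRingHom.codRestrict L2 hS'L2).toAlgebra
  have : IsScalarTower A' S' L2 := IsScalarTower.of_algebraMap_eq fun _ => rfl
  have : Algebra.FormallySmooth A' K' :=
    have : Algebra.FormallyEtale A' K' := Algebra.FormallyEtale.of_isLocalization (nonZeroDivisors A')
    inferInstance
  have : Algebra.FormallySmooth A' E := Algebra.FormallySmooth.comp A' K' E
  have : Algebra.FormallySmooth A' L2 := Algebra.FormallySmooth.comp A' E L2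
  have : Algebra.FiniteType A S' :=
    (Subalgebra.fg_iff_finiteType _).1 (Subalgebra.fg_def.2 ⟨_, F'.finite_toSet.union G.finite_toSet, rfl⟩)
  have : Algebra.FiniteType A' S' := Algebra.FiniteType.of_restrictScalars_finiteType A A' S'
  have : Algebra.FinitePresentation A' S' := Algebra.FinitePresentation.of_finiteType.1 inferInstance
  have hfracS : IsFractionRing S' L2 := by
    have : FaithfulSMul S' L2 := (faithfulSMul_iff_algebraMap_injective S' L2).2
      fun x y hxy => Subtype.ext (congrArg (fun w : L2 => (w : Ω)) hxy)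
    refine IsFractionRing.of_field _ _ fun z => ?_
    have hC : ∀ w : Ω, w ∈ K' → w ∈ Subfield.closure (S' : Set Ω) := fun w hw =>
      Subfield.closure_mono hA'S' (hK'closure w hw)
    have hG : ∀ g ∈ G, g ∈ Subfield.closure (S' : Set Ω) := fun g hg =>
      Subfield.subset_closure (Algebra.subset_adjoin (Or.inr hg))
    have hE : ∀ w : Ω, w ∈ E → w ∈ Subfield.closure (S' : Set Ω) := fun w hw => by
      refine adjoin_le_subfield _ (fun k => hC _ k.2) ?_ hw
      intro x hx
      exact adjoin_le_subfield _ (fun k => hC _ (K'.algebraMap_mem k))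
        (fun y hy => hy.elim (fun h => hC _ (hK' y (Finset.mem_union_right _ h))) (hG y)) (hX2 x hx)
    obtain ⟨b, hb, c, hc, hbc⟩ := Subfield.mem_closure_iff.1
      (adjoin_le_subfield _ (fun k => hE _ k.2) (fun g hg => hG g hg) z.2 : (z : Ω) ∈ Subfield.closure (S' : Set Ω))
    have hcl : Subring.closure (S' : Set Ω) ≤ S'.toSubring := Subring.closure_le.2 subset_rfl
    exact ⟨⟨b, hcl hb⟩, ⟨c, hcl hc⟩, Subtype.ext hbc.symm⟩
  -- generic smoothness
  let η : PrimeSpectrum S' := ⟨⊥, Ideal.isPrime_bot⟩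
  have hη : η ∈ Algebra.smoothLocus A' S' := by
    show Algebra.FormallySmooth A' (Localization.AtPrime η.asIdeal)
    have hpc : (⊥ : Ideal S').primeCompl = nonZeroDivisors S' := by
      ext x; simp [Ideal.primeCompl, mem_nonZeroDivisors_iff_ne_zero]
    have : IsLocalization η.asIdeal.primeCompl L2 := by
      show IsLocalization (⊥ : Ideal S').primeCompl L2
      rw [hpc]; exact hfracS
    exact Algebra.FormallySmooth.of_equiv
      ((IsLocalization.algEquiv η.asIdeal.primeCompl L2 (Localization.AtPrime η.asIdeal)).restrictScalars A')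
  obtain ⟨_, ⟨sf, rfl⟩, hxs, hsU⟩ :=
    PrimeSpectrum.isTopologicalBasis_basic_opens.isOpen_iff.1 Algebra.isOpen_smoothLocus η hη
  obtain ⟨h, hh, hreg⟩ := hA A' inferInstance
  have hh' : algebraMap A' S' h ≠ 0 := fun h0 => hh (Subtype.ext (congrArg Subtype.val h0 :))
  have hJ : J0 S' := by
    refine ⟨sf * algebraMap A' S' h, mul_ne_zero (fun h0 => hxs (h0 ▸ zero_mem _)) hh', fun Q _ hQ => ?_⟩
    have : Algebra.IsSmoothAt A' Q := hsU (show (⟨Q, ‹_›⟩ : PrimeSpectrum S') ∈ _ from
      fun hm => hQ (Q.mul_mem_right _ hm))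
    exact regular_of_smoothAt A' S' Q (hreg _ fun hm => hQ (Q.mul_mem_left _ hm))
  -- descent to S
  have hSS' : ∀ x : S, algebraMap S Ω x ∈ S' := fun x => Algebra.adjoin_mono Set.subset_union_right (hSG x)
  letI : Algebra S S' := ((algebraMap S Ω).codRestrict S' hSS').toAlgebra
  have : FaithfulSMul S S' := (faithfulSMul_iff_algebraMap_injective S S').2
    fun x y hxy => hSΩ (congrArg Subtype.val hxy)
  have : IsScalarTower A S S' := IsScalarTower.of_algebraMap_eq fun a =>
    Subtype.ext (IsScalarTower.algebraMap_apply A S Ω a)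
  have : Algebra.FiniteType S S' := Algebra.FiniteType.of_restrictScalars_finiteType A S S'
  have : IsScalarTower S S' Ω := IsScalarTower.of_algebraMap_eq fun _ => rfl
  have : Algebra.IsIntegral S S' := ⟨fun x => by
    rw [← isIntegral_algebraMap_iff (B := Ω) (fun a b h => Subtype.ext h)]
    exact Algebra.adjoin_induction (p := fun x _ => IsIntegral S x)
      (fun y hy => hy.elim (fun h => IsIntegral.tower_top (hF'int y h)) (fun h => by
        obtain ⟨w, -, rfl⟩ := Finset.mem_image.1 (Finset.mem_coe.1 h)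
        exact isIntegral_algebraMap))
      (fun a => (IsScalarTower.algebraMap_apply A S Ω a) ▸ isIntegral_algebraMap)
      (fun _ _ _ _ h1 h2 => h1.add h2) (fun _ _ _ _ h1 h2 => h1.mul h2) x.2⟩
  have : Module.Finite S S' := Algebra.IsIntegral.finite
  exact j0_of_finite S S' hJ

end Groth.Agent.RegLocus
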