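import Groth.Agent.RegLocus.CompleteJ0
import Groth.Agent.RegLocus.NorOpen
import Groth.Agent.WEtale.Olivier
import Groth.Agent.CplFin.Basic
import Groth.Agent.S2617
import Mathlib

/-! # Complete Noetherian local rings are J-2; openness of the regular locus -/

universe u

open PrimeSpectrum

set_option linter.style.haveILetI false

namespace Groth.Agent.RegLocus

open IsLocalRing in
/-- A domain finite over a complete Noetherian local ring is J-0. -/
theorem j0_finite_complete (A : Type u) [CommRing A] [IsNoetherianRing A] [IsLocalRing A]
    [IsAdicComplete (maximalIdeal A) A] (A' : Type u) [CommRing A'] [IsDomain A'] [Algebra A A'] [Module.Finite A A'] :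
    J0 A' := by
  haveI : HenselianLocalRing A :=
    { is_henselian := fun f hf a₀ h1 h2 => HenselianRing.is_henselian (I := maximalIdeal A) f hf a₀ h1
        (IsUnit.map (Ideal.Quotient.mk _) h2) }
  haveI : IsLocalRing A' := WEtale.Olivier.isLocalRing_of_isIntegral (A := A)
  haveI : IsAdicComplete (maximalIdeal A') A' := CplFin.isAdicComplete_local A A'
  haveI : IsNoetherianRing A' := IsNoetherianRing.of_finite A A'
  exact j0_complete_domain A'

open IsLocalRing in
/-- Complete Noetherian local rings are J-2. -/
theorem isJ2_complete (A : Type u) [CommRing A] [IsNoetherianRing A] [IsLocalRing A]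
    [IsAdicComplete (maximalIdeal A) A] : EGA4.IsJ2 A :=
  (Groth.Agent.S2617.result A).2 fun A' _ _ _ _ => (j0_finite_complete A A').isOpen

theorem isRegularRing_of_geomRegular (k R : Type u) [Field k] [CommRing R] [Algebra k R]
    (h : CAlg.IsGeometricallyRegular k R) : IsRegularRing R := by
  haveI := h k inferInstance
  exact IsRegularRing.of_ringEquiv (Algebra.TensorProduct.lid k R).toRingEquiv

theorem fibLoc_regular (A B : Type u) [CommRing A] [CommRing B] [Algebra A B]
    (h : ∀ (p : Ideal A) [p.IsPrime], CAlg.IsGeometricallyRegular p.ResidueField (p.Fiber B)) (q : Ideal B) [q.IsPrime] :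
    IsRegularLocalRing (EGA4.FibLocRing A B q) := by
  obtain ⟨P, hP, ⟨f⟩⟩ := exists_fibre_localization A B q
  haveI : IsRegularRing ((q.comap (algebraMap A B)).Fiber B) :=
    isRegularRing_of_geomRegular _ _ (h (q.comap (algebraMap A B)))
  haveI : IsRegularLocalRing (Localization.AtPrime P) := isRegularRing_iff.1 inferInstance P
  exact IsRegularLocalRing.of_ringEquiv (R := Localization.AtPrime P) f

/-- The regular locus descends along a faithfully flat homomorphism with regular fibres. -/
theorem isOpen_regLocus_descend (A B : Type u) [CommRing A] [CommRing B] [IsNoetherianRing A] [IsNoetherianRing B]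
    [Algebra A B] [Module.FaithfullyFlat A B]
    (hfib : ∀ (p : Ideal A) [p.IsPrime], CAlg.IsGeometricallyRegular p.ResidueField (p.Fiber B))
    (hB : IsOpen (EGA4.regLocus B)) : IsOpen (EGA4.regLocus A) := by
  have hq : Topology.IsQuotientMap (comap (algebraMap A B)) :=
    PrimeSpectrum.isQuotientMap_of_generalizingMap PrimeSpectrum.comap_surjective_of_faithfullyFlat
      (Algebra.HasGoingDown.iff_generalizingMap_primeSpectrumComap.1 inferInstance)
  rw [← hq.isOpen_preimage]
  convert hB using 1
  ext Q
  show IsRegularLocalRing _ ↔ IsRegularLocalRing _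
  exact ⟨fun h => regular_ascend A B Q.asIdeal h (fibLoc_regular A B hfib Q.asIdeal),
    fun h => regular_descend A B Q.asIdeal h⟩

end Groth.Agent.RegLocus
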