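import Groth.Agent.RegLocus.Fiber
import Groth.Agent.FlatLocalDepth.Comp
import Groth.Agent.RegLocus.CplDescendHom
import Groth.Agent.RegLocus.CompleteJ2
import Groth.Agent.LocCohBasic.RegularPd

/-!
Cohen–Macaulay fibres: composition and descent, in terms of the fibre local rings `B_q/pB_q`.
-/

set_option autoImplicit false
set_option linter.style.haveILetI false

universe u

open IsLocalRing TensorProduct

namespace Groth.Agent.RegLocus

theorem fibLoc_cm_iff (A B : Type u) [CommRing A] [CommRing B] [Algebra A B]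
    (hN : ∀ (p : Ideal A) [p.IsPrime], IsNoetherianRing (p.Fiber B)) :
    (∀ (p : Ideal A) [p.IsPrime], LocCoh.IsCohenMacaulayRing (p.Fiber B)) ↔
      ∀ (q : Ideal B) [q.IsPrime], LocCoh.IsCohenMacaulayLocalRing (EGA4.FibLocRing A B q) := by
  constructor
  · intro h q _
    obtain ⟨P, hP, ⟨f⟩⟩ := exists_fibre_localization A B q
    haveI := hN (q.comap (algebraMap A B))
    exact @FlatLocalDepth.isCohenMacaulayLocalRing_of_ringEquiv _ _ _ _
      ((h (q.comap (algebraMap A B))).isCohenMacaulayLocalRing_localization P) f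
  · intro h p _
    haveI := hN p
    refine ⟨fun P _ => ?_⟩
    have hp : (P.comap (Algebra.TensorProduct.includeRight : B →ₐ[A] p.Fiber B)).comap (algebraMap A B) = p :=
      congrArg PrimeSpectrum.asIdeal
        ((PrimeSpectrum.preimageOrderIsoFiber A B ⟨p, inferInstance⟩).symm ⟨P, inferInstance⟩).2
    refine @FlatLocalDepth.isCohenMacaulayLocalRing_of_ringEquiv _ _ _ _
      (h (P.comap (Algebra.TensorProduct.includeRight : B →ₐ[A] p.Fiber B))) ?_
    refine RingEquiv.symm ((Ideal.Fiber.algEquivAux₂ p P).toRingEquiv.trans (Ideal.quotEquivOfEq ?_))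
    rw [Ideal.map_map, ← IsScalarTower.algebraMap_eq, hp]

theorem closedFibre_equiv (A B : Type u) [CommRing A] [CommRing B] [Algebra A B] (p : Ideal A) [p.IsPrime]
    (q : Ideal B) [q.IsPrime] [q.LiesOver p] [Algebra (Localization.AtPrime p) (Localization.AtPrime q)]
    [IsScalarTower A (Localization.AtPrime p) (Localization.AtPrime q)] :
    Nonempty (EGA4.FibLocRing A B q ≃+* (Localization.AtPrime q ⧸ (maximalIdeal (Localization.AtPrime p)).map
      (algebraMap (Localization.AtPrime p) (Localization.AtPrime q)))) :=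
  ⟨Ideal.quotEquivOfEq (by
    rw [← Localization.AtPrime.map_eq_maximalIdeal, Ideal.map_map, ← IsScalarTower.algebraMap_eq,
      show q.comap (algebraMap A B) = p from (Ideal.over_def q p).symm])⟩

theorem fibLoc_cm_comp_iff (A B C : Type u) [CommRing A] [CommRing B] [CommRing C] [Algebra A B] [Algebra B C]
    [Algebra A C] [IsScalarTower A B C] [Module.Flat B C] [IsNoetherianRing C] (r : Ideal C) [r.IsPrime] :
    LocCoh.IsCohenMacaulayLocalRing (EGA4.FibLocRing A C r) ↔
      LocCoh.IsCohenMacaulayLocalRing (EGA4.FibLocRing A B (r.comap (algebraMap B C))) ∧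
        LocCoh.IsCohenMacaulayLocalRing (EGA4.FibLocRing B C r) := by
  let q := r.comap (algebraMap B C)
  let p := r.comap (algebraMap A C)
  haveI : q.LiesOver p := ⟨by
    show r.comap (algebraMap A C) = (r.comap (algebraMap B C)).comap (algebraMap A B)
    rw [Ideal.comap_comap, ← IsScalarTower.algebraMap_eq]⟩
  haveI : r.LiesOver q := ⟨rfl⟩
  haveI : r.LiesOver p := ⟨rfl⟩
  let a := Localization.AtPrime p
  let b := Localization.AtPrime q
  let c := Localization.AtPrime r
  letI := Localization.AtPrime.algebraOfLiesOver p q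
  letI := Localization.AtPrime.algebraOfLiesOver q r
  letI := Localization.AtPrime.algebraOfLiesOver p r
  haveI : IsScalarTower a b c := IsScalarTower.of_algebraMap_eq' (IsLocalization.ringHom_ext p.primeCompl (by
    rw [RingHom.comp_assoc, ← IsScalarTower.algebraMap_eq A a b, ← IsScalarTower.algebraMap_eq A a c,
      IsScalarTower.algebraMap_eq A B b, ← RingHom.comp_assoc, ← IsScalarTower.algebraMap_eq B b c,
      ← IsScalarTower.algebraMap_eq A B c]))
  haveI : IsLocalHom (algebraMap a b) := Localization.isLocalHom_localRingHom _ _ _ (Ideal.over_def q p)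
  haveI : IsLocalHom (algebraMap b c) := Localization.isLocalHom_localRingHom _ _ _ rfl
  haveI : Module.Flat B c := Module.Flat.trans B C c
  haveI : Module.Flat b c := (Module.flat_iff_of_isLocalization b q.primeCompl c).2 ‹_›
  haveI : IsNoetherianRing c := IsLocalization.isNoetherianRing r.primeCompl _ ‹_›
  obtain ⟨e₁⟩ := closedFibre_equiv A C p r
  obtain ⟨e₂⟩ := closedFibre_equiv A B p q
  obtain ⟨e₃⟩ := closedFibre_equiv B C q r
  have key : ∀ {R S : Type u} [CommRing R] [CommRing S] (_ : R ≃+* S),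
      LocCoh.IsCohenMacaulayLocalRing R ↔ LocCoh.IsCohenMacaulayLocalRing S := fun e =>
    ⟨fun h => @FlatLocalDepth.isCohenMacaulayLocalRing_of_ringEquiv _ _ _ _ h e,
      fun h => @FlatLocalDepth.isCohenMacaulayLocalRing_of_ringEquiv _ _ _ _ h e.symm⟩
  rw [key e₁, key e₂, key e₃]
  exact FlatLocalDepth.isCohenMacaulay_comp_iff a b c inferInstance

/-- CM formal fibres descend along flat local homomorphisms with CM fibres into rings with CM formal fibres. -/
theorem cmFormalFibres_of_hom (A A' : Type u) [CommRing A] [CommRing A'] [IsNoetherianRing A] [IsNoetherianRing A']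
    [IsLocalRing A] [IsLocalRing A'] [Algebra A A'] [IsLocalHom (algebraMap A A')] [Module.Flat A A']
    (hf : ∀ (p : Ideal A) [p.IsPrime], LocCoh.IsCohenMacaulayRing (p.Fiber A'))
    (hA' : ∀ (r : Ideal (EGA4.Cpl A')) [r.IsPrime], LocCoh.IsCohenMacaulayLocalRing (EGA4.FibLocRing A' (EGA4.Cpl A') r)) :
    EGA4.HasCMFormalFibres A := by
  obtain ⟨iA, hsc, hff⟩ := exists_cpl_faithfullyFlat A A'
  letI := iA
  haveI := hsc
  haveI := hff
  obtain ⟨hN', hff', -⟩ := cpl_facts A'
  haveI := hN'
  haveI := hff'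
  obtain ⟨hN, -, -⟩ := cpl_facts A
  haveI := hN
  have hA := (fibLoc_cm_iff A A' fun p _ => isNoetherianRing_fiber A A' p).1 hf
  refine (fibLoc_cm_iff A (EGA4.Cpl A) fun p _ => isNoetherianRing_fiber A (EGA4.Cpl A) p).2 fun q _ => ?_
  obtain ⟨⟨r, hr⟩, hrq⟩ := PrimeSpectrum.comap_surjective_of_faithfullyFlat (A := EGA4.Cpl A) (B := EGA4.Cpl A') ⟨q, inferInstance⟩
  have hq : r.comap (algebraMap (EGA4.Cpl A) (EGA4.Cpl A')) = q := congrArg PrimeSpectrum.asIdeal hrq
  subst hq
  exact ((fibLoc_cm_comp_iff A (EGA4.Cpl A) (EGA4.Cpl A') r).1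
    ((fibLoc_cm_comp_iff A A' (EGA4.Cpl A') r).2 ⟨hA _, hA' r⟩)).1

end Groth.Agent.RegLocus
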