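import Groth.Agent.RegLocus.NagataCrit
import Groth.Agent.CAlgN2.Nagata
import Mathlib

/-!
# A Nagata local ring has geometrically reduced formal fibres
-/

universe u

open TensorProduct

set_option linter.style.haveILetI false

namespace Groth.Agent.RegLocus

theorem geomReduced_of_finite_reduced (k S : Type u) [Field k] [CommRing S] [Algebra k S]
    (h : ∀ (L : Type u) [Field L] [Algebra k L], Module.Finite k L → IsReduced (L ⊗[k] S)) :
    Algebra.IsGeometricallyReduced k S := by
  rw [Algebra.isGeometricallyReduced_field_iff]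
  refine ⟨fun x hx => ?_⟩
  obtain ⟨L, hL, hr⟩ := exists_fg_subfield k S (AlgebraicClosure k) {x}
  obtain ⟨y, hy⟩ := hr x (by simp)
  haveI : Algebra.IsAlgebraic k L := Algebra.IsAlgebraic.of_injective L.val Subtype.val_injective
  haveI : Module.Finite k L := Algebra.finite_of_essFiniteType_of_isAlgebraic
  haveI := h L inferInstance
  have hinj : Function.Injective (Algebra.TensorProduct.map L.val (AlgHom.id k S)) :=
    Module.Flat.rTensor_preserves_injective_linearMap L.val.toLinearMap Subtype.val_injective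
  have hy' : IsNilpotent y := (IsNilpotent.map_iff hinj).1 (hy ▸ hx)
  rw [← hy]
  show Algebra.TensorProduct.map L.val (AlgHom.id k S) y = 0
  rw [hy'.eq_zero, map_zero]

/-- Reducedness of `B ⊗ C` for finite domains gives reducedness of `B ⊗ L` for finite extensions of `κ(p)`. -/
theorem isReduced_tensor_finite_extension (A B : Type u) [CommRing A] [CommRing B] [Algebra A B] [Module.Flat A B]
    (hC : ∀ (C : Type u) [CommRing C] [IsDomain C] [Algebra A C] [Module.Finite A C], IsReduced (B ⊗[A] C))
    (p : Ideal A) [p.IsPrime] (L : Type u) [Field L] [Algebra A L] [Algebra p.ResidueField L]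
    [IsScalarTower A p.ResidueField L] [FiniteDimensional p.ResidueField L] : IsReduced (B ⊗[A] L) := by
  classical
  let b := Module.finBasis p.ResidueField L
  letI : Algebra (A ⧸ p) L := ((algebraMap p.ResidueField L).comp (algebraMap (A ⧸ p) p.ResidueField)).toAlgebra
  haveI : IsScalarTower (A ⧸ p) p.ResidueField L := IsScalarTower.of_algebraMap_eq fun _ => rfl
  haveI : IsScalarTower A (A ⧸ p) L := IsScalarTower.of_algebraMap_eq fun a => by
    rw [IsScalarTower.algebraMap_apply A p.ResidueField L,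
      IsScalarTower.algebraMap_apply A (A ⧸ p) p.ResidueField]
    rfl
  have hint : ∀ i, ∃ s : A, s ∉ p ∧ IsIntegral A (s • b i) := fun i => by
    obtain ⟨⟨s, hs⟩, hi⟩ := IsIntegral.exists_multiple_integral_of_isLocalization (S := L)
      (nonZeroDivisors (A ⧸ p)) (Rₘ := p.ResidueField) (b i) (Algebra.IsIntegral.isIntegral _)
    obtain ⟨s, rfl⟩ := Ideal.Quotient.mk_surjective s
    refine ⟨s, fun h => nonZeroDivisors.ne_zero hs (Ideal.Quotient.eq_zero_iff_mem.2 h), ?_⟩
    rw [show s • b i = (⟨Ideal.Quotient.mk p s, hs⟩ : nonZeroDivisors (A ⧸ p)) • b i from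
      (IsScalarTower.algebraMap_smul (A ⧸ p) s (b i)).symm]
    exact isIntegral_trans (A := A ⧸ p) _ hi
  choose s hs hsi using hint
  let T : Finset L := Finset.univ.image fun i => s i • b i
  let C : Subalgebra A L := Algebra.adjoin A (T : Set L)
  haveI : Module.Finite A C := Module.Finite.iff_fg.2 (fg_adjoin_of_finite T.finite_toSet (fun x hx => by
    obtain ⟨i, -, rfl⟩ := Finset.mem_image.1 (Finset.mem_coe.1 hx)
    exact hsi i))
  haveI := hC C
  let j : B ⊗[A] C →ₐ[B] B ⊗[A] L := Algebra.TensorProduct.map (AlgHom.id B B) C.val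
  have hj : Function.Injective j :=
    Module.Flat.lTensor_preserves_injective_linearMap (M := B) C.val.toLinearMap Subtype.val_injective
  have hden : ∀ l : L, ∃ a : A, a ∉ p ∧ a • l ∈ C := by
    intro l
    have hk : ∀ k : p.ResidueField, ∃ a : A, a ∉ p ∧ ∃ c : A, a • k = algebraMap A _ c := fun k => by
      obtain ⟨x, y, hy, rfl⟩ := IsFractionRing.div_surjective (A ⧸ p) k
      obtain ⟨x, rfl⟩ := Ideal.Quotient.mk_surjective x
      obtain ⟨y, rfl⟩ := Ideal.Quotient.mk_surjective y
      refine ⟨y, fun h => nonZeroDivisors.ne_zero hy (Ideal.Quotient.eq_zero_iff_mem.2 h), x, ?_⟩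
      rw [Algebra.smul_def, IsScalarTower.algebraMap_apply A (A ⧸ p) p.ResidueField,
        IsScalarTower.algebraMap_apply A (A ⧸ p) p.ResidueField]
      exact mul_div_cancel₀ _
        ((map_ne_zero_iff _ (IsFractionRing.injective (A ⧸ p) p.ResidueField)).2 (nonZeroDivisors.ne_zero hy))
    choose d hd c hc using hk
    refine ⟨∏ i, d (b.repr l i) * s i, fun h => ?_, ?_⟩
    · obtain ⟨i, -, hi⟩ := (‹p.IsPrime›.prod_mem_iff).1 h
      exact (‹p.IsPrime›.mem_or_mem hi).elim (hd _) (hs i)
    · suffices h : (∏ i, d (b.repr l i) * s i) • (∑ i, b.repr l i • b i) ∈ C by rwa [b.sum_repr] at h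
      rw [Finset.smul_sum]
      refine sum_mem fun i _ => ?_
      rw [← Finset.prod_erase_mul _ _ (Finset.mem_univ i), mul_smul, mul_smul, smul_comm (s i) (b.repr l i),
        ← smul_assoc (d _), hc, algebraMap_smul]
      exact C.smul_mem (C.smul_mem (Algebra.subset_adjoin
        (Finset.mem_coe.2 (Finset.mem_image_of_mem _ (Finset.mem_univ i)))) _) _
  have hden' : ∀ x : B ⊗[A] L, ∃ a : A, a ∉ p ∧ a • x ∈ j.range := by
    intro x
    induction x using TensorProduct.induction_on with
    | zero => exact ⟨1, fun h => ‹p.IsPrime›.ne_top ((Ideal.eq_top_iff_one p).2 h), 0, by simp⟩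
    | tmul u l =>
      obtain ⟨a, ha, hal⟩ := hden l
      exact ⟨a, ha, u ⊗ₜ ⟨_, hal⟩, by simp [j, TensorProduct.tmul_smul]⟩
    | add y z hy hz =>
      obtain ⟨a, ha, y', hy'⟩ := hy
      obtain ⟨a', ha', z', hz'⟩ := hz
      refine ⟨a * a', fun h => (‹p.IsPrime›.mem_or_mem h).elim ha ha', a' • y' + a • z', ?_⟩
      show j _ = _
      rw [map_add, j.toLinearMap.map_smul_of_tower a' y' |> (fun h => (by exact h : j (a' • y') = a' • j y')),
        j.toLinearMap.map_smul_of_tower a z' |> (fun h => (by exact h : j (a • z') = a • j z')),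
        show j y' = a • y from hy', show j z' = a' • z from hz', smul_add, smul_smul, smul_smul, mul_comm a' a]
  refine ⟨fun x hx => ?_⟩
  obtain ⟨a, ha, y, hy⟩ := hden' x
  have hy0 : IsNilpotent y := (IsNilpotent.map_iff hj).1 (by
    rw [show j y = a • x from hy, Algebra.smul_def]; exact (Commute.all _ _).isNilpotent_mul_left hx)
  have hu : IsUnit (algebraMap A L a) := by
    rw [isUnit_iff_ne_zero, IsScalarTower.algebraMap_apply A p.ResidueField L, ne_eq,
      map_eq_zero, Ideal.algebraMap_residueField_eq_zero]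
    exact ha
  have hu' : IsUnit (algebraMap A (B ⊗[A] L) a) := by
    have := hu.map (Algebra.TensorProduct.includeRight : L →ₐ[A] B ⊗[A] L)
    rwa [AlgHom.commutes] at this
  have h0 : a • x = 0 := by rw [← (show j y = a • x from hy), hy0.eq_zero, map_zero]
  rw [Algebra.smul_def] at h0
  exact hu'.mul_right_eq_zero.1 h0

/-- If `Â ⊗ C` is reduced for finite domains `C`, the formal fibres are geometrically reduced. -/
theorem geomReducedFormalFibres_of_tensor (A : Type u) [CommRing A] [IsNoetherianRing A] [IsLocalRing A]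
    (hC : ∀ (C : Type u) [CommRing C] [IsDomain C] [Algebra A C] [Module.Finite A C],
      IsReduced (EGA4.Cpl A ⊗[A] C)) :
    EGA4.HasGeomReducedFormalFibres A := by
  intro p _
  refine geomReduced_of_finite_reduced _ _ fun L _ _ hfin => ?_
  haveI := hfin
  letI : Algebra A L := ((algebraMap p.ResidueField L).comp (algebraMap A p.ResidueField)).toAlgebra
  haveI : IsScalarTower A p.ResidueField L := IsScalarTower.of_algebraMap_eq fun _ => rfl
  obtain ⟨-, h2, -⟩ := cpl_facts A
  haveI := h2
  haveI : IsReduced (EGA4.Cpl A ⊗[A] L) := isReduced_tensor_finite_extension A (EGA4.Cpl A)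
    (fun C _ _ _ _ => hC C) p L
  let e1 : L ⊗[p.ResidueField] (p.ResidueField ⊗[A] EGA4.Cpl A) ≃ₐ[L] L ⊗[A] EGA4.Cpl A :=
    Algebra.TensorProduct.cancelBaseChange A p.ResidueField L L (EGA4.Cpl A)
  let e2 : L ⊗[p.ResidueField] (EGA4.formalFibre A p) ≃+* EGA4.Cpl A ⊗[A] L :=
    e1.toRingEquiv.trans (Algebra.TensorProduct.comm A (EGA4.Cpl A) L).toRingEquiv.symm
  exact isReduced_of_injective e2 e2.injective

/-- A Nagata local ring has geometrically reduced formal fibres. -/
theorem geomReducedFormalFibres_of_isNagata (A : Type u) [CommRing A] [IsLocalRing A] (hN : CAlg.IsNagata A) :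
    EGA4.HasGeomReducedFormalFibres A :=
  haveI := hN.1
  geomReducedFormalFibres_of_tensor A fun C _ _ _ _ => CAlgN2.isReduced_completion_tensor hN C

/-- Reduced finite algebras over a Nagata local ring stay reduced after completion. -/
theorem isReduced_cpl_tensor_of_reduced (A : Type u) [CommRing A] [IsLocalRing A] (hN : CAlg.IsNagata A)
    (C : Type u) [CommRing C] [Algebra A C] [Module.Finite A C] [IsReduced C] :
    IsReduced (EGA4.Cpl A ⊗[A] C) := by
  classical
  haveI := hN.1
  obtain ⟨-, h2, -⟩ := cpl_facts A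
  haveI := h2
  haveI : IsNoetherianRing C := IsNoetherianRing.of_finite A C
  let ι := (minimalPrimes C : Set (Ideal C))
  haveI : Finite ι := (minimalPrimes.finite_of_isNoetherianRing C).to_subtype
  haveI : Fintype ι := Fintype.ofFinite ι
  haveI hpr : ∀ P : ι, (P.1).IsPrime := fun P => P.2.1.1
  let G : ι → Type u := fun P => C ⧸ P.1
  let π : C →ₐ[A] ((P : ι) → G P) := Pi.algHom A G fun P => Ideal.Quotient.mkₐ A P.1
  have hπ : Function.Injective π := by
    rw [injective_iff_map_eq_zero]
    intro x hx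
    have hnil : x ∈ nilradical C := by
      rw [nilradical_eq_sInf]
      refine Submodule.mem_sInf.2 fun (P : Ideal C) (hP : P.IsPrime) => ?_
      obtain ⟨Q, hQ, hQP⟩ := Ideal.exists_minimalPrimes_le (bot_le : ⊥ ≤ P)
      exact hQP (Ideal.Quotient.eq_zero_iff_mem.1 (congrFun hx ⟨Q, hQ⟩))
    exact isNilpotent_iff_eq_zero.1 (mem_nilradical.1 hnil)
  haveI : ∀ P : ι, Module.Finite A (G P) := fun P =>
    Module.Finite.of_surjective (Ideal.Quotient.mkₐ A P.1).toLinearMap Ideal.Quotient.mk_surjective
  let m : EGA4.Cpl A ⊗[A] C →ₐ[A] ((P : ι) → EGA4.Cpl A ⊗[A] G P) :=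
    (Algebra.TensorProduct.piRight A A (EGA4.Cpl A) G).toAlgHom.comp
      (Algebra.TensorProduct.map (AlgHom.id A (EGA4.Cpl A)) π)
  have hm : Function.Injective m :=
    (Algebra.TensorProduct.piRight A A (EGA4.Cpl A) G).injective.comp
      (Module.Flat.lTensor_preserves_injective_linearMap π.toLinearMap hπ)
  haveI : IsReduced ((P : ι) → EGA4.Cpl A ⊗[A] G P) := ⟨fun x hx => funext fun P =>
    haveI : IsReduced (EGA4.Cpl A ⊗[A] G P) := CAlgN2.isReduced_completion_tensor hN (G P)
    (hx.map (Pi.evalRingHom _ P)).eq_zero⟩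
  exact isReduced_of_injective m hm

end Groth.Agent.RegLocus
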