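import Groth.Agent.RegLocus.DerivDenseSeries
import Groth.Agent.S2688
import Groth.Agent.GeomRegH.Basic
import Groth.Agent.PBasis.Field
import Groth.Agent.CAlgCohen.Normalization
import Groth.Agent.SymGr.PowerSeriesReg
import Mathlib

/-! # Complete Noetherian local domains are J-0 -/

universe u

open Polynomial

set_option linter.style.haveILetI false

namespace Groth.Agent.RegLocus

theorem j0_of_ringEquiv {R R' : Type u} [CommRing R] [CommRing R'] [IsDomain R] [IsDomain R'] [IsNoetherianRing R']
    (e : R ≃+* R') (h : J0 R) : J0 R' := by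
  letI : Algebra R' R := e.symm.toRingHom.toAlgebra
  haveI : FaithfulSMul R' R := (faithfulSMul_iff_algebraMap_injective R' R).2 e.symm.injective
  haveI : Module.Finite R' R := Module.Finite.of_surjective (Algebra.linearMap R' R) e.symm.surjective
  exact j0_of_finite R' R h

theorem derivDense_of_ringEquiv {R R' : Type u} [CommRing R] [CommRing R'] [IsDomain R] [IsDomain R']
    (e : R ≃+* R') (h : DerivDense R) : DerivDense R' := by
  classical
  intro Δ S
  let ε : FractionRing R ≃+* FractionRing R' := IsFractionRing.ringEquivOfRingEquiv e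
  have hε : ∀ r, ε (algebraMap R (FractionRing R) r) = algebraMap R' (FractionRing R') (e r) := fun r =>
    IsFractionRing.ringEquivOfRingEquiv_algebraMap _ r
  let Δ' : Derivation ℤ R (FractionRing R) :=
    Derivation.mk' (AddMonoidHom.mk' (fun r => ε.symm (Δ (e r))) (fun a b => by simp)).toIntLinearMap fun a b => by
      show ε.symm (Δ (e (a * b))) = a • ε.symm (Δ (e b)) + b • ε.symm (Δ (e a))
      apply ε.injective
      simp only [map_mul, Derivation.leibniz, map_add, Algebra.smul_def, RingEquiv.apply_symm_apply, hε]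
  obtain ⟨c, hc, D, hD⟩ := h Δ' (S.image e.symm)
  let D' : Derivation ℤ R' R' :=
    Derivation.mk' (AddMonoidHom.mk' (fun r => e (D (e.symm r))) (fun a b => by simp)).toIntLinearMap fun a b => by
      show e (D (e.symm (a * b))) = a • e (D (e.symm b)) + b • e (D (e.symm a))
      simp [Derivation.leibniz]
  refine ⟨e c, fun h0 => hc (e.injective (h0.trans (map_zero e).symm)), D', fun s hs => ?_⟩
  show algebraMap R' (FractionRing R') (e (D (e.symm s))) = _
  rw [← hε, ← hε, hD _ (Finset.mem_image_of_mem _ hs), map_mul]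
  show _ * ε (ε.symm (Δ (e (e.symm s)))) = _
  rw [RingEquiv.apply_symm_apply, RingEquiv.apply_symm_apply]

/-- A derivation not killing an element which is not a `p`-th power. -/
theorem exists_derivation_ne_zero {T : Type u} [CommRing T] [IsDomain T] (p : ℕ) [Fact p.Prime] [CharP T p] (b : T)
    (hb : ∀ x : FractionRing T, x ^ p ≠ algebraMap T _ b) : ∃ Δ : Derivation ℤ T (FractionRing T), Δ b ≠ 0 := by
  let K := FractionRing T
  haveI : CharP K p := charP_of_injective_algebraMap (IsFractionRing.injective T K) p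
  haveI : ExpChar K p := ExpChar.prime Fact.out
  let k : Subfield K := ⊥
  let F : IntermediateField k K := (frobenius K p).fieldRange.toIntermediateField fun c => (bot_le : k ≤ _) c.2
  obtain ⟨D, -, hD⟩ := PBasis.exists_derivation_apply_eq_one (p := p) F (fun y => ⟨y, rfl⟩)
    (t := algebraMap T K b) (fun ⟨x, hx⟩ => hb x hx)
  refine ⟨Derivation.mk' (AddMonoidHom.mk' (fun t => D (algebraMap T K t)) (fun a c => by simp)).toIntLinearMap
    (fun a c => ?_), fun h0 => ?_⟩
  · show D (algebraMap T K (a * c)) = a • D (algebraMap T K c) + c • D (algebraMap T K a)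
    rw [map_mul, Derivation.leibniz, smul_eq_mul, smul_eq_mul, Algebra.smul_def, Algebra.smul_def]
  · exact one_ne_zero ((hD.symm).trans h0)

section Tower

variable {B Ω : Type u} [CommRing B] [Field Ω] [Algebra B Ω]

/-- Finite over `B`, J-0, with enough derivations. -/
def Good (T : Subalgebra B Ω) : Prop := Module.Finite B T ∧ J0 T ∧ DerivDense T

variable [IsNoetherianRing B] (p : ℕ) [Fact p.Prime] [CharP Ω p]

/-- One `p`-th root. -/
theorem exists_good_step {T : Subalgebra B Ω} (hT : Good T) (z : Ω) (hz : z ^ p ∈ T) :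
    ∃ T', T ≤ T' ∧ Good T' ∧ z ∈ Subfield.closure (T' : Set Ω) := by
  haveI := hT.1
  haveI : IsNoetherianRing T := IsNoetherianRing.of_finite B T
  haveI : CharP T p :=
    (RingHom.charP_iff (algebraMap T Ω) (Subtype.val_injective) p).2 inferInstance
  haveI : ExpChar Ω p := ExpChar.prime Fact.out
  let b : T := ⟨z ^ p, hz⟩
  by_cases hb : ∀ x : FractionRing T, x ^ p ≠ algebraMap T _ b
  swap
  · push Not at hb
    obtain ⟨x, hx⟩ := hb
    obtain ⟨a, c, hc, rfl⟩ := IsFractionRing.div_surjective T x
    refine ⟨T, le_rfl, hT, ?_⟩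
    have hc0 : (c : Ω) ≠ 0 := fun h => nonZeroDivisors.ne_zero hc (Subtype.ext h)
    have h1 : a ^ p = b * c ^ p := by
      refine IsFractionRing.injective T (FractionRing T) ?_
      rw [map_mul, map_pow, map_pow, ← hx, div_pow, div_mul_cancel₀]
      exact pow_ne_zero _ fun h => nonZeroDivisors.ne_zero hc (IsFractionRing.injective T (FractionRing T) (h.trans (map_zero _).symm))
    have h2 : ((a : Ω) / c) ^ p = z ^ p := by
      have h3 := congrArg (Subtype.val : T → Ω) h1
      simp only [b, MulMemClass.coe_mul, SubmonoidClass.coe_pow] at h3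
      rw [div_pow, h3, mul_div_cancel_right₀ _ (pow_ne_zero _ hc0)]
    rw [← frobenius_inj Ω p h2]
    exact div_mem (Subfield.subset_closure a.2) (Subfield.subset_closure c.2)
  let F : T[X] := X ^ p - C b
  have hF : Prime F := prime_root p b hb
  haveI : IsDomain (AdjoinRoot F) := AdjoinRoot.isDomain_of_prime hF
  obtain ⟨f, hf, hreg⟩ := hT.2.1
  obtain ⟨Δ, hΔ⟩ := exists_derivation_ne_zero p b hb
  obtain ⟨h, hh, D, hD⟩ := hT.2.2 Δ {b}
  have hDb : D b ≠ 0 := fun h0 => mul_ne_zero
    (fun h' => hh (IsFractionRing.injective T (FractionRing T) (h'.trans (map_zero _).symm))) hΔ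
    ((hD b (Finset.mem_singleton_self b)).symm.trans (by rw [h0, map_zero]))
  have hJ := j0_root p b f hf hreg D hDb
  have hDD := derivDense_root p b hT.2.2
  have haev : aeval z F = 0 := by
    simp [F, b, Subalgebra.algebraMap_def]
  let φ : AdjoinRoot F →ₐ[T] Ω := AdjoinRoot.liftAlgHom F (Algebra.ofId T Ω) z haev
  haveI : Module.Finite T (AdjoinRoot F) := (AdjoinRoot.powerBasis' (monic_root p b)).finite
  have hφ : Function.Injective φ := by
    refine (RingHom.injective_iff_ker_eq_bot φ.toRingHom).2 ?_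
    haveI := RingHom.ker_isPrime φ.toRingHom
    refine Ideal.eq_bot_of_comap_eq_bot (R := T) ?_
    rw [RingHom.ker_eq_comap_bot, Ideal.comap_comap, ← RingHom.ker_eq_comap_bot]
    refine (RingHom.injective_iff_ker_eq_bot _).1 fun x y hxy => Subtype.ext ?_
    have hh : ∀ w : T, φ.toRingHom (algebraMap T (AdjoinRoot F) w) = (w : Ω) := fun w => φ.commutes w
    exact (hh x).symm.trans (hxy.trans (hh y))
  have hrange : φ.range = Algebra.adjoin T {z} := by
    refine le_antisymm ?_ (Algebra.adjoin_le (Set.singleton_subset_iff.2 ⟨AdjoinRoot.root F, ?_⟩))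
    · rintro _ ⟨w, rfl⟩
      obtain ⟨g, rfl⟩ := AdjoinRoot.mk_surjective w
      show φ (AdjoinRoot.mk F g) ∈ _
      simp only [φ, AdjoinRoot.liftAlgHom_mk]
      exact Polynomial.aeval_mem_adjoin_singleton T z
    · exact AdjoinRoot.liftAlgHom_root ..
  let e : AdjoinRoot F ≃+* ((Algebra.adjoin T {z}).restrictScalars B : Subalgebra B Ω) :=
    ((AlgEquiv.ofInjective φ hφ).trans (Subalgebra.equivOfEq _ _ hrange)).toRingEquiv
  haveI : Module.Finite T (Algebra.adjoin T {z}) :=
    Module.Finite.equiv (((AlgEquiv.ofInjective φ hφ).trans (Subalgebra.equivOfEq _ _ hrange)).toLinearEquiv)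
  haveI : Module.Finite B ((Algebra.adjoin T {z}).restrictScalars B : Subalgebra B Ω) :=
    Module.Finite.trans (R := B) T (Algebra.adjoin T {z})
  haveI : IsNoetherianRing ((Algebra.adjoin T {z}).restrictScalars B : Subalgebra B Ω) :=
    IsNoetherianRing.of_finite B _
  exact ⟨(Algebra.adjoin T {z}).restrictScalars B, fun w hw => (Algebra.adjoin T {z}).algebraMap_mem ⟨w, hw⟩,
    ⟨inferInstance, j0_of_ringEquiv e hJ, derivDense_of_ringEquiv e hDD⟩,
    Subfield.subset_closure (Algebra.subset_adjoin (Set.mem_singleton z))⟩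

/-- Roots of order `p ^ e`. -/
theorem exists_good_root (e : ℕ) : ∀ {T : Subalgebra B Ω}, Good T → ∀ z : Ω,
    z ^ p ^ e ∈ Subfield.closure (T : Set Ω) → ∃ T', T ≤ T' ∧ Good T' ∧ z ∈ Subfield.closure (T' : Set Ω) := by
  induction e with
  | zero => exact fun hT z hz => ⟨_, le_rfl, hT, by simpa using hz⟩
  | succ e ih =>
    intro T hT z hz
    obtain ⟨T₁, h1, hT₁, hz₁⟩ := ih hT (z ^ p) (by rwa [← pow_mul, mul_comm, ← pow_succ])
    obtain ⟨a, ha, c, hc, hac⟩ := Subfield.mem_closure_iff.1 hz₁
    rw [← T₁.coe_toSubring, Subring.closure_eq] at ha hc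
    by_cases hc0 : c = 0
    · refine ⟨T₁, h1, hT₁, ?_⟩
      rw [hc0, div_zero, eq_comm] at hac
      rw [eq_zero_of_pow_eq_zero hac]
      exact zero_mem _
    have hw : (c * z) ^ p ∈ T₁ := by
      have h2 : (c * z) ^ p = c ^ (p - 1) * a := by
        rw [mul_pow, ← hac, mul_div_assoc']
        conv_lhs => rw [← Nat.sub_add_cancel (Fact.out : p.Prime).one_le, pow_succ]
        field_simp
      rw [h2]
      exact mul_mem (pow_mem hc _) ha
    obtain ⟨T₂, h2, hT₂, hz₂⟩ := exists_good_step p hT₁ (c * z) hw
    refine ⟨T₂, h1.trans h2, hT₂, ?_⟩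
    have h3 := div_mem hz₂ (Subfield.subset_closure (h2 hc) : c ∈ Subfield.closure (T₂ : Set Ω))
    rwa [mul_div_cancel_left₀ _ hc0] at h3

/-- Finitely many roots. -/
theorem exists_good_roots {T : Subalgebra B Ω} (hT : Good T) (X : Finset Ω)
    (hX : ∀ z ∈ X, ∃ e : ℕ, z ^ p ^ e ∈ Subfield.closure (T : Set Ω)) :
    ∃ T', T ≤ T' ∧ Good T' ∧ ∀ z ∈ X, z ∈ Subfield.closure (T' : Set Ω) := by
  classical
  induction X using Finset.induction with
  | empty => exact ⟨T, le_rfl, hT, by simp⟩
  | @insert z X _ ih =>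
    obtain ⟨T₁, h1, hT₁, hX₁⟩ := ih fun w hw => hX w (Finset.mem_insert_of_mem hw)
    obtain ⟨e, he⟩ := hX z (Finset.mem_insert_self z X)
    obtain ⟨T₂, h2, hT₂, hz₂⟩ := exists_good_root p e hT₁ z (Subfield.closure_mono h1 he)
    refine ⟨T₂, h1.trans h2, hT₂, fun w hw => ?_⟩
    rcases Finset.mem_insert.1 hw with rfl | hw
    · exact hz₂
    · exact Subfield.closure_mono h2 (hX₁ w hw)

include p in
/-- A separable polynomial over the fraction field of a good extension. -/
theorem exists_good_separable [IsDomain B] [FaithfulSMul B Ω] [IsAlgClosed Ω] {T₀ : Subalgebra B Ω} (hT₀ : Good T₀)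
    (g : Ω) (hg : IsIntegral B g) :
    ∃ T', T₀ ≤ T' ∧ Good T' ∧ ∃ Q : Polynomial Ω, Q.Separable ∧ (∀ n, Q.coeff n ∈ Subfield.closure (T' : Set Ω)) ∧
      Q.eval g = 0 := by
  classical
  letI : Algebra (FractionRing B) Ω := FractionRing.liftAlgebra B Ω
  let K := FractionRing B
  haveI : CharP K p := (RingHom.charP_iff (algebraMap K Ω) (algebraMap K Ω).injective p).2 inferInstance
  haveI : ExpChar K p := ExpChar.prime Fact.out
  haveI : ExpChar Ω p := ExpChar.prime Fact.out
  have hgK : IsIntegral K g := hg.tower_top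
  obtain ⟨P, hP, e, hPe⟩ := (minpoly.irreducible hgK).hasSeparableContraction p
  choose z hz using fun n : ℕ => IsAlgClosed.exists_pow_nat_eq (algebraMap K Ω (P.coeff n)) (pow_pos (Fact.out : p.Prime).pos e)
  let Q : Polynomial Ω := ∑ n ∈ P.support, monomial n (z n)
  have hQc : ∀ n, Q.coeff n = if n ∈ P.support then z n else 0 := fun n => by
    simp [Q, coeff_monomial]
  have hmap : Q.map (iterateFrobenius Ω p e) = P.map (algebraMap K Ω) := by
    ext n
    rw [coeff_map, coeff_map, hQc, iterateFrobenius_def]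
    split_ifs with h
    · exact hz n
    · rw [Polynomial.notMem_support_iff.1 h, map_zero, zero_pow (pow_pos (Fact.out : p.Prime).pos e).ne']
  have hXz : ∀ w ∈ P.support.image z, ∃ e : ℕ, w ^ p ^ e ∈ Subfield.closure (T₀ : Set Ω) := by
    intro w hw
    obtain ⟨n, -, rfl⟩ := Finset.mem_image.1 hw
    refine ⟨e, ?_⟩
    rw [hz]
    obtain ⟨a, c, -, hac⟩ := IsFractionRing.div_surjective B (P.coeff n)
    rw [← hac, map_div₀, ← IsScalarTower.algebraMap_apply, ← IsScalarTower.algebraMap_apply]
    exact div_mem (Subfield.subset_closure (T₀.algebraMap_mem a)) (Subfield.subset_closure (T₀.algebraMap_mem c))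
  obtain ⟨T', h1, hT', hz'⟩ := exists_good_roots p hT₀ (P.support.image z) hXz
  refine ⟨T', h1, hT', Q, ?_, fun n => ?_, ?_⟩
  · rw [← Polynomial.separable_map (iterateFrobenius Ω p e), hmap, Polynomial.separable_map]
    exact hP
  · rw [hQc]
    split_ifs with h
    · exact hz' _ (Finset.mem_image_of_mem z h)
    · exact zero_mem _
  · refine eq_zero_of_pow_eq_zero (n := p ^ e) ?_
    have h := minpoly.aeval K g
    rw [← hPe, expand_aeval, aeval_def, ← eval_map, ← hmap, ← iterateFrobenius_def, eval_map] at h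
    rw [← iterateFrobenius_def, ← h, eval₂_at_apply]

include p in
/-- Separable polynomials for finitely many elements at once. -/
theorem exists_good_separables [IsDomain B] [FaithfulSMul B Ω] [IsAlgClosed Ω] {T₀ : Subalgebra B Ω} (hT₀ : Good T₀)
    (G : Finset Ω) (hG : ∀ g ∈ G, IsIntegral B g) :
    ∃ T', T₀ ≤ T' ∧ Good T' ∧ ∀ g ∈ G, ∃ Q : Polynomial Ω, Q.Separable ∧
      (∀ n, Q.coeff n ∈ Subfield.closure (T' : Set Ω)) ∧ Q.eval g = 0 := by
  classical
  induction G using Finset.induction with
  | empty => exact ⟨T₀, le_rfl, hT₀, by simp⟩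
  | @insert g G _ ih =>
    obtain ⟨T₁, h1, hT₁, hG₁⟩ := ih fun w hw => hG w (Finset.mem_insert_of_mem hw)
    obtain ⟨T₂, h2, hT₂, hg₂⟩ := exists_good_separable p hT₁ g (hG g (Finset.mem_insert_self g G))
    refine ⟨T₂, h1.trans h2, hT₂, fun w hw => ?_⟩
    rcases Finset.mem_insert.1 hw with rfl | hw
    · exact hg₂
    · obtain ⟨Q, hQ, hQc, hQe⟩ := hG₁ w hw
      exact ⟨Q, hQ, fun n => Subfield.closure_mono h2 (hQc n), hQe⟩

end Tower

/-- J-0 passes to an extension generated by finitely many separable integral elements. -/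
theorem j0_adjoin_separable {T Ω : Type u} [CommRing T] [IsDomain T] [IsNoetherianRing T] [Field Ω] [Algebra T Ω]
    [FaithfulSMul T Ω] (hJ : J0 T) (G : Finset Ω) (hint : ∀ g ∈ G, IsIntegral T g)
    (hsep : ∀ g ∈ G, ∃ Q : Polynomial Ω, Q.Separable ∧
      (∀ n, Q.coeff n ∈ Subfield.closure (Set.range (algebraMap T Ω))) ∧ Q.eval g = 0) :
    J0 (Algebra.adjoin T (G : Set Ω)) := by
  classical
  let A' := Algebra.adjoin T (G : Set Ω)
  haveI : Module.Finite T A' := Module.Finite.iff_fg.2 (fg_adjoin_of_finite G.finite_toSet fun g hg => hint g hg)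
  haveI : FaithfulSMul T A' := (faithfulSMul_iff_algebraMap_injective T A').2 fun x y h =>
    FaithfulSMul.algebraMap_injective T Ω (congrArg Subtype.val h)
  let K := FractionRing T
  letI : Algebra K Ω := FractionRing.liftAlgebra T Ω
  haveI : FaithfulSMul T (FractionRing A') := (faithfulSMul_iff_algebraMap_injective T (FractionRing A')).2 (by
    rw [IsScalarTower.algebraMap_eq T A' (FractionRing A')]
    exact (IsFractionRing.injective A' (FractionRing A')).comp (FaithfulSMul.algebraMap_injective T A'))
  letI : Algebra K (FractionRing A') := FractionRing.liftAlgebra T (FractionRing A')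
  have hle : Subfield.closure (Set.range (algebraMap T Ω)) ≤ (algebraMap K Ω).fieldRange := by
    refine Subfield.closure_le.2 ?_
    rintro _ ⟨t, rfl⟩
    exact ⟨algebraMap T K t, (IsScalarTower.algebraMap_apply T K Ω t).symm⟩
  have hA' : ∀ w ∈ A', IsSeparable K w := fun w hw => by
    have h : w ∈ (separableClosure K Ω).toSubalgebra.restrictScalars T := by
      refine Algebra.adjoin_le (fun g hg => ?_) hw
      obtain ⟨Q, hQ, hQc, hQe⟩ := hsep g hg
      obtain ⟨P, rfl⟩ : ∃ P : Polynomial K, P.map (algebraMap K Ω) = Q :=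
        (Polynomial.mem_lifts Q).1 ((Polynomial.lifts_iff_coeff_lifts Q).2 fun n => hle (hQc n))
      rw [Polynomial.separable_map] at hQ
      refine (mem_separableClosure_iff.2 ?_ : g ∈ separableClosure K Ω)
      rw [eval_map_algebraMap] at hQe
      exact hQ.of_dvd (minpoly.dvd K g hQe)
    exact mem_separableClosure_iff.1 h
  let ψ₀ : FractionRing A' →+* Ω := IsFractionRing.lift (g := A'.val.toRingHom) Subtype.val_injective
  have hψ₀ : ∀ a : A', ψ₀ (algebraMap A' (FractionRing A') a) = (a : Ω) := fun a => IsFractionRing.lift_algebraMap _ a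
  let ψ : FractionRing A' →ₐ[K] Ω :=
    { ψ₀ with
      commutes' := fun k => by
        obtain ⟨a, c, hc, rfl⟩ := IsFractionRing.div_surjective T k
        show ψ₀ (algebraMap K (FractionRing A') (algebraMap T K a / algebraMap T K c)) = _
        simp only [map_div₀, ← IsScalarTower.algebraMap_apply]
        rw [IsScalarTower.algebraMap_apply T A' (FractionRing A'), IsScalarTower.algebraMap_apply T A' (FractionRing A'),
          hψ₀, hψ₀]
        rfl }
  haveI : Algebra.IsSeparable K (FractionRing A') := ⟨fun y => by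
    show IsSeparable K y
    obtain ⟨a, c, hc, rfl⟩ := IsFractionRing.div_surjective A' y
    rw [IsSeparable, ← minpoly.algHom_eq ψ ψ.toRingHom.injective, ← IsSeparable, ← mem_separableClosure_iff,
      map_div₀]
    exact div_mem (mem_separableClosure_iff.2 (by rw [show ψ (algebraMap A' _ a) = (a : Ω) from hψ₀ a]; exact hA' _ a.2))
      (mem_separableClosure_iff.2 (by rw [show ψ (algebraMap A' _ c) = (c : Ω) from hψ₀ c]; exact hA' _ c.2))⟩
  haveI := GeomRegH.isGeometricallyReduced_of_isSeparable K (FractionRing A')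
  haveI : Algebra.FiniteType T A' := inferInstance
  obtain ⟨U, hU, hne, hUreg⟩ := Groth.Agent.S2688.result T A' hJ.isOpen
  exact j0_of_isOpen hU hne hUreg

/-- A finite extension of a good base in characteristic `p` is J-0. -/
theorem j0_finite_charP (B A : Type u) [CommRing B] [IsDomain B] [IsNoetherianRing B] [CommRing A] [IsDomain A]
    [Algebra B A] [FaithfulSMul B A] [Module.Finite B A] (p : ℕ) [Fact p.Prime] [CharP B p]
    (hJ : J0 B) (hD : DerivDense B) : J0 A := by
  classical
  haveI : IsNoetherianRing A := IsNoetherianRing.of_finite B A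
  let Ω := AlgebraicClosure (FractionRing A)
  have hAΩ : Function.Injective (algebraMap A Ω) := by
    rw [IsScalarTower.algebraMap_eq A (FractionRing A) Ω]
    exact (algebraMap (FractionRing A) Ω).injective.comp (IsFractionRing.injective A (FractionRing A))
  have hBΩ : Function.Injective (algebraMap B Ω) := by
    rw [IsScalarTower.algebraMap_eq B A Ω]
    exact hAΩ.comp (FaithfulSMul.algebraMap_injective B A)
  haveI : FaithfulSMul B Ω := (faithfulSMul_iff_algebraMap_injective B Ω).2 hBΩ
  haveI : CharP Ω p := charP_of_injective_algebraMap hBΩ p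
  let ι : A →ₐ[B] Ω := IsScalarTower.toAlgHom B A Ω
  let T₀ : Subalgebra B Ω := ⊥
  let e₀ : B ≃+* T₀ := RingEquiv.ofBijective (algebraMap B T₀)
    ⟨fun x y h => hBΩ (congrArg Subtype.val h), fun x => by
      obtain ⟨c, hc⟩ := Algebra.mem_bot.1 x.2
      exact ⟨c, Subtype.ext hc⟩⟩
  haveI : Module.Finite B T₀ := Module.Finite.of_surjective (Algebra.linearMap B T₀) e₀.surjective
  haveI : IsNoetherianRing T₀ := IsNoetherianRing.of_finite B T₀
  have hT₀ : Good T₀ := ⟨inferInstance, j0_of_ringEquiv e₀ hJ, derivDense_of_ringEquiv e₀ hD⟩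
  obtain ⟨G, hG⟩ := (Module.Finite.fg_top : (⊤ : Submodule B A).FG)
  have hGint : ∀ g ∈ G.image ι, IsIntegral B g := fun g hg => by
    obtain ⟨a, -, rfl⟩ := Finset.mem_image.1 hg
    exact (Algebra.IsIntegral.isIntegral a).map ι
  obtain ⟨T, -, hT, hsep⟩ := exists_good_separables p hT₀ (G.image ι) hGint
  haveI := hT.1
  haveI : IsNoetherianRing T := IsNoetherianRing.of_finite B T
  haveI : FaithfulSMul T Ω := (faithfulSMul_iff_algebraMap_injective T Ω).2 Subtype.val_injective
  have hrange : Set.range (algebraMap T Ω) = (T : Set Ω) := Subtype.range_coe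
  have h := j0_adjoin_separable hT.2.1 (G.image ι) (fun g hg => (hGint g hg).tower_top)
    (fun g hg => by rw [hrange]; exact hsep g hg)
  let A' := Algebra.adjoin T ((G.image ι : Finset Ω) : Set Ω)
  have hmem : ∀ a : A, ι a ∈ A'.restrictScalars B := fun a => by
    have ha : a ∈ Submodule.span B (G : Set A) := by rw [hG]; trivial
    have h1 : Submodule.span B (G : Set A) ≤ (A'.restrictScalars B).toSubmodule.comap ι.toLinearMap :=
      Submodule.span_le.2 fun g hg => Algebra.subset_adjoin (Finset.mem_coe.2 (Finset.mem_image_of_mem ι hg))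
    exact h1 ha
  letI : Algebra A A' := ((ι.codRestrict (A'.restrictScalars B) hmem).toRingHom).toAlgebra
  haveI : FaithfulSMul A A' := (faithfulSMul_iff_algebraMap_injective A A').2 fun x y hxy =>
    hAΩ (congrArg Subtype.val hxy)
  haveI : IsScalarTower B A A' := IsScalarTower.of_algebraMap_eq fun b => Subtype.ext (ι.commutes b).symm
  haveI : Module.Finite T A' :=
    Module.Finite.iff_fg.2 (fg_adjoin_of_finite (Finset.finite_toSet _) fun g hg => (hGint g hg).tower_top)
  haveI : Module.Finite B A' := Module.Finite.trans (R := B) T A'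
  haveI : Module.Finite A A' := Module.Finite.of_restrictScalars_finite B A A'
  exact j0_of_finite A A' h

/-- A finite extension of a J-0 ring of characteristic zero is J-0. -/
theorem j0_finite_charZero (B A : Type u) [CommRing B] [IsDomain B] [IsNoetherianRing B] [CommRing A] [IsDomain A]
    [Algebra B A] [FaithfulSMul B A] [Module.Finite B A] [CharZero B] (hJ : J0 B) : J0 A := by
  let K := FractionRing B
  haveI : FaithfulSMul B (FractionRing A) := (faithfulSMul_iff_algebraMap_injective B (FractionRing A)).2 (by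
    rw [IsScalarTower.algebraMap_eq B A (FractionRing A)]
    exact (IsFractionRing.injective A (FractionRing A)).comp (FaithfulSMul.algebraMap_injective B A))
  letI : Algebra K (FractionRing A) := FractionRing.liftAlgebra B (FractionRing A)
  haveI : CharZero K := charZero_of_injective_algebraMap (IsFractionRing.injective B K)
  haveI : Module.Finite K (FractionRing A) := inferInstance
  haveI : Algebra.IsSeparable K (FractionRing A) := inferInstance
  haveI := GeomRegH.isGeometricallyReduced_of_isSeparable K (FractionRing A)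
  obtain ⟨U, hU, hne, hUreg⟩ := Groth.Agent.S2688.result B A hJ.isOpen
  exact j0_of_isOpen hU hne hUreg

open IsLocalRing in
/-- Complete Noetherian local domains are J-0. -/
theorem j0_complete_domain (A : Type u) [CommRing A] [IsDomain A] [IsNoetherianRing A] [IsLocalRing A]
    [IsAdicComplete (maximalIdeal A) A] : J0 A := by
  obtain ⟨Λ, _, n, f, hΛ, hf, hfin, -⟩ := CAlgCohen.exists_normalization (R := A)
  let B := MvPowerSeries (Fin n) Λ
  haveI : IsRegularRing Λ := by
    rcases hΛ with h | ⟨_, _, -, -⟩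
    · letI := h.toField
      infer_instance
    · infer_instance
  haveI : IsRegularRing B := SymGr.isRegularRing_mvPowerSeries Λ n
  haveI : IsNoetherianRing B := inferInstance
  haveI : IsDomain B := hf.isDomain f
  letI : Algebra B A := f.toAlgebra
  haveI : FaithfulSMul B A := (faithfulSMul_iff_algebraMap_injective B A).2 hf
  haveI : Module.Finite B A := hfin
  have hJ : J0 B := ⟨1, one_ne_zero, fun P _ _ => isRegularRing_iff.1 inferInstance P⟩
  obtain ⟨p, hp⟩ := CharP.exists B
  by_cases hp0 : p = 0
  · subst hp0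
    haveI := CharP.charP_to_charZero B
    exact j0_finite_charZero B A hJ
  · haveI : Fact p.Prime := ⟨(CharP.char_is_prime_or_zero B p).resolve_right hp0⟩
    rcases hΛ with h | ⟨hd, hdvr, -, q, hq, hmax⟩
    · letI := h.toField
      haveI : CharP Λ p := ((MvPowerSeries.C : Λ →+* B).charP_iff (RingHom.injective _) p).2 hp
      exact j0_finite_charP B A p hJ (derivDense_mvPowerSeries Λ p n)
    · exfalso
      have h0 : ((p : ℕ) : Λ) = 0 :=
        (Function.Injective.eq_iff (f := (MvPowerSeries.C : Λ →+* B)) (fun x y h => by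
          simpa using congrArg MvPowerSeries.constantCoeff h)).1 (by simp)
      have hqp : (q : Λ) = 0 := by
        have hpm : ((p : ℕ) : Λ) ∈ maximalIdeal Λ := h0 ▸ zero_mem _
        by_cases hqp : q = p
        · rw [hqp, h0]
        · exfalso
          refine (maximalIdeal.isMaximal Λ).ne_top ((Ideal.eq_top_iff_one _).2 ?_)
          obtain ⟨a, b, hab⟩ := Nat.isCoprime_iff_coprime.2 ((Nat.coprime_primes hq (Fact.out : p.Prime)).2 hqp)
          have hq' : (q : Λ) ∈ maximalIdeal Λ := hmax ▸ Ideal.mem_span_singleton_self _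
          have h1 := congrArg (Int.cast : ℤ → Λ) hab
          push_cast at h1
          exact h1 ▸ add_mem (Ideal.mul_mem_left _ _ hq') (Ideal.mul_mem_left _ _ hpm)
      exact IsDiscreteValuationRing.not_a_field Λ (by rw [hmax, hqp, Ideal.span_singleton_zero])

end Groth.Agent.RegLocus
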