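import Groth.Agent.RegLocus.J0
import Groth.Agent.RegLocus.CompleteG
import Groth.Agent.SymGr.NagataJac
import Mathlib

/-!
# Domains with enough derivations: adjoining a `p`-th root preserves J-0
-/

universe u

open Polynomial

set_option linter.style.haveILetI false

namespace Groth.Agent.RegLocus

/-- Every derivation of `T` into its fraction field agrees on a given finite set with a multiple of a
derivation of `T`. -/
def DerivDense (T : Type u) [CommRing T] [IsDomain T] : Prop :=
  ∀ (Δ : Derivation ℤ T (FractionRing T)) (S : Finset T), ∃ h : T, h ≠ 0 ∧ ∃ D : Derivation ℤ T T,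
    ∀ s ∈ S, algebraMap T (FractionRing T) (D s) = algebraMap T (FractionRing T) h * Δ s

/-- A derivation killing a generator descends to the quotient. -/
theorem exists_derivation_quotient {R : Type u} [CommRing R] (f : R) (E : Derivation ℤ R R) (hE : E f = 0) :
    ∃ D : Derivation ℤ (R ⧸ Ideal.span {f}) (R ⧸ Ideal.span {f}),
      ∀ x, D (Ideal.Quotient.mk _ x) = Ideal.Quotient.mk _ (E x) := by
  let I := Ideal.span {f}
  have hI : ∀ x ∈ I, E x ∈ I := fun x hx => by
    obtain ⟨c, rfl⟩ := Ideal.mem_span_singleton'.1 hx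
    rw [Derivation.leibniz, hE, smul_zero, zero_add, smul_eq_mul]
    exact Ideal.mul_mem_right _ _ (Ideal.mem_span_singleton_self f)
  let g : R →+ R ⧸ I := (Ideal.Quotient.mk I).toAddMonoidHom.comp E.toLinearMap.toAddMonoidHom
  have hg : I.toAddSubgroup ≤ g.ker := fun x hx => Ideal.Quotient.eq_zero_iff_mem.2 (hI x hx)
  let l : R ⧸ I →+ R ⧸ I := QuotientAddGroup.lift _ g hg
  have hl : ∀ x, l (Ideal.Quotient.mk I x) = Ideal.Quotient.mk I (E x) := fun x => rfl
  refine ⟨Derivation.mk' l.toIntLinearMap fun a b => ?_, hl⟩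
  obtain ⟨a, rfl⟩ := Ideal.Quotient.mk_surjective a
  obtain ⟨b, rfl⟩ := Ideal.Quotient.mk_surjective b
  show l (Ideal.Quotient.mk I a * Ideal.Quotient.mk I b) =
    Ideal.Quotient.mk I a • l (Ideal.Quotient.mk I b) + Ideal.Quotient.mk I b • l (Ideal.Quotient.mk I a)
  rw [← map_mul, hl, hl, hl, Derivation.leibniz, map_add]
  rfl

/-- Coefficientwise derivation of polynomials. -/
theorem exists_derivation_polynomial {T : Type u} [CommRing T] (D : Derivation ℤ T T) :
    ∃ E : Derivation ℤ T[X] T[X], (∀ t, E (C t) = C (D t)) ∧ E X = 0 := by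
  let l : T[X] →+ T[X] :=
    { toFun := fun g => g.sum fun n a => monomial n (D a)
      map_zero' := Polynomial.sum_zero_index _
      map_add' := fun g g' => Polynomial.sum_add_index g g' _ (fun n => by simp) (fun n a a' => by simp) }
  have hl : ∀ n a, l (monomial n a) = monomial n (D a) := fun n a =>
    (Polynomial.sum_monomial_index a (fun n a => monomial n (D a)) ((congrArg (monomial n) (map_zero D)).trans (map_zero _)) :)
  refine ⟨Derivation.mk' l.toIntLinearMap fun g g' => ?_, fun t => ?_, ?_⟩
  · show l (g * g') = g * l g' + g' * l g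
    induction g using Polynomial.induction_on' with
    | add g₁ g₂ h₁ h₂ => simp only [add_mul, map_add, mul_add, h₁, h₂]; ring
    | monomial n a =>
      induction g' using Polynomial.induction_on' with
      | add g₁ g₂ h₁ h₂ => simp only [mul_add, map_add, add_mul, h₁, h₂]; ring
      | monomial m c =>
        rw [monomial_mul_monomial, hl, hl, hl, monomial_mul_monomial, monomial_mul_monomial, Derivation.leibniz,
          map_add, smul_eq_mul, smul_eq_mul, add_comm m n]
  · show l (monomial 0 t) = monomial 0 (D t)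
    exact hl 0 t
  · show l (X : T[X]) = 0
    rw [← monomial_one_one_eq_X, hl, Derivation.map_one_eq_zero, map_zero]

theorem regular_span_singleton {A : Type u} [CommRing A] (P : Ideal A) [P.IsPrime] (F : A) (E : Derivation ℤ A A)
    (hreg : IsRegularLocalRing (Localization.AtPrime P)) (hF : F ∈ P) (hd : E F ∉ P) :
    IsRegularLocalRing (Localization.AtPrime P ⧸ (Ideal.span {F}).map (algebraMap A (Localization.AtPrime P))) := by
  haveI := hreg
  have h : (Ideal.span {F}).map (algebraMap A (Localization.AtPrime P)) =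
      Ideal.span (Set.range fun _ : Fin 1 => algebraMap A (Localization.AtPrime P) F) := by
    rw [Ideal.map_span, Set.image_singleton, Set.range_const]
  rw [h]
  let k : Subring A := ⊥
  let E' : Derivation k A A := Derivation.mk'
    { toFun := E
      map_add' := map_add E
      map_smul' := fun r x => by
        obtain ⟨n, hn⟩ := Subring.mem_bot.1 r.2
        show E ((r : A) * x) = (r : A) * E x
        rw [← hn, Derivation.leibniz, Derivation.map_intCast, smul_zero, add_zero, smul_eq_mul] }
    fun a b => Derivation.leibniz E a b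
  refine SymGr.isRegularLocalRing_quotient_of_det (k := k) (A := A) (m := 1) P (fun _ => E') (fun _ => F)
    (fun _ => hF) ?_
  rw [Matrix.det_fin_one, Matrix.of_apply]
  exact hd

/-- A quotient by one element whose derivative is invertible at the point is regular there. -/
theorem regular_quotient_of_derivation {R : Type u} [CommRing R] (F : R) (E : Derivation ℤ R R)
    (Q : Ideal (R ⧸ Ideal.span {F})) [Q.IsPrime]
    (hreg : IsRegularLocalRing (Localization.AtPrime (Q.comap (Ideal.Quotient.mk (Ideal.span {F})))))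
    (hd : E F ∉ Q.comap (Ideal.Quotient.mk (Ideal.span {F}))) :
    IsRegularLocalRing (Localization.AtPrime Q) := by
  let Q' := Q.comap (Ideal.Quotient.mk (Ideal.span {F}))
  haveI : Q'.IsPrime := Ideal.IsPrime.comap _
  have hFQ : Ideal.span {F} ≤ Q' := fun x hx => by
    show Ideal.Quotient.mk _ x ∈ Q
    rw [Ideal.Quotient.eq_zero_iff_mem.2 hx]
    exact Q.zero_mem
  haveI : IsRegularLocalRing (Localization.AtPrime Q' ⧸ (Ideal.span {F}).map (algebraMap R (Localization.AtPrime Q'))) :=
    regular_span_singleton Q' F E hreg (hFQ (Ideal.mem_span_singleton_self F)) hd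
  haveI : (Q'.map (Ideal.Quotient.mk (Ideal.span {F}))).IsPrime :=
    Ideal.map_isPrime_of_surjective Ideal.Quotient.mk_surjective (by rwa [Ideal.mk_ker])
  obtain ⟨e⟩ := SymGr.nonempty_localization_quotient_equiv (Ideal.span {F}) Q' hFQ
  have hQQ : Q'.map (Ideal.Quotient.mk (Ideal.span {F})) = Q :=
    Ideal.map_comap_of_surjective _ Ideal.Quotient.mk_surjective Q
  exact regular_congr hQQ (IsRegularLocalRing.of_ringEquiv e)

/-- `T[X]` is regular at primes not containing `f`, if `T` is. -/
theorem regular_polynomial_away {T : Type u} [CommRing T] [IsNoetherianRing T] (f : T)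
    (hreg : ∀ (P : Ideal T) [P.IsPrime], f ∉ P → IsRegularLocalRing (Localization.AtPrime P))
    (Q' : Ideal T[X]) [Q'.IsPrime] (hfQ' : C f ∉ Q') : IsRegularLocalRing (Localization.AtPrime Q') := by
  let Tf := Localization.Away f
  haveI : IsRegularRing Tf := by
    haveI : IsNoetherianRing Tf := IsLocalization.isNoetherianRing (Submonoid.powers f) _ inferInstance
    refine isRegularRing_iff.2 fun P _ => ?_
    haveI := IsLocalization.isLocalization_isLocalization_atPrime_isLocalization (Submonoid.powers f)
      (Localization.AtPrime P) P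
    haveI := hreg (P.comap (algebraMap T Tf)) fun h =>
      (‹P.IsPrime›).ne_top (P.eq_top_of_isUnit_mem h (IsLocalization.map_units Tf (⟨f, 1, pow_one f⟩ : Submonoid.powers f)))
    exact IsRegularLocalRing.of_ringEquiv (R := Localization.AtPrime (P.comap (algebraMap T Tf)))
      (IsLocalization.algEquiv (P.comap (algebraMap T Tf)).primeCompl _ _).toRingEquiv
  letI : Algebra T[X] Tf[X] := (Polynomial.mapRingHom (algebraMap T Tf)).toAlgebra
  haveI : IsLocalization ((Submonoid.powers f).map C) Tf[X] := Polynomial.isLocalization (Submonoid.powers f) Tf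
  refine geomRegular_of_localizations.regular_at_of_localization T[X] Tf[X] ((Submonoid.powers f).map C)
    inferInstance Q' (Set.disjoint_left.2 ?_)
  rintro _ ⟨_, ⟨m, rfl⟩, rfl⟩ hm
  rw [SetLike.mem_coe, map_pow] at hm
  exact hfQ' (‹Q'.IsPrime›.mem_of_pow_mem m hm)

section Root

variable {T : Type u} [CommRing T] [IsDomain T] (p : ℕ) [Fact p.Prime] (b : T)

theorem natDegree_root : (X ^ p - C b : T[X]).natDegree = p := natDegree_X_pow_sub_C

theorem monic_root : (X ^ p - C b : T[X]).Monic := monic_X_pow_sub_C b (Fact.out : p.Prime).ne_zero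

/-- `X^p - b` is prime when `b` is not a `p`-th power in the fraction field. -/
theorem prime_root (hb : ∀ x : FractionRing T, x ^ p ≠ algebraMap T _ b) : Prime (X ^ p - C b : T[X]) := by
  let L := FractionRing T
  let ι := algebraMap T L
  have hirr : Irreducible ((X ^ p - C b : T[X]).map ι) := by
    rw [Polynomial.map_sub, Polynomial.map_pow, map_X, map_C]
    exact X_pow_sub_C_irreducible_of_prime Fact.out hb
  refine ⟨(monic_root p b).ne_zero, fun h => hirr.not_isUnit (h.map (mapRingHom ι)), fun g g' hgg' => ?_⟩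
  have h := map_dvd (mapRingHom ι) hgg'
  rw [map_mul] at h
  exact (hirr.prime.dvd_or_dvd h).imp
    (fun h => (map_dvd_map ι (IsFractionRing.injective T L) (monic_root p b)).1 h)
    (fun h => (map_dvd_map ι (IsFractionRing.injective T L) (monic_root p b)).1 h)

/-- J-0 passes to `T[b^{1/p}]` when a derivation does not kill `b`. -/
theorem j0_root [CharP T p] [IsNoetherianRing T] (f : T) (hf : f ≠ 0)
    (hreg : ∀ (P : Ideal T) [P.IsPrime], f ∉ P → IsRegularLocalRing (Localization.AtPrime P))
    (D : Derivation ℤ T T) (hD : D b ≠ 0) : J0 (AdjoinRoot (X ^ p - C b : T[X])) := by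
  let F : T[X] := X ^ p - C b
  have hpb : F.natDegree = p := natDegree_root p b
  have hp2 : 1 < p := (Fact.out : p.Prime).one_lt
  obtain ⟨E, hEC, hEX⟩ := exists_derivation_polynomial D
  have hEF : E F = - C (D b) := by
    simp only [F, map_sub, hEC, Derivation.leibniz_pow, hEX, smul_zero, zero_sub]
  haveI : IsNoetherianRing T[X] := inferInstance
  refine ⟨AdjoinRoot.of F (f * D b), fun h0 => mul_ne_zero hf hD ?_, @fun Q hQ hfQ => ?_⟩
  · refine AdjoinRoot.of.injective_of_degree_ne_zero (f := F) ?_ (h0.trans (map_zero _).symm)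
    rw [degree_eq_natDegree (monic_root p b).ne_zero, hpb]
    exact_mod_cast (Nat.lt_trans Nat.zero_lt_one hp2).ne'
  refine @regular_quotient_of_derivation _ _ F E Q hQ (@regular_polynomial_away _ _ _ f hreg _ (Ideal.IsPrime.comap _ (hK := hQ)) fun h => hfQ ?_) ?_
  · rw [map_mul]
    exact Q.mul_mem_right _ h
  · intro h
    have h' : AdjoinRoot.of F (D b) ∈ Q := by
      have h2 : (Ideal.Quotient.mk (Ideal.span {F}) (E F)) = - AdjoinRoot.of F (D b) :=
        (congrArg (Ideal.Quotient.mk (Ideal.span {F})) hEF).trans (map_neg _ _)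
      exact (neg_mem_iff (H := Q)).1 (h2 ▸ (Ideal.mem_comap.1 h))
    exact hfQ (by rw [map_mul]; exact Q.mul_mem_left _ h')

end Root

/-- Density of derivations passes to free extensions `T[z]`, `z^p = b`, with the evident derivations. -/
theorem derivDense_of_basis (T T' : Type u) [CommRing T] [IsDomain T] [CommRing T'] [IsDomain T'] [Algebra T T']
    [FaithfulSMul T T'] [Module.Finite T T'] (p : ℕ) (hpT' : (p : T') = 0) (b : T) (z : T')
    (hz : z ^ p = algebraMap T T' b) {n : ℕ} (e : Module.Basis (Fin n) T T') (he : ∀ j, e j = z ^ (j : ℕ))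
    (hext : ∀ D : Derivation ℤ T T, D b = 0 →
      ∃ D' : Derivation ℤ T' T', D' z = 0 ∧ ∀ t, D' (algebraMap T T' t) = algebraMap T T' (D t))
    (hP : ∃ P : Derivation ℤ T' T', P z = 1 ∧ ∀ t, P (algebraMap T T' t) = 0)
    (hT : DerivDense T) : DerivDense T' := by
  classical
  let L := FractionRing T
  let L' := FractionRing T'
  haveI : FaithfulSMul T L' := (faithfulSMul_iff_algebraMap_injective T L').2 (by
    rw [IsScalarTower.algebraMap_eq T T' L']
    exact (IsFractionRing.injective T' L').comp (FaithfulSMul.algebraMap_injective T T'))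
  letI : Algebra L L' := FractionRing.liftAlgebra T L'
  haveI : IsScalarTower T L L' := inferInstance
  let ι' := algebraMap T' L'
  have hli : LinearIndependent L fun j : Fin n => ι' (e j) := by
    refine (LinearIndependent.iff_fractionRing (R := T) (K := L)).1 ?_
    exact e.linearIndependent.map' ((IsScalarTower.toAlgHom T T' L').toLinearMap)
      (LinearMap.ker_eq_bot.2 (IsFractionRing.injective T' L'))
  have hspan : ⊤ ≤ Submodule.span L (Set.range fun j : Fin n => ι' (e j)) := by
    intro x _
    obtain ⟨a, u, hu, rfl⟩ := IsFractionRing.div_surjective T' x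
    obtain ⟨c, hc, hc0⟩ := Submodule.exists_mem_ne_zero_of_ne_bot
      (Ideal.comap_ne_bot_of_integral_mem (nonZeroDivisors.ne_zero hu) (Ideal.mem_span_singleton_self u)
        (Algebra.IsIntegral.isIntegral (R := T) u))
    obtain ⟨v, hv⟩ := Ideal.mem_span_singleton'.1 (Ideal.mem_comap.1 hc)
    have hc' : algebraMap T L c ≠ 0 := fun h => hc0 (IsFractionRing.injective T L (h.trans (map_zero _).symm))
    have hu' : ι' u ≠ 0 := fun h => nonZeroDivisors.ne_zero hu (IsFractionRing.injective T' L' (h.trans (map_zero _).symm))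
    have eau : algebraMap T' L' a / algebraMap T' L' u = (algebraMap T L c)⁻¹ • ι' (a * v) := by
      rw [eq_comm, inv_smul_eq_iff₀ hc', Algebra.smul_def, ← IsScalarTower.algebraMap_apply T L L',
        IsScalarTower.algebraMap_apply T T' L', ← hv, map_mul, map_mul, mul_div_assoc', eq_div_iff hu']
      ring
    rw [eau, ← e.sum_repr (a * v), map_sum]
    refine Submodule.smul_mem _ _ (Submodule.sum_mem _ fun j _ => ?_)
    rw [Algebra.smul_def, map_mul, ← IsScalarTower.algebraMap_apply, IsScalarTower.algebraMap_apply T L L',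
      ← Algebra.smul_def]
    exact Submodule.smul_mem _ _ (Submodule.subset_span ⟨j, rfl⟩)
  let B := Module.Basis.mk hli hspan
  intro Δ S
  -- coordinates of `Δ` on `T`
  let δ : Fin n → Derivation ℤ T L := fun j =>
    Derivation.mk' (((B.coord j).toAddMonoidHom.comp
      (Δ.toLinearMap.toAddMonoidHom.comp (algebraMap T T').toAddMonoidHom)).toIntLinearMap) fun x y => by
      show B.coord j (Δ (algebraMap T T' (x * y))) = x • B.coord j (Δ (algebraMap T T' y)) + y • B.coord j (Δ (algebraMap T T' x))
      rw [map_mul, Derivation.leibniz, map_add]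
      congr 1
      · rw [algebraMap_smul, ← algebraMap_smul L x (Δ (algebraMap T T' y)), map_smul, algebraMap_smul]
      · rw [algebraMap_smul, ← algebraMap_smul L y (Δ (algebraMap T T' x)), map_smul, algebraMap_smul]
  have hΔb : Δ (algebraMap T T' b) = 0 := by
    rw [← hz, Derivation.leibniz_pow, ← Nat.cast_smul_eq_nsmul T', hpT', zero_smul]
  have hδb : ∀ j, δ j b = 0 := fun j => by
    show B.coord j (Δ (algebraMap T T' b)) = 0
    rw [hΔb, map_zero]
  let S₀ : Finset T := insert b (S.biUnion fun s => Finset.univ.image fun j => e.repr s j)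
  choose h hh0 D hD using fun j => hT (δ j) S₀
  have hDb : ∀ j, D j b = 0 := fun j => by
    refine IsFractionRing.injective T L ?_
    rw [hD j b (Finset.mem_insert_self _ _), hδb, mul_zero, map_zero]
  choose D' hD'z hD't using fun j => hext (D j) (hDb j)
  obtain ⟨P, hPz, hPt⟩ := hP
  obtain ⟨a, c, hc, hac⟩ := IsFractionRing.div_surjective T' (Δ z)
  let H : Fin n → T := fun j => ∏ i ∈ Finset.univ.erase j, h i
  let H₀ : T := ∏ i, h i
  have hH : ∀ j, H j * h j = H₀ := fun j => Finset.prod_erase_mul _ _ (Finset.mem_univ j)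
  have hH0 : H₀ ≠ 0 := Finset.prod_ne_zero_iff.2 fun i _ => hh0 i
  let D₁ : Derivation ℤ T' T' :=
    (∑ j, (c * algebraMap T T' (H j) * e j) • D' j) + (algebraMap T T' H₀ * a) • P
  let K : T' := c * algebraMap T T' H₀
  refine ⟨K, mul_ne_zero (nonZeroDivisors.ne_zero hc)
    (fun h0 => hH0 (FaithfulSMul.algebraMap_injective T T' (h0.trans (map_zero _).symm))), D₁, fun s hs => ?_⟩
  have hK : ι' K = ι' c * algebraMap T L' H₀ := by
    rw [map_mul, ← IsScalarTower.algebraMap_apply]
  have hval : ∀ t ∈ S₀, ι' (D₁ (algebraMap T T' t)) = ι' K * Δ (algebraMap T T' t) := by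
    intro t ht
    have h1 : Δ (algebraMap T T' t) = ∑ j, δ j t • ι' (e j) := by
      conv_lhs => rw [← B.sum_repr (Δ (algebraMap T T' t))]
      refine Finset.sum_congr rfl fun j _ => ?_
      rw [Module.Basis.mk_apply]
      rfl
    rw [h1, Finset.mul_sum]
    simp only [D₁, Derivation.add_apply, Derivation.smul_apply, hPt, smul_zero, add_zero]
    rw [show (∑ j, (c * algebraMap T T' (H j) * e j) • D' j) (algebraMap T T' t) =
        ∑ j, (c * algebraMap T T' (H j) * e j) • D' j (algebraMap T T' t) from by
      rw [← Derivation.coeFnAddMonoidHom_apply, map_sum, Finset.sum_apply]; rfl]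
    rw [map_sum]
    refine Finset.sum_congr rfl fun j _ => ?_
    have h2 : algebraMap T L' (D j t) = algebraMap T L' (h j) * algebraMap L L' (δ j t) := by
      rw [IsScalarTower.algebraMap_apply T L L' (D j t), hD j t ht, map_mul, ← IsScalarTower.algebraMap_apply]
    rw [smul_eq_mul, hD't, map_mul, map_mul, map_mul, ← IsScalarTower.algebraMap_apply, ← IsScalarTower.algebraMap_apply,
      h2, hK, Algebra.smul_def, ← hH j, map_mul]
    ring
  have hvalz : ι' (D₁ z) = ι' K * Δ z := by
    simp only [D₁, Derivation.add_apply, Derivation.smul_apply, hPz, smul_eq_mul, mul_one]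
    rw [show (∑ j, (c * algebraMap T T' (H j) * e j) • D' j) z = 0 from by
      rw [← Derivation.coeFnAddMonoidHom_apply, map_sum, Finset.sum_apply]
      exact Finset.sum_eq_zero fun j _ => by
        show (c * algebraMap T T' (H j) * e j) • D' j z = 0
        rw [hD'z, smul_zero]]
    rw [zero_add, ← hac, hK, map_mul, ← IsScalarTower.algebraMap_apply]
    rw [mul_div_assoc', eq_div_iff (show ι' c ≠ 0 from fun h =>
      nonZeroDivisors.ne_zero hc (IsFractionRing.injective T' L' (h.trans (map_zero _).symm)))]
    ring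
  conv_lhs => rw [← e.sum_repr s]
  conv_rhs => rw [← e.sum_repr s]
  rw [map_sum, map_sum, map_sum, Finset.mul_sum]
  refine Finset.sum_congr rfl fun j _ => ?_
  have hmem : e.repr s j ∈ S₀ :=
    Finset.mem_insert_of_mem (Finset.mem_biUnion.2 ⟨s, hs, Finset.mem_image.2 ⟨j, Finset.mem_univ _, rfl⟩⟩)
  rw [Algebra.smul_def, he, Derivation.leibniz, Derivation.leibniz, Derivation.leibniz_pow,
    Derivation.leibniz_pow]
  simp only [smul_eq_mul, nsmul_eq_mul, Algebra.smul_def, map_add, map_mul, map_pow, map_natCast]
  rw [show algebraMap ℕ T' (j : ℕ) = ((j : ℕ) : T') from map_natCast _ _, map_natCast]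
  rw [hval _ hmem, hvalz]
  ring

section Root2

variable {T : Type u} [CommRing T] [IsDomain T] (p : ℕ) [Fact p.Prime] (b : T)

/-- Density passes to `T[b^{1/p}]`. -/
theorem derivDense_root [CharP T p] (hT : DerivDense T)
    [IsDomain (AdjoinRoot (X ^ p - C b : T[X]))] : DerivDense (AdjoinRoot (X ^ p - C b : T[X])) := by
  let F : T[X] := X ^ p - C b
  let T' := AdjoinRoot F
  have hpb : F.natDegree = p := natDegree_root p b
  let pb := AdjoinRoot.powerBasis' (monic_root p b)
  let z : T' := AdjoinRoot.root F
  have hz : z ^ p = algebraMap T T' b := by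
    have h : AdjoinRoot.mk F F = 0 := AdjoinRoot.mk_self
    rwa [show F = X ^ p - C b from rfl, map_sub, map_pow, AdjoinRoot.mk_X, AdjoinRoot.mk_C, sub_eq_zero] at h
  haveI : FaithfulSMul T T' := (faithfulSMul_iff_algebraMap_injective T T').2 (by
    refine AdjoinRoot.of.injective_of_degree_ne_zero ?_
    rw [degree_eq_natDegree (monic_root p b).ne_zero, hpb]
    exact_mod_cast (Fact.out : p.Prime).ne_zero)
  haveI : Module.Finite T T' := pb.finite
  refine derivDense_of_basis T T' p ?_ b z hz pb.basis (fun j => pb.basis_eq_pow j) (fun D hD => ?_) ?_ hT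
  · rw [← map_natCast (algebraMap T T'), CharP.cast_eq_zero, map_zero]
  · obtain ⟨E, hEC, hEX⟩ := exists_derivation_polynomial D
    obtain ⟨D', hD'⟩ := exists_derivation_quotient F E (by
      have h1 : E (X ^ p) = 0 := by rw [Derivation.leibniz_pow, hEX, smul_zero, smul_zero]
      have h2 : E (C b) = 0 := (hEC b).trans (by rw [hD, map_zero])
      exact (map_sub E _ _).trans ((congrArg₂ (· - ·) h1 h2).trans (sub_zero 0)))
    refine ⟨D', (hD' X).trans ((congrArg (Ideal.Quotient.mk _) hEX).trans (map_zero _)), fun t => ?_⟩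
    exact (hD' (C t)).trans (congrArg (Ideal.Quotient.mk _) (hEC t))
  · obtain ⟨P, hP⟩ := exists_derivation_quotient F ((Polynomial.derivative' (R := T)).restrictScalars ℤ) (by
      show derivative (X ^ p - C b) = 0
      rw [derivative_sub, derivative_X_pow, derivative_C, sub_zero, CharP.cast_eq_zero, C_0, zero_mul])
    refine ⟨P, (hP X).trans ?_, fun t => (hP (C t)).trans ?_⟩
    · show Ideal.Quotient.mk _ (derivative (X : T[X])) = 1
      rw [derivative_X, map_one]
    · show Ideal.Quotient.mk _ (derivative (C t)) = 0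
      rw [derivative_C, map_zero]

end Root2

end Groth.Agent.RegLocus
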