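import Groth.Agent.RegLocus.DerivDense
import Groth.Agent.SymGr.FormalFibre
import Groth.Agent.S4548
import Mathlib

/-! # Power series rings in characteristic `p` have enough derivations -/

universe u

set_option linter.style.haveILetI false

namespace Groth.Agent.RegLocus

theorem exists_scaled_derivation {B K : Type u} [CommRing B] [IsDomain B] [Field K] [Algebra B K] [IsFractionRing B K]
    (p : ℕ) [Fact p.Prime] [CharP K p] {ι : Type u} [Nonempty ι] (S : ι → Subring B)
    (hdir : ∀ a b : ι, ∃ c, S c ≤ S a ⊓ S b) (hS : ∀ i, Module.Finite (S i) B)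
    (hinter : ∀ z : K, (∀ i, z ∈ Subfield.closure (algebraMap B K '' (S i : Set B))) ↔ ∃ y, y ^ p = z)
    (Δ : Derivation ℤ B K) (S₀ : Finset B) :
    ∃ h : B, h ≠ 0 ∧ ∃ D : Derivation ℤ B B, ∀ s ∈ S₀, algebraMap B K (D s) = algebraMap B K h * Δ s := by
  classical
  let ι' := algebraMap B K
  let d : B → Ω[K⁄ℤ] := fun s => KaehlerDifferential.D ℤ K (ι' s)
  obtain ⟨t, hts, hspan, hli⟩ := exists_linearIndependent K (d '' (S₀ : Set B))
  haveI : Finite t := (S₀.finite_toSet.image d).subset hts
  letI := Fintype.ofFinite t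
  choose y hyS hy using fun w : t => hts w.2
  let x : t → K := fun w => ι' (y w)
  have hx : LinearIndependent K fun w => KaehlerDifferential.D ℤ K (x w) := by
    have e : (fun w => KaehlerDifferential.D ℤ K (x w)) = ((↑) : t → Ω[K⁄ℤ]) := funext hy
    rwa [e]
  choose a D DK ha hD hDK using fun i : t => SymGr.exists_bounded_derivation (K := K) p S hdir hS hinter x hx i
  -- extend `Δ` to the fraction field
  haveI : Algebra.FormallyEtale B K := Algebra.FormallyEtale.of_isLocalization (Rₘ := K) (nonZeroDivisors B)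
  have hb := KaehlerDifferential.isBaseChange_of_formallyEtale (R := ℤ) (S := B) (T := K)
  let l : Ω[K⁄ℤ] →ₗ[K] K := hb.lift Δ.liftKaehlerDifferential
  have hl : ∀ b, l (d b) = Δ b := fun b => by
    have h := hb.lift_eq Δ.liftKaehlerDifferential (KaehlerDifferential.D ℤ B b)
    rwa [KaehlerDifferential.map_D, Derivation.liftKaehlerDifferential_comp_D] at h
  choose α β hβ hαβ using fun i : t => IsFractionRing.div_surjective B (Δ (y i))
  let H : t → B := fun i => (∏ j ∈ Finset.univ.erase i, a j * β j) * α i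
  let h : B := ∏ j, a j * β j
  refine ⟨h, Finset.prod_ne_zero_iff.2 fun j _ => mul_ne_zero (ha j) (nonZeroDivisors.ne_zero (hβ j)),
    ∑ i, H i • D i, fun s hs => ?_⟩
  have hsum : ι' ((∑ i, H i • D i) s) = ι' h * ∑ i, Δ (y i) * DK i (ι' s) := by
    rw [← Derivation.coeFnAddMonoidHom_apply, map_sum, Finset.sum_apply, map_sum, Finset.mul_sum]
    refine Finset.sum_congr rfl fun i _ => ?_
    show ι' (H i * D i s) = _
    have hβ' : ι' (β i) ≠ 0 := fun h0 => nonZeroDivisors.ne_zero (hβ i)
      (IsFractionRing.injective B K (h0.trans (map_zero _).symm))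
    have hh : h = (∏ j ∈ Finset.univ.erase i, a j * β j) * (a i * β i) :=
      (Finset.prod_erase_mul _ _ (Finset.mem_univ i)).symm
    have hv : ι' (β i) * Δ (y i) = ι' (α i) := by
      rw [← hαβ i]
      exact mul_div_cancel₀ _ hβ'
    rw [hh]
    simp only [H, map_mul]
    rw [hD i s, ← hv]
    ring
  rw [hsum]
  congr 1
  let m : Ω[K⁄ℤ] →ₗ[K] K := ∑ i, Δ (y i) • (DK i).liftKaehlerDifferential
  have hm : ∀ z, m (KaehlerDifferential.D ℤ K z) = ∑ i, Δ (y i) * DK i z := fun z => by
    simp [m, LinearMap.sum_apply]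
  have hml : Set.EqOn l m (Submodule.span K t) := by
    refine LinearMap.eqOn_span' fun w hw => ?_
    have hw' : (⟨w, hw⟩ : t).1 = d (y ⟨w, hw⟩) := (hy ⟨w, hw⟩).symm
    rw [show w = d (y ⟨w, hw⟩) from hw', hl, hm]
    have h1 : ∀ i, DK i (ι' (y ⟨w, hw⟩)) = if i = ⟨w, hw⟩ then 1 else 0 := fun i => hDK i _
    simp [h1]
  have hmem : d s ∈ Submodule.span K t := by
    rw [hspan]
    exact Submodule.subset_span ⟨s, hs, rfl⟩
  rw [← hm, ← hl s]
  exact (hml hmem).symm

/-- A domain finite over subrings whose fraction fields meet in the `p`-th powers has enough derivations. -/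
theorem derivDense_of_subrings {B : Type u} [CommRing B] [IsDomain B] (p : ℕ) [Fact p.Prime]
    [CharP (FractionRing B) p] {ι : Type u} [Nonempty ι] (S : ι → Subring B) (hdir : ∀ a b : ι, ∃ c, S c ≤ S a ⊓ S b)
    (hS : ∀ i, Module.Finite (S i) B)
    (hinter : ∀ z : FractionRing B,
      (∀ i, z ∈ Subfield.closure (algebraMap B (FractionRing B) '' (S i : Set B))) ↔ ∃ y, y ^ p = z) :
    DerivDense B := fun Δ S₀ => exists_scaled_derivation (K := FractionRing B) p S hdir hS hinter Δ S₀

/-- Power series rings over a field of characteristic `p` have enough derivations. -/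
theorem derivDense_mvPowerSeries (k : Type u) [Field k] (p : ℕ) [Fact p.Prime] [CharP k p] (r : ℕ)
    [IsDomain (MvPowerSeries (Fin r) k)] : DerivDense (MvPowerSeries (Fin r) k) := by
  obtain ⟨ι, hne, S, hdir, hS, hint⟩ := Groth.Agent.S4548.result p k r
  haveI : CharP (MvPowerSeries (Fin r) k) p := charP_of_injective_algebraMap (algebraMap k (MvPowerSeries (Fin r) k)).injective p
  haveI : CharP (FractionRing (MvPowerSeries (Fin r) k)) p :=
    charP_of_injective_algebraMap (IsFractionRing.injective (MvPowerSeries (Fin r) k) _) p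
  refine derivDense_of_subrings p S hdir (fun i => (hS i).2.2) fun z => ?_
  have h := Set.ext_iff.1 hint z
  simpa [Subfield.coe_iInf, Set.mem_iInter] using h

end Groth.Agent.RegLocus
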