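import Groth.Agent.RegLocus.NagataFibres
import Groth.Agent.CplFin.Basic
import Groth.Agent.AdicNoeth.Basic
import Mathlib

/-!
# Completion along an ideal: reducedness from the completions of the local rings
-/

universe u

open TensorProduct

set_option linter.style.haveILetI false

namespace Groth.Agent.RegLocus

variable (A : Type u) [CommRing A] [IsNoetherianRing A] (I : Ideal A)

/-- Elements of `Â_I ⊗ C` are approximated by elements of `C`. -/
theorem exists_approx_ideal (C : Type u) [CommRing C] [Algebra A C] (n : ℕ)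
    (x : AdicCompletion I A ⊗[A] C) :
    ∃ c : C, x - (1 : AdicCompletion I A) ⊗ₜ[A] c ∈
      (I ^ n).map (algebraMap A (AdicCompletion I A ⊗[A] C)) := by
  induction x using TensorProduct.induction_on with
  | zero => exact ⟨0, by simp⟩
  | add x y hx hy =>
    obtain ⟨c, hc⟩ := hx
    obtain ⟨d, hd⟩ := hy
    exact ⟨c + d, by rw [TensorProduct.tmul_add, add_sub_add_comm]; exact add_mem hc hd⟩
  | tmul b c =>
    obtain ⟨a, ha⟩ := Submodule.Quotient.mk_surjective _ (AdicCompletion.eval I A n b)
    refine ⟨a • c, ?_⟩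
    have h : b - algebraMap A (AdicCompletion I A) a ∈ (AdicCompletion.eval I A n).ker := by
      rw [LinearMap.mem_ker, map_sub, sub_eq_zero, ← ha]
      rfl
    rw [← AdicCompletion.pow_smul_top_eq_ker_eval (IsNoetherian.noetherian _), Ideal.smul_top_eq_map,
      Submodule.restrictScalars_mem] at h
    have h2 := Ideal.mem_map_of_mem (algebraMap (AdicCompletion I A) (AdicCompletion I A ⊗[A] C)) h
    rw [Ideal.map_map, ← IsScalarTower.algebraMap_eq] at h2
    have h3 := Ideal.mul_mem_right ((1 : AdicCompletion I A) ⊗ₜ[A] c) _ h2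
    rw [show algebraMap (AdicCompletion I A) (AdicCompletion I A ⊗[A] C) (b - algebraMap A _ a) *
        ((1 : AdicCompletion I A) ⊗ₜ[A] c) = b ⊗ₜ[A] c - (1 : AdicCompletion I A) ⊗ₜ[A] (a • c) from by
      rw [Algebra.TensorProduct.algebraMap_apply, Algebra.TensorProduct.tmul_mul_tmul, mul_one, one_mul,
        Algebra.algebraMap_self, RingHom.id_apply, TensorProduct.sub_tmul,
        Algebra.algebraMap_eq_smul_one a, TensorProduct.smul_tmul]] at h3
    exact h3

/-- If `c` dies in `B ⊗ (C / I^n C)` then some element outside `m` moves `c` into `I^n C`. -/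
theorem exists_notMem_smul_mem (B : Type u) [CommRing B] [Algebra A B] [Module.Flat A B] (m : Ideal A)
    (hmB : m.map (algebraMap A B) ≠ ⊤) (C : Type u) [CommRing C] [Algebra A C] (J : Ideal A) (c : C)
    (hc : (1 : B) ⊗ₜ[A] c ∈ J.map (algebraMap A (B ⊗[A] C))) :
    ∃ s ∉ m, s • c ∈ (J • ⊤ : Submodule A C) := by
  by_contra! hcon
  let N : Submodule A C := J • ⊤
  let K : Ideal A := Submodule.comap (LinearMap.toSpanSingleton A C c) N
  have hKm : K ≤ m := fun a ha => by
    by_contra h
    exact hcon a h ha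
  let φ : A ⧸ K →ₗ[A] C ⧸ N :=
    Submodule.liftQ K ((Submodule.mkQ N).comp (LinearMap.toSpanSingleton A C c)) fun a ha => by
      rw [LinearMap.mem_ker, LinearMap.comp_apply, Submodule.mkQ_apply, Submodule.Quotient.mk_eq_zero]
      exact ha
  have hφ : Function.Injective φ := by
    refine LinearMap.ker_eq_bot.1 (Submodule.ker_liftQ_eq_bot _ _ _ fun a ha => ?_)
    rw [LinearMap.mem_ker, LinearMap.comp_apply, Submodule.mkQ_apply, Submodule.Quotient.mk_eq_zero] at ha
    exact ha
  have hinj := Module.Flat.lTensor_preserves_injective_linearMap (M := B) φ hφ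
  have hzero : ∀ y ∈ (J • ⊤ : Submodule A (B ⊗[A] C)), LinearMap.lTensor B N.mkQ y = 0 := by
    intro y hy
    refine Submodule.smul_induction_on hy (fun a ha z hz => ?_) (fun u v hu hv => by rw [map_add, hu, hv, add_zero])
    · clear hz
      induction z using TensorProduct.induction_on with
      | zero => rw [smul_zero, map_zero]
      | add u v hu hv => rw [smul_add, map_add, hu, hv, add_zero]
      | tmul b w =>
        rw [TensorProduct.smul_tmul', TensorProduct.smul_tmul, LinearMap.lTensor_tmul,
          (Submodule.Quotient.mk_eq_zero N).2 (Submodule.smul_mem_smul ha Submodule.mem_top) |>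
            (fun h => (h : N.mkQ (a • w) = 0)), TensorProduct.tmul_zero]
  have h1 : LinearMap.lTensor B N.mkQ ((1 : B) ⊗ₜ[A] c) = 0 :=
    hzero _ (by rw [Ideal.smul_top_eq_map, Submodule.restrictScalars_mem]; exact hc)
  have h2 : ((1 : B) ⊗ₜ[A] (Submodule.Quotient.mk (1 : A) : A ⧸ K)) = 0 := by
    refine hinj ?_
    rw [map_zero, LinearMap.lTensor_tmul]
    rw [LinearMap.lTensor_tmul] at h1
    rwa [show φ (Submodule.Quotient.mk (1 : A)) = N.mkQ c from by
      show N.mkQ ((1 : A) • c) = _
      rw [one_smul]]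
  have h3 := congrArg (Algebra.TensorProduct.quotIdealMapEquivTensorQuot B K).symm h2
  rw [map_zero] at h3
  have h4 : (Ideal.Quotient.mk (K.map (algebraMap A B)) 1) = 0 := by
    rw [map_one]
    have e := congrArg (fun z => z) h3
    refine Eq.trans ?_ e
    exact (map_one (Algebra.TensorProduct.quotIdealMapEquivTensorQuot B K).symm).symm
  rw [Ideal.Quotient.eq_zero_iff_mem, ← Ideal.eq_top_iff_one] at h4
  exact hmB (top_le_iff.1 (h4 ▸ Ideal.map_mono hKm))

/-- `Â_I ⊗ C` is reduced when the completions of the local rings tensor `C` are. -/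
theorem isReduced_idealCpl_tensor (C : Type u) [CommRing C] [Algebra A C] [Module.Finite A C]
    (h : ∀ (m : Ideal A) [m.IsMaximal], I ≤ m →
      IsReduced (EGA4.Cpl (Localization.AtPrime m) ⊗[A] C)) :
    IsReduced (AdicCompletion I A ⊗[A] C) := by
  let Ah := AdicCompletion I A
  let S := Ah ⊗[A] C
  haveI : IsNoetherianRing Ah := AdicNoeth.isNoetherianRing_adicCompletion _
  refine ⟨fun x hx => ?_⟩
  let J := I.map (algebraMap A Ah)
  haveI hcA : IsAdicComplete J Ah := by
    haveI : IsAdicComplete I Ah := AdicCompletion.isAdicComplete (IsNoetherian.noetherian I)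
    exact (IsAdicComplete.map_algebraMap_iff I Ah).2 inferInstance
  haveI : IsAdicComplete J S := CplFin.isAdicComplete_of_finite Ah J S
  refine IsHausdorff.haus (I := J) inferInstance x fun n => ?_
  rw [SModEq.zero, Ideal.smul_top_eq_map, Submodule.restrictScalars_mem, Ideal.map_pow, Ideal.map_map,
    ← IsScalarTower.algebraMap_eq, ← Ideal.map_pow]
  obtain ⟨c, hc⟩ := exists_approx_ideal A I C n x
  suffices hcn : c ∈ ((I ^ n) • ⊤ : Submodule A C) by
    have h5 : (1 : Ah) ⊗ₜ[A] c ∈ (I ^ n).map (algebraMap A S) := by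
      rw [Ideal.smul_top_eq_map, Submodule.restrictScalars_mem] at hcn
      have := Ideal.mem_map_of_mem (Algebra.TensorProduct.includeRight : C →ₐ[A] S).toRingHom hcn
      rw [Ideal.map_map] at this
      rwa [show (Algebra.TensorProduct.includeRight : C →ₐ[A] S).toRingHom.comp (algebraMap A C) = algebraMap A S from
        RingHom.ext fun a => (Algebra.TensorProduct.includeRight : C →ₐ[A] S).commutes a] at this
    simpa using add_mem hc h5
  let K : Ideal A := Submodule.comap (LinearMap.toSpanSingleton A C c) ((I ^ n) • ⊤ : Submodule A C)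
  by_contra hcon
  have hK : K ≠ ⊤ := fun e => hcon (by
    have : (1 : A) ∈ K := e ▸ Submodule.mem_top
    simpa [K] using this)
  obtain ⟨m, hm, hKm⟩ := Ideal.exists_le_maximal K hK
  have hIm : I ≤ m := by
    by_cases hn : n = 0
    · exact absurd (show K = ⊤ from (Ideal.eq_top_iff_one K).2 (by simp [K, hn, Ideal.map_top])) hK
    · refine fun a ha => hm.isPrime.mem_of_pow_mem n (hKm ?_)
      show a ^ n • c ∈ ((I ^ n) • ⊤ : Submodule A C)
      exact Submodule.smul_mem_smul (Ideal.pow_mem_pow ha n) Submodule.mem_top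
  haveI := h m hIm
  let Am := Localization.AtPrime m
  let B := EGA4.Cpl Am
  obtain ⟨-, hff, -⟩ := cpl_facts Am
  haveI := hff
  haveI : Module.Flat A B := Module.Flat.trans A Am B
  have hle : ∀ k, (I ^ k).map (algebraMap A Am) ≤ (IsLocalRing.maximalIdeal Am) ^ k := fun k => by
    rw [Ideal.map_pow]
    exact Ideal.pow_right_mono ((Ideal.map_mono hIm).trans (Localization.AtPrime.map_eq_maximalIdeal).le) k
  let θ : Ah →+* B := AdicCompletion.liftRingHom (IsLocalRing.maximalIdeal Am)
    (fun k => (Ideal.quotientMap _ (algebraMap A Am) (Ideal.map_le_iff_le_comap.1 (hle k))).comp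
      (AdicCompletion.evalₐ I k).toRingHom) (fun {a b} hab => by
      ext z
      induction z using AdicCompletion.induction_on with
      | _ y =>
        show Ideal.Quotient.factor (Ideal.pow_le_pow_right (I := IsLocalRing.maximalIdeal Am) hab)
            (Ideal.quotientMap (IsLocalRing.maximalIdeal Am ^ b) (algebraMap A Am)
              (Ideal.map_le_iff_le_comap.1 (hle b)) (AdicCompletion.evalₐ I b (AdicCompletion.mk I A y))) =
          Ideal.quotientMap (IsLocalRing.maximalIdeal Am ^ a) (algebraMap A Am)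
              (Ideal.map_le_iff_le_comap.1 (hle a)) (AdicCompletion.evalₐ I a (AdicCompletion.mk I A y))
        rw [AdicCompletion.evalₐ_mk, AdicCompletion.evalₐ_mk]
        show Ideal.Quotient.mk _ (algebraMap A Am (y.1 b)) = Ideal.Quotient.mk _ (algebraMap A Am (y.1 a))
        rw [Ideal.Quotient.eq, ← map_sub]
        refine hle a (Ideal.mem_map_of_mem _ ?_)
        have h := y.2 hab
        rw [SModEq.sub_mem, Ideal.smul_top_eq_map, Algebra.algebraMap_self, Ideal.map_id,
          Submodule.restrictScalars_mem] at h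
        rw [← neg_sub]
        exact neg_mem h)
  let θₐ : Ah →ₐ[A] B :=
    { θ with
      commutes' := fun a => by
        refine AdicCompletion.ext_evalₐ fun k => ?_
        show AdicCompletion.evalₐ _ k (θ (algebraMap A Ah a)) = _
        rw [AdicCompletion.evalₐ_liftRingHom, IsScalarTower.algebraMap_apply A Am B]
        refine Eq.trans ?_ ((AdicCompletion.evalₐ (IsLocalRing.maximalIdeal Am) k).commutes _).symm
        exact congrArg (Ideal.quotientMap (IsLocalRing.maximalIdeal Am ^ k) (algebraMap A Am)
          (Ideal.map_le_iff_le_comap.1 (hle k))) ((AdicCompletion.evalₐ I k).commutes a) }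
  let ψ : S →ₐ[A] B ⊗[A] C := Algebra.TensorProduct.map θₐ (AlgHom.id A C)
  have hψx : ψ x = 0 := (hx.map ψ).eq_zero
  have h6 : (1 : B) ⊗ₜ[A] c ∈ (I ^ n).map (algebraMap A (B ⊗[A] C)) := by
    have := Ideal.mem_map_of_mem ψ.toRingHom hc
    rw [Ideal.map_map, show ψ.toRingHom.comp (algebraMap A S) = algebraMap A (B ⊗[A] C) from
      RingHom.ext fun a => ψ.commutes a] at this
    rw [show ψ.toRingHom (x - (1 : Ah) ⊗ₜ[A] c) = - ((1 : B) ⊗ₜ[A] c) from by
      show ψ (x - (1 : Ah) ⊗ₜ[A] c) = _
      rw [map_sub, hψx, zero_sub, neg_inj]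
      show Algebra.TensorProduct.map θₐ (AlgHom.id A C) _ = _
      rw [Algebra.TensorProduct.map_tmul, map_one]
      rfl] at this
    exact neg_mem_iff.1 this
  have hmB : m.map (algebraMap A B) ≠ ⊤ := by
    rw [IsScalarTower.algebraMap_eq A Am B, ← Ideal.map_map, Localization.AtPrime.map_eq_maximalIdeal,
      ← AdicCompletion.maximalIdeal_eq_map]
    exact (IsLocalRing.maximalIdeal.isMaximal _).ne_top
  obtain ⟨s, hs, hsc⟩ := exists_notMem_smul_mem A B m hmB C (I ^ n) c h6
  exact hs (hKm hsc)

/-- EGA IV 7.4.6 for reducedness: fibres of `A → Â_I`. -/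
theorem geomReduced_fibres_idealCpl
    (hA : ∀ (p : Ideal A) [p.IsPrime], EGA4.HasGeomReducedFormalFibres (Localization.AtPrime p))
    (p : Ideal A) [p.IsPrime] :
    Algebra.IsGeometricallyReduced p.ResidueField (p.Fiber (AdicCompletion I A)) := by
  refine geomReduced_of_finite_reduced _ _ fun L _ _ hfin => ?_
  haveI := hfin
  letI : Algebra A L := ((algebraMap p.ResidueField L).comp (algebraMap A p.ResidueField)).toAlgebra
  haveI : IsScalarTower A p.ResidueField L := IsScalarTower.of_algebraMap_eq fun _ => rfl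
  haveI : IsReduced (AdicCompletion I A ⊗[A] L) := isReduced_tensor_finite_extension A (AdicCompletion I A)
    (fun C _ _ _ _ => isReduced_idealCpl_tensor A I C fun m _ _ => by
      let Am := Localization.AtPrime m
      letI : Algebra C (Am ⊗[A] C) := Algebra.TensorProduct.rightAlgebra
      haveI : IsLocalization (Algebra.algebraMapSubmonoid C m.primeCompl) (Am ⊗[A] C) := inferInstance
      haveI : IsReduced (Am ⊗[A] C) :=
        isReduced_localizationPreserves (Algebra.algebraMapSubmonoid C m.primeCompl) _ inferInstance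
      haveI : IsReduced (EGA4.Cpl Am ⊗[Am] (Am ⊗[A] C)) :=
        isReduced_cpl_tensor_of_reduced Am
          ⟨inferInstance, fun q _ => isN2_quotient_of_geomReduced Am (hA m) q⟩ (Am ⊗[A] C)
      let e : EGA4.Cpl Am ⊗[Am] (Am ⊗[A] C) ≃ₐ[EGA4.Cpl Am] EGA4.Cpl Am ⊗[A] C :=
        Algebra.TensorProduct.cancelBaseChange A Am (EGA4.Cpl Am) (EGA4.Cpl Am) C
      exact isReduced_of_injective e.symm e.symm.injective) p L
  let e1 : L ⊗[p.ResidueField] (p.ResidueField ⊗[A] AdicCompletion I A) ≃ₐ[L] L ⊗[A] AdicCompletion I A :=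
    Algebra.TensorProduct.cancelBaseChange A p.ResidueField L L (AdicCompletion I A)
  let e2 : L ⊗[p.ResidueField] (p.Fiber (AdicCompletion I A)) ≃+* AdicCompletion I A ⊗[A] L :=
    e1.toRingEquiv.trans (Algebra.TensorProduct.comm A (AdicCompletion I A) L).toRingEquiv.symm
  exact isReduced_of_injective e2 e2.injective

end Groth.Agent.RegLocus
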