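import Groth.Agent.RegLocus.IdealCpl
import Groth.Agent.RegLocus.CplDescend
import Groth.Agent.RegLocus.SemilocalCpl
import Groth.Agent.RegLocus.GeomMisc
import Groth.Agent.GrpSch.FlatStalk
import Mathlib

/-!
# Completion along an ideal versus completions of local rings; normal version of EGA IV 7.4.6
-/

universe u

open TensorProduct IsLocalRing

set_option linter.style.haveILetI false

namespace Groth.Agent.RegLocus

/-- `(Â_I)_n → (A_m)^` is faithfully flat, `n = m Â_I`. -/
theorem exists_flat_local (A : Type u) [CommRing A] [IsNoetherianRing A] (I m : Ideal A) [m.IsMaximal] (hIm : I ≤ m) :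
    ∃ (n : Ideal (AdicCompletion I A)) (_ : n.IsPrime), n = m.map (algebraMap A (AdicCompletion I A)) ∧
      ∃ (_ : Algebra (Localization.AtPrime n) (EGA4.Cpl (Localization.AtPrime m))),
        IsScalarTower A (Localization.AtPrime n) (EGA4.Cpl (Localization.AtPrime m)) ∧
        Module.FaithfullyFlat (Localization.AtPrime n) (EGA4.Cpl (Localization.AtPrime m)) := by
  let Ah := AdicCompletion I A
  let Am := Localization.AtPrime m
  let T := EGA4.Cpl Am
  haveI : IsNoetherianRing Ah := AdicNoeth.isNoetherianRing_adicCompletion _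
  obtain ⟨hTN, hff, -⟩ := cpl_facts Am
  haveI := hTN
  haveI := hff
  obtain ⟨θ⟩ := exists_cplMap A Am I (maximalIdeal Am)
    ((Ideal.map_mono hIm).trans Localization.AtPrime.map_eq_maximalIdeal.le)
  let θ' : Ah →+* T := θ.toRingHom
  have hT : maximalIdeal T = (maximalIdeal Am).map (algebraMap Am T) := AdicCompletion.maximalIdeal_eq_map
  have hpowT : ∀ k, (maximalIdeal T) ^ k = (m ^ k).map (algebraMap A T) := fun k => by
    rw [hT, ← Ideal.map_pow, IsScalarTower.algebraMap_eq A Am T, ← Ideal.map_map, Ideal.map_pow (algebraMap A Am),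
      Localization.AtPrime.map_eq_maximalIdeal]
  have hθA : ∀ a, θ' (algebraMap A Ah a) = algebraMap A T a := θ.commutes
  have hcontr : ∀ k a, algebraMap A T a ∈ (maximalIdeal T) ^ k → a ∈ m ^ k := fun k a h => by
    rw [hT, ← Ideal.map_pow, IsScalarTower.algebraMap_apply A Am T] at h
    have h2 : algebraMap A Am a ∈ (maximalIdeal Am) ^ k := by
      rw [← Ideal.comap_map_eq_self_of_faithfullyFlat (B := T) ((maximalIdeal Am) ^ k)]
      exact h
    rw [← Localization.AtPrime.map_eq_maximalIdeal, ← Ideal.map_pow,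
      IsLocalization.algebraMap_mem_map_algebraMap_iff m.primeCompl] at h2
    obtain ⟨s, hs, hsa⟩ := h2
    have hsup : Ideal.span {s} ⊔ m ^ k = ⊤ := Ideal.sup_pow_eq_top (by
      by_contra hne
      obtain ⟨M, hM, hle⟩ := Ideal.exists_le_maximal _ hne
      have := (‹m.IsMaximal›.eq_of_le hM.ne_top (le_sup_right.trans hle))
      exact hs (this ▸ hle (Ideal.mem_sup_left (Ideal.mem_span_singleton_self s))))
    obtain ⟨x, hx, y, hy, hxy⟩ := Submodule.mem_sup.1 ((Ideal.eq_top_iff_one _).1 hsup)
    obtain ⟨c, rfl⟩ := Ideal.mem_span_singleton'.1 hx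
    rw [show a = c * (s * a) + y * a by linear_combination (-a) * hxy]
    exact add_mem (Ideal.mul_mem_left _ _ hsa) (Ideal.mul_mem_right _ _ hy)
  have happrox : ∀ k (x : Ah), ∃ a : A, x - algebraMap A Ah a ∈ (m ^ k).map (algebraMap A Ah) := fun k x => by
    obtain ⟨a, ha⟩ := Submodule.Quotient.mk_surjective _ (AdicCompletion.eval I A k x)
    have h : x - algebraMap A Ah a ∈ (AdicCompletion.eval I A k).ker := by
      rw [LinearMap.mem_ker, map_sub, sub_eq_zero, ← ha]
      rfl
    rw [← AdicCompletion.pow_smul_top_eq_ker_eval (IsNoetherian.noetherian _), Ideal.smul_top_eq_map,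
      Submodule.restrictScalars_mem] at h
    exact ⟨a, Ideal.map_mono (Ideal.pow_right_mono hIm k) h⟩
  have hθmap : ∀ k, ((m ^ k).map (algebraMap A Ah)).map θ' = (maximalIdeal T) ^ k := fun k => by
    rw [hpowT, Ideal.map_map]
    congr 1
    exact RingHom.ext hθA
  have hmem : ∀ k (x : Ah), θ' x ∈ (maximalIdeal T) ^ k ↔ x ∈ (m ^ k).map (algebraMap A Ah) := fun k x => by
    refine ⟨fun hx => ?_, fun hx => hθmap k ▸ Ideal.mem_map_of_mem θ' hx⟩
    obtain ⟨a, ha⟩ := happrox k x
    have h1 : θ' (x - algebraMap A Ah a) ∈ (maximalIdeal T) ^ k := hθmap k ▸ Ideal.mem_map_of_mem θ' ha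
    have h2 : algebraMap A T a ∈ (maximalIdeal T) ^ k := by
      have := sub_mem hx h1
      rwa [← map_sub, sub_sub_cancel, hθA] at this
    simpa using add_mem ha (Ideal.mem_map_of_mem (algebraMap A Ah) (hcontr k a h2))
  let n : Ideal Ah := (maximalIdeal T).comap θ'
  have hn : n = m.map (algebraMap A Ah) := by
    ext x
    have := hmem 1 x
    rwa [pow_one, pow_one] at this
  haveI : n.IsPrime := Ideal.IsPrime.comap _
  let R := Localization.AtPrime n
  have hu : ∀ s : n.primeCompl, IsUnit (θ' s) := fun s => by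
    by_contra h
    exact s.2 h
  let φ : R →+* T := IsLocalization.lift hu
  have hφ : ∀ x, φ (algebraMap Ah R x) = θ' x := IsLocalization.lift_eq hu
  letI iA : Algebra R T := φ.toAlgebra
  haveI hsc : IsScalarTower A R T := IsScalarTower.of_algebraMap_eq fun a => by
    show _ = φ (algebraMap A R a)
    rw [IsScalarTower.algebraMap_apply A Ah R, hφ, hθA]
  refine ⟨n, inferInstance, hn, iA, hsc, ?_⟩
  haveI : IsNoetherianRing R := IsLocalization.isNoetherianRing n.primeCompl _ inferInstance
  have hpowR : ∀ k, (maximalIdeal R) ^ k = ((m ^ k).map (algebraMap A Ah)).map (algebraMap Ah R) := fun k => by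
    rw [← Localization.AtPrime.map_eq_maximalIdeal (I := n), Ideal.map_pow, Ideal.map_pow, ← hn]
  haveI : Module.Flat R T := by
    refine (RingHom.flat_algebraMap_iff (R := R) (S := T)).1 (GrpSch.FlatStalk.flat_of_completion_iso φ fun k => ⟨fun y => ?_, fun r => ?_⟩)
    · obtain ⟨t, rfl⟩ := Ideal.Quotient.mk_surjective y
      obtain ⟨b, hb⟩ := exists_approx Am (k + 1) t
      obtain ⟨a, s, rfl⟩ := IsLocalization.exists_mk'_eq m.primeCompl b
      have hsn : algebraMap A Ah s ∈ n.primeCompl := fun h => s.2 (by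
        have h' : θ' (algebraMap A Ah s) ∈ maximalIdeal T := h
        rw [hθA, ← pow_one (maximalIdeal T)] at h'
        simpa using hcontr 1 _ h')
      refine ⟨IsLocalization.mk' R (algebraMap A Ah a) (⟨_, hsn⟩ : n.primeCompl), ?_⟩
      rw [RingHom.comp_apply, Ideal.Quotient.mk_eq_mk_iff_sub_mem]
      rw [← hT] at hb
      have e : φ (IsLocalization.mk' R (algebraMap A Ah a) (⟨_, hsn⟩ : n.primeCompl)) = algebraMap Am T (IsLocalization.mk' Am a s) := by
        rw [IsLocalization.lift_mk'_spec]
        show θ' (algebraMap A Ah a) = θ' (algebraMap A Ah s) * _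
        rw [hθA, hθA, IsScalarTower.algebraMap_apply A Am T, IsScalarTower.algebraMap_apply A Am T, ← map_mul,
          IsLocalization.mk'_spec']
      rw [e, ← neg_sub]
      exact neg_mem hb
    · obtain ⟨x, s, rfl⟩ := IsLocalization.exists_mk'_eq n.primeCompl r
      have h1 : φ (IsLocalization.mk' R x s) ∈ (maximalIdeal T) ^ (k + 1) ↔ θ' x ∈ (maximalIdeal T) ^ (k + 1) := by
        rw [← Ideal.mul_unit_mem_iff_mem _ (hu s)]
        have : φ (IsLocalization.mk' R x s) * θ' s = θ' x := by
          rw [← hφ, ← hφ, ← map_mul, IsLocalization.mk'_spec]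
        rw [this]
      rw [h1, hmem, hpowR]
      refine ⟨fun hx => ?_, fun hx => ?_⟩
      · rw [IsLocalization.mk'_eq_mul_mk'_one]
        exact Ideal.mul_mem_right _ _ (Ideal.mem_map_of_mem _ hx)
      · rw [IsLocalization.mk'_mem_map_algebraMap_iff n.primeCompl] at hx
        obtain ⟨u, hu', hux⟩ := hx
        refine (hmem _ x).1 ((Ideal.unit_mul_mem_iff_mem _ (hu ⟨u, hu'⟩)).1 ?_)
        rw [← map_mul]
        exact (hmem _ _).2 hux
  haveI : IsLocalHom (algebraMap R T) := ⟨fun r hr => by
    obtain ⟨x, s, rfl⟩ := IsLocalization.exists_mk'_eq n.primeCompl r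
    refine (IsLocalization.AtPrime.isUnit_mk'_iff R n x s).2 fun hx => (mem_maximalIdeal _).1 ?_ hr
    show φ (IsLocalization.mk' R x s) ∈ maximalIdeal T
    rw [← Ideal.mul_unit_mem_iff_mem _ (hu s)]
    have : φ (IsLocalization.mk' R x s) * θ' s = θ' x := by
      rw [← hφ, ← hφ, ← map_mul, IsLocalization.mk'_spec]
    rw [this]
    exact hx⟩
  exact Module.FaithfullyFlat.of_flat_of_isLocalHom

theorem isNormalRing_of_cancel (R K L T : Type u) [CommRing R] [CommRing K] [CommRing L] [CommRing T] [Algebra R K]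
    [Algebra K L] [Algebra R L] [IsScalarTower R K L] [Algebra R T] (h : EGA4.IsNormalRing (L ⊗[K] (K ⊗[R] T))) :
    EGA4.IsNormalRing (L ⊗[R] T) :=
  isNormalRing_of_equiv (Algebra.TensorProduct.cancelBaseChange R K K L T).toRingEquiv h

/-- `Cpl A_m ⊗ L` is normal, `L` finite over `k(p)`. -/
theorem isNormalRing_cpl_tensor (A : Type u) [CommRing A] [IsNoetherianRing A] (m : Ideal A) [m.IsPrime] (p : Ideal A) [p.IsPrime]
    (hpm : p ≤ m) (L : Type u) [Field L] [Algebra p.ResidueField L] [Module.Finite p.ResidueField L] [Algebra A L]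
    [IsScalarTower A p.ResidueField L] (h : EGA4.HasGeomNormalFormalFibres (Localization.AtPrime m)) :
    EGA4.IsNormalRing (EGA4.Cpl (Localization.AtPrime m) ⊗[A] L) := by
  let Am := Localization.AtPrime m
  let T := EGA4.Cpl Am
  let q : Ideal Am := p.map (algebraMap A Am)
  have hd : Disjoint (m.primeCompl : Set A) (p : Set A) := Set.disjoint_left.2 fun x hx hxp => hx (hpm hxp)
  haveI : q.IsPrime := IsLocalization.isPrime_of_isPrime_disjoint m.primeCompl Am p ‹_› hd
  have hq : p = q.comap (algebraMap A Am) := (IsLocalization.under_map_of_isPrime_disjoint m.primeCompl Am ‹_› hd).symm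
  have hu : ∀ s : m.primeCompl, IsUnit (algebraMap A L s) := fun s => by
    rw [isUnit_iff_ne_zero, IsScalarTower.algebraMap_apply A p.ResidueField L]
    refine fun h0 => s.2 (hpm ?_)
    rw [map_eq_zero] at h0
    rwa [← Ideal.algebraMap_residueField_eq_zero (I := p)]
  letI : Algebra Am L := (IsLocalization.lift (M := m.primeCompl) (S := Am) hu).toAlgebra
  haveI : IsScalarTower A Am L := IsScalarTower.of_algebraMap_eq fun a =>
    (IsLocalization.lift_eq (M := m.primeCompl) (S := Am) hu a).symm
  have hkerL : ∀ a : A, algebraMap A L a = 0 ↔ a ∈ p := fun a => by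
    rw [IsScalarTower.algebraMap_apply A p.ResidueField L, map_eq_zero, Ideal.algebraMap_residueField_eq_zero]
  have hker : ∀ b : Am, algebraMap Am L b = 0 ↔ b ∈ q := fun b => by
    obtain ⟨a, s, rfl⟩ := IsLocalization.exists_mk'_eq m.primeCompl b
    have e : algebraMap Am L (IsLocalization.mk' Am a s) * algebraMap A L s = algebraMap A L a := by
      rw [IsScalarTower.algebraMap_apply A Am L (s : A), ← map_mul, IsLocalization.mk'_spec, ← IsScalarTower.algebraMap_apply]
    rw [← (hu s).mul_left_eq_zero, e, hkerL]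
    rw [IsLocalization.mk'_mem_iff, hq]
    rfl
  let ψ : q.ResidueField →+* L := Ideal.ResidueField.lift q (algebraMap Am L) (fun b hb => (hker b).2 hb)
    (fun b hb => isUnit_iff_ne_zero.2 fun h0 => hb ((hker b).1 h0))
  letI : Algebra q.ResidueField L := ψ.toAlgebra
  haveI : IsScalarTower Am q.ResidueField L := IsScalarTower.of_algebraMap_eq fun b =>
    (Ideal.ResidueField.lift_algebraMap ..).symm
  let χ : p.ResidueField →+* q.ResidueField := Ideal.ResidueField.map p q (algebraMap A Am) hq
  letI : Algebra p.ResidueField q.ResidueField := χ.toAlgebra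
  haveI : IsScalarTower p.ResidueField q.ResidueField L := IsScalarTower.of_algebraMap_eq' (Ideal.ResidueField.ringHom_ext (RingHom.ext fun a => by
    show algebraMap p.ResidueField L (algebraMap A p.ResidueField a) = algebraMap q.ResidueField L (χ (algebraMap A p.ResidueField a))
    rw [Ideal.ResidueField.map_algebraMap, ← IsScalarTower.algebraMap_apply Am q.ResidueField L,
      ← IsScalarTower.algebraMap_apply A Am L, ← IsScalarTower.algebraMap_apply]))
  haveI hfin : Module.Finite q.ResidueField L := Module.Finite.of_restrictScalars_finite p.ResidueField _ _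
  let e2 : L ⊗[Am] T ≃+* L ⊗[A] T := (IsLocalization.algebraTensorEquiv m.primeCompl Am L T).toRingEquiv
  exact isNormalRing_of_equiv (e2.trans (Algebra.TensorProduct.comm A L T).toRingEquiv) (isNormalRing_of_cancel Am q.ResidueField L T (h q L hfin))

theorem normal_at_of_localization (S S' : Type u) [CommRing S] [CommRing S'] [Algebra S S'] (M : Submonoid S)
    [IsLocalization M S'] (h : EGA4.IsNormalRing S') (Q : Ideal S) [hQ : Q.IsPrime] (hd : Disjoint (M : Set S) (Q : Set S)) :
    IsDomain (Localization.AtPrime Q) ∧ IsIntegrallyClosed (Localization.AtPrime Q) := by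
  let Q' : Ideal S' := Q.map (algebraMap S S')
  haveI : Q'.IsPrime := IsLocalization.isPrime_of_isPrime_disjoint M S' Q hQ hd
  obtain ⟨h1, h2⟩ := h Q'
  haveI := h1
  haveI := h2
  have hc : Q'.comap (algebraMap S S') = Q := IsLocalization.under_map_of_isPrime_disjoint M S' hQ hd
  haveI : IsLocalization.AtPrime (Localization.AtPrime Q') Q := by
    have := IsLocalization.isLocalization_isLocalization_atPrime_isLocalization M (Localization.AtPrime Q') Q'
    convert this using 2
    exact hc.symm
  let e := IsLocalization.algEquiv Q.primeCompl (Localization.AtPrime Q') (Localization.AtPrime Q)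
  exact ⟨e.symm.toMulEquiv.isDomain, IsIntegrallyClosed.of_equiv e.toRingEquiv⟩

theorem isNormalHom_idealCpl (A : Type u) [CommRing A] [IsNoetherianRing A]
    (hA : ∀ (p : Ideal A) [p.IsPrime], EGA4.HasGeomNormalFormalFibres (Localization.AtPrime p)) (I : Ideal A) :
    EGA4.IsNormalHom A (AdicCompletion I A) := by
  refine ⟨inferInstance, fun p _ L _ _ hfin => ?_⟩
  haveI := hfin
  letI : Algebra A L := ((algebraMap p.ResidueField L).comp (algebraMap A p.ResidueField)).toAlgebra
  haveI : IsScalarTower A p.ResidueField L := IsScalarTower.of_algebraMap_eq fun _ => rfl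
  let Ah := AdicCompletion I A
  let e1 : L ⊗[p.ResidueField] (p.Fiber Ah) ≃+* Ah ⊗[A] L :=
    (Algebra.TensorProduct.cancelBaseChange A p.ResidueField p.ResidueField L Ah).toRingEquiv.trans
      (Algebra.TensorProduct.comm A L Ah).toRingEquiv
  refine isNormalRing_of_equiv e1.symm fun Q hQ => ?_
  let P : Ideal Ah := Q.comap (algebraMap Ah (Ah ⊗[A] L))
  haveI : IsAdicComplete I Ah := AdicCompletion.isAdicComplete (IsNoetherian.noetherian I)
  haveI : IsAdicComplete (I.map (algebraMap A Ah)) Ah := (IsAdicComplete.map_algebraMap_iff I Ah).2 inferInstance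
  obtain ⟨n', hn', hPn⟩ := Ideal.exists_le_maximal P (Ideal.IsPrime.ne_top inferInstance)
  haveI := hn'
  have hIn : I.map (algebraMap A Ah) ≤ n' :=
    (IsAdicComplete.le_jacobson_bot _).trans (sInf_le ⟨bot_le, hn'⟩)
  let m := n'.comap (algebraMap A Ah)
  have happrox : ∀ x : Ah, ∃ a : A, x - algebraMap A Ah a ∈ I.map (algebraMap A Ah) := fun x => by
    obtain ⟨a, ha⟩ := Ideal.Quotient.mk_surjective (AdicCompletion.evalOneₐ I x)
    refine ⟨a, ?_⟩
    rw [← AdicCompletion.ker_evalOneₐ_eq_map I (IsNoetherian.noetherian I), RingHom.mem_ker, map_sub, sub_eq_zero]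
    exact ha.symm.trans ((AdicCompletion.evalOneₐ I).commutes a).symm
  have hIm : I ≤ m := Ideal.map_le_iff_le_comap.1 hIn
  haveI hm : m.IsMaximal := by
    let f : A →+* Ah ⧸ n' := (Ideal.Quotient.mk n').comp (algebraMap A Ah)
    have hf : Function.Surjective f := fun y => by
      obtain ⟨x, rfl⟩ := Ideal.Quotient.mk_surjective y
      obtain ⟨a, ha⟩ := happrox x
      exact ⟨a, ((Ideal.Quotient.mk_eq_mk_iff_sub_mem _ _).2 (hIn ha)).symm⟩
    letI := Ideal.Quotient.field n'
    have := RingHom.ker_isMaximal_of_surjective f hf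
    rwa [show m = RingHom.ker f by rw [← RingHom.comap_ker, Ideal.mk_ker]]
  obtain ⟨n, hn, hnm, _, _, hff⟩ := exists_flat_local A I m hIm
  haveI := hff
  have hPn' : P ≤ n := fun x hx => by
    obtain ⟨a, ha⟩ := happrox x
    rw [hnm]
    have ham : a ∈ m := by
      show algebraMap A Ah a ∈ n'
      have := sub_mem (hPn hx) (hIn ha)
      rwa [sub_sub_cancel] at this
    simpa using add_mem (Ideal.map_mono hIm ha) (Ideal.mem_map_of_mem (algebraMap A Ah) ham)
  have hpm : p ≤ m := fun a ha => hPn (show algebraMap Ah (Ah ⊗[A] L) (algebraMap A Ah a) ∈ Q by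
    rw [← IsScalarTower.algebraMap_apply A Ah (Ah ⊗[A] L), ← Algebra.TensorProduct.includeRight.commutes a,
      IsScalarTower.algebraMap_apply A p.ResidueField L, Ideal.algebraMap_residueField_eq_zero.2 ha, map_zero, map_zero]
    exact Q.zero_mem)
  let R := Localization.AtPrime n
  let T := EGA4.Cpl (Localization.AtPrime m)
  haveI : IsNoetherianRing Ah := AdicNoeth.isNoetherianRing_adicCompletion _
  haveI : IsNoetherianRing R := IsLocalization.isNoetherianRing n.primeCompl _ inferInstance
  haveI : IsNoetherianRing T := AdicNoeth.isNoetherianRing_adicCompletion _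
  haveI : IsNoetherianRing (R ⊗[A] L) :=
    haveI := isNoetherianRing_tensor_finite A R p L
    isNoetherianRing_of_ringEquiv _ (Algebra.TensorProduct.comm A L R).toRingEquiv
  let eT : (R ⊗[A] L) ⊗[R] T ≃+* T ⊗[A] L :=
    (Algebra.TensorProduct.comm R (R ⊗[A] L) T).toRingEquiv.trans
      (Algebra.TensorProduct.cancelBaseChange A R R T L).toRingEquiv
  haveI : IsNoetherianRing ((R ⊗[A] L) ⊗[R] T) :=
    haveI := isNoetherianRing_tensor_finite A T p L
    isNoetherianRing_of_ringEquiv _ ((Algebra.TensorProduct.comm A L T).toRingEquiv.trans eT.symm)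
  have hRL : EGA4.IsNormalRing (R ⊗[A] L) := isNormalRing_descend (R ⊗[A] L) ((R ⊗[A] L) ⊗[R] T)
    (isNormalRing_of_equiv eT.symm (isNormalRing_cpl_tensor A m p hpm L (hA m)))
  let S := Ah ⊗[A] L
  let S' := R ⊗[Ah] S
  letI : Algebra S S' := Algebra.TensorProduct.rightAlgebra
  let M := Algebra.algebraMapSubmonoid S n.primeCompl
  haveI : IsLocalization M S' := inferInstance
  have hS' : EGA4.IsNormalRing S' :=
    isNormalRing_of_equiv (Algebra.TensorProduct.cancelBaseChange A Ah Ah R L).toRingEquiv.symm hRL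
  have hQd : Disjoint (M : Set S) (Q : Set S) := Set.disjoint_left.2 fun s hs hsQ => by
    obtain ⟨x, hx, rfl⟩ := hs
    exact hx (hPn' hsQ)
  exact normal_at_of_localization S S' M hS' Q hQd

end Groth.Agent.RegLocus
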