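import Groth.Agent.RegLocus.Basic
import Groth.Agent.RegNormal.Basic
import Groth.Agent.CAlgNormal.Basic

/-!
Openness criterion for the normal locus (EGA IV 6.13.4).
-/

set_option autoImplicit false

universe u

open PrimeSpectrum

namespace Groth.Agent.RegLocus

variable {A : Type u} [CommRing A]

/-- `A_q` is normal when it is a domain with the given generic point and it is normal at the primes not containing `t`
and at the associated primes of `A/tA`. -/
theorem normal_of_associated [IsNoetherianRing A] (p0 : Ideal A) [p0.IsPrime] (g : A) (hg : g ∉ p0)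
    (hgk : ∀ x ∈ p0, g * x = 0) (t : A) (ht : t ∉ p0) (q : Ideal A) [q.IsPrime] (hgq : g ∉ q)
    (hV : ∀ (P : Ideal A) [P.IsPrime], P ≤ q → t ∉ P →
      IsDomain (Localization.AtPrime P) ∧ IsIntegrallyClosed (Localization.AtPrime P))
    (hM : ∀ (P : Ideal A) [P.IsPrime], P ≤ q → P ∈ associatedPrimes A (A ⧸ Ideal.span {t}) →
      IsDomain (Localization.AtPrime P) ∧ IsIntegrallyClosed (Localization.AtPrime P)) :
    IsDomain (Localization.AtPrime q) ∧ IsIntegrallyClosed (Localization.AtPrime q) := by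
  classical
  let K := FractionRing (A ⧸ p0)
  let φ := algebraMap A K
  have hφ : ∀ a, φ a = 0 ↔ a ∈ p0 := fun a => by
    show algebraMap A K a = 0 ↔ _
    rw [IsScalarTower.algebraMap_apply A (A ⧸ p0) K, map_eq_zero_iff _ (IsFractionRing.injective (A ⧸ p0) K)]
    exact Ideal.Quotient.eq_zero_iff_mem
  have hp0le : ∀ (P : Ideal A) [P.IsPrime], g ∉ P → p0 ≤ P := fun P hP hgP x hx =>
    (hP.mem_or_mem (show g * x ∈ P by rw [hgk x hx]; exact zero_mem _)).resolve_left hgP
  have hunit : ∀ (P : Ideal A) [P.IsPrime], g ∉ P → ∀ u : P.primeCompl, IsUnit (φ u) := fun P _ hgP u =>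
    isUnit_iff_ne_zero.2 fun h => u.2 (hp0le P hgP ((hφ _).1 h))
  let L := Localization.AtPrime q
  let ψ : L →+* K := IsLocalization.lift (hunit q hgq)
  have hψ : Function.Injective ψ := (injective_iff_map_eq_zero ψ).2 fun z hz => by
    obtain ⟨⟨a, u⟩, rfl⟩ := IsLocalization.mk'_surjective q.primeCompl z
    simp only [ψ, IsLocalization.lift_mk'_spec, mul_zero] at hz
    exact (IsLocalization.mk'_eq_zero_iff _ _).2 ⟨⟨g, hgq⟩, hgk a ((hφ _).1 hz)⟩
  have hdom : IsDomain L := hψ.isDomain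
  letI : Algebra L K := ψ.toAlgebra
  have hsurj : ∀ z : K, ∃ a b : A, φ a / φ b = z := fun z => by
    obtain ⟨a, b, -, rfl⟩ := IsFractionRing.div_surjective (A ⧸ p0) z
    obtain ⟨a, rfl⟩ := Ideal.Quotient.mk_surjective a
    obtain ⟨b, rfl⟩ := Ideal.Quotient.mk_surjective b
    exact ⟨a, b, rfl⟩
  have : FaithfulSMul L K := (faithfulSMul_iff_algebraMap_injective _ _).2 hψ
  have hψa : ∀ a, ψ (algebraMap A L a) = φ a := fun a => IsLocalization.lift_eq _ _
  have : IsFractionRing L K := IsFractionRing.of_field _ _ fun z => by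
    obtain ⟨a, b, rfl⟩ := hsurj z
    exact ⟨algebraMap A L a, algebraMap A L b, by rw [RingHom.algebraMap_toAlgebra, hψa, hψa]⟩
  -- normal points below `q`
  have hden : ∀ (P : Ideal A) [P.IsPrime], P ≤ q →
      IsDomain (Localization.AtPrime P) ∧ IsIntegrallyClosed (Localization.AtPrime P) →
      ∀ z : K, IsIntegral L z → ∃ u ∉ P, ∃ c, φ u * z = φ c := fun P _ hPq ⟨hPd, hPn⟩ z hz => by
    have hgP : g ∉ P := fun h => hgq (hPq h)
    letI : Algebra (Localization.AtPrime P) K := (IsLocalization.lift (S := Localization.AtPrime P) (hunit P hgP)).toAlgebra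
    have hpa : ∀ a, algebraMap (Localization.AtPrime P) K (algebraMap A _ a) = φ a := fun a => IsLocalization.lift_eq _ _
    have hle : q.primeCompl ≤ P.primeCompl := fun x hx hxP => hx (hPq hxP)
    letI : Algebra L (Localization.AtPrime P) :=
      IsLocalization.localizationAlgebraOfSubmonoidLe L (Localization.AtPrime P) _ _ hle
    have : IsScalarTower A L (Localization.AtPrime P) :=
      IsLocalization.localization_isScalarTower_of_submonoid_le L (Localization.AtPrime P) _ _ hle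
    have : IsScalarTower L (Localization.AtPrime P) K := IsScalarTower.of_algebraMap_eq' <|
      IsLocalization.ringHom_ext q.primeCompl (RingHom.ext fun a => by
        simp only [RingHom.comp_apply, ← IsScalarTower.algebraMap_apply A L (Localization.AtPrime P), hpa]
        exact hψa a)
    have hinj : Function.Injective (algebraMap (Localization.AtPrime P) K) := (injective_iff_map_eq_zero _).2 fun w hw => by
      obtain ⟨⟨a, u⟩, rfl⟩ := IsLocalization.mk'_surjective P.primeCompl w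
      simp only [RingHom.algebraMap_toAlgebra, IsLocalization.lift_mk'_spec, mul_zero] at hw
      exact (IsLocalization.mk'_eq_zero_iff _ _).2 ⟨⟨g, hgP⟩, hgk a ((hφ _).1 hw)⟩
    have : FaithfulSMul (Localization.AtPrime P) K := (faithfulSMul_iff_algebraMap_injective _ _).2 hinj
    have : IsFractionRing (Localization.AtPrime P) K := IsFractionRing.of_field _ _ fun z => by
      obtain ⟨a, b, rfl⟩ := hsurj z
      exact ⟨algebraMap A _ a, algebraMap A _ b, by rw [hpa, hpa]⟩
    obtain ⟨w, hw⟩ := (IsIntegrallyClosed.isIntegral_iff (R := Localization.AtPrime P) (K := K)).1 (hz.tower_top)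
    obtain ⟨⟨c, u⟩, rfl⟩ := IsLocalization.mk'_surjective P.primeCompl w
    refine ⟨u, u.2, c, ?_⟩
    rw [← hw, ← hpa, ← map_mul, IsLocalization.mk'_spec' , hpa]
  -- main
  have hint : ∀ a : A, IsIntegral L (φ a) := fun a => by
    rw [← hψa a]; exact isIntegral_algebraMap
  have ht' : φ t ≠ 0 := fun h => ht ((hφ t).1 h)
  have step : ∀ (a : A) (z : K), φ t * z = φ a → IsIntegral L z → ∃ u ∉ q, ∃ c, φ u * z = φ c := by
    intro a z hz hzi
    by_contra! hno
    let N : Submodule A (A ⧸ Ideal.span {t}) := Submodule.span A {Ideal.Quotient.mk _ a}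
    have hann : ∀ u : A, u ∈ Module.annihilator A N ↔ u * a ∈ Ideal.span {t} := fun u => by
      rw [Submodule.mem_annihilator_span_singleton, Algebra.smul_def, Ideal.Quotient.algebraMap_eq, ← map_mul,
        Ideal.Quotient.eq_zero_iff_mem]
    have hD : ∀ u : A, u * a ∈ Ideal.span {t} → ∃ c, φ u * z = φ c := fun u hu => by
      obtain ⟨c, hc⟩ := Ideal.mem_span_singleton'.1 hu
      refine ⟨c, mul_left_cancel₀ ht' ?_⟩
      rw [mul_left_comm, hz, ← map_mul, ← map_mul, ← hc, mul_comm c t]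
    have hle : Module.annihilator A N ≤ q := fun u hu => by
      by_contra huq
      obtain ⟨c, hc⟩ := hD u ((hann u).1 hu)
      exact hno u huq c hc
    obtain ⟨P, hP, hPq⟩ := Ideal.exists_minimalPrimes_le hle
    have := hP.isPrime
    have hPA : P ∈ associatedPrimes A (A ⧸ Ideal.span {t}) :=
      associatedPrimes.subset_of_injective (Submodule.injective_subtype N)
        (Module.associatedPrimes.minimalPrimes_annihilator_subset_associatedPrimes A N hP)
    obtain ⟨u, hu, c, hc⟩ := hden P hPq (hM P hPq hPA) z hzi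
    have h0 : φ (u * a - t * c) = 0 := by
      rw [map_sub, map_mul, map_mul, ← hz, ← hc]; ring
    have hgu : g * u ∈ Module.annihilator A N := (hann _).2 (Ideal.mem_span_singleton'.2 ⟨g * c, by
      linear_combination -(hgk _ ((hφ _).1 h0))⟩)
    exact (‹P.IsPrime›.mem_or_mem (hP.1.2 hgu)).elim (fun h => hgq (hPq h)) hu
  have hall : ∀ (m : ℕ) (z : K), IsIntegral L z → (∃ u ∉ q, ∃ c, φ (u * t ^ m) * z = φ c) →
      ∃ u ∉ q, ∃ c, φ u * z = φ c := by
    intro m
    induction m with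
    | zero => intro z _ ⟨u, hu, c, hc⟩; exact ⟨u, hu, c, by simpa using hc⟩
    | succ m ih =>
      intro z hz ⟨u, hu, c, hc⟩
      obtain ⟨v, hv, d, hd⟩ := step c (φ (u * t ^ m) * z)
        (by rw [← hc, pow_succ, map_mul, map_mul, map_mul]; ring) ((hint _).mul hz)
      exact ih z hz ⟨v * u, Ideal.IsPrime.mul_notMem inferInstance hv hu, d, by
        rw [← hd, mul_assoc, map_mul, mul_assoc]⟩
  refine ⟨hdom, (isIntegrallyClosed_iff K).2 fun {z} hz => ?_⟩
  suffices h : ∃ u ∉ q, ∃ c, φ u * z = φ c by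
    obtain ⟨u, hu, c, hc⟩ := h
    refine ⟨IsLocalization.mk' L c (⟨u, hu⟩ : q.primeCompl), ?_⟩
    rw [RingHom.algebraMap_toAlgebra, IsLocalization.lift_mk'_spec]
    exact hc.symm
  let D : Ideal A :=
    { carrier := {u | ∃ c, φ u * z = φ c}
      add_mem' := fun {x y} ⟨c, hc⟩ ⟨d, hd⟩ => ⟨c + d, by rw [map_add, map_add, add_mul, hc, hd]⟩
      zero_mem' := ⟨0, by rw [map_zero, zero_mul]⟩
      smul_mem' := fun r x ⟨c, hc⟩ => ⟨r * c, by rw [smul_eq_mul, map_mul, map_mul, mul_assoc, hc]⟩ }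
  suffices h : ∃ u ∉ q, ∃ m : ℕ, u * t ^ m ∈ D by
    obtain ⟨u, hu, m, c, hc⟩ := h
    exact hall m z hz ⟨u, hu, c, hc⟩
  by_contra! hno
  have hdisj : Disjoint (D : Set A) ((q.primeCompl ⊔ Submonoid.powers t : Submonoid A) : Set A) := by
    refine Set.disjoint_left.2 fun x hxD hx => ?_
    obtain ⟨u, hu, _, ⟨m, rfl⟩, rfl⟩ := Submonoid.mem_sup.1 hx
    exact hno u hu m hxD
  obtain ⟨P, hP, hDP, hPd⟩ := Ideal.exists_le_prime_disjoint D _ hdisj
  have hPq : P ≤ q := fun x hx => by_contra fun hxq =>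
    Set.disjoint_left.1 hPd hx (Submonoid.mem_sup_left hxq)
  have htP : t ∉ P := fun htP => Set.disjoint_left.1 hPd htP (Submonoid.mem_sup_right (Submonoid.mem_powers t))
  obtain ⟨u, hu, c, hc⟩ := hden P hPq (hV P hPq htP) z hz
  exact hu (hDP ⟨c, hc⟩)

/-- The normal locus is open as soon as it contains an open set containing the normal minimal primes. -/
theorem isOpen_norLocus [IsNoetherianRing A] (V : Set (PrimeSpectrum A)) (hV : IsOpen V) (hVn : V ⊆ EGA4.norLocus A)
    (hmin : ∀ p : PrimeSpectrum A, p.asIdeal ∈ minimalPrimes A → p ∈ EGA4.norLocus A → p ∈ V) :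
    IsOpen (EGA4.norLocus A) := by
  classical
  refine isOpen_iff_forall_mem_open.2 fun p ⟨hpd, hpn⟩ => ?_
  let p0 := RingHom.ker (algebraMap A (Localization.AtPrime p.asIdeal))
  have hp0 : p0.IsPrime := RingHom.ker_isPrime _
  have hp0p : p0 ≤ p.asIdeal := fun x hx => by
    obtain ⟨s, hs⟩ := (IsLocalization.map_eq_zero_iff p.asIdeal.primeCompl _ _).1 hx
    exact (p.isPrime.mem_or_mem (show (s : A) * x ∈ p.asIdeal by rw [hs]; exact zero_mem _)).resolve_left s.2
  obtain ⟨G, hG⟩ := (IsNoetherian.noetherian p0 : p0.FG)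
  choose! s hs hs0 using fun (x : A) (hx : x ∈ G) => show ∃ s ∉ p.asIdeal, s * x = 0 by
    obtain ⟨s, hs⟩ := (IsLocalization.map_eq_zero_iff p.asIdeal.primeCompl _ _).1
      (show x ∈ p0 from hG ▸ Submodule.subset_span hx)
    exact ⟨s, s.2, hs⟩
  let g := ∏ x ∈ G, s x
  have hgp : g ∉ p.asIdeal := fun hmem => by
    obtain ⟨x, hx, hxp⟩ := (Ideal.IsPrime.prod_mem_iff (hp := p.isPrime)).1 hmem
    exact hs x hx hxp
  have hgk : ∀ x ∈ p0, g * x = 0 := fun x hx => by
    rw [← hG] at hx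
    refine Submodule.span_induction (fun y hy => ?_) (mul_zero _) (fun a b _ _ h1 h2 => by rw [mul_add, h1, h2, add_zero])
      (fun r a _ h1 => by rw [smul_eq_mul, mul_left_comm, h1, mul_zero]) hx
    obtain ⟨d, hd⟩ := Finset.dvd_prod_of_mem s hy
    show (∏ x ∈ G, s x) * y = 0
    rw [hd, mul_right_comm, hs0 y hy, zero_mul]
  have hgp0 : g ∉ p0 := fun h => hgp (hp0p h)
  have hmem0 : p0 ∈ minimalPrimes A := ⟨⟨hp0, bot_le⟩, fun Q ⟨hQ, _⟩ hQle x hx =>
    (hQ.mem_or_mem (show g * x ∈ Q by rw [hgk x hx]; exact zero_mem _)).resolve_left fun h => hgp0 (hQle h)⟩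
  have hp0n : (⟨p0, hp0⟩ : PrimeSpectrum A) ∈ EGA4.norLocus A := CAlgNormal.normal_of_le hp0p
  have hp0V := hmin ⟨p0, hp0⟩ hmem0 hp0n
  obtain ⟨_, ⟨t, rfl⟩, ht, htV⟩ := (PrimeSpectrum.isTopologicalBasis_basic_opens.isOpen_iff.1 hV) _ hp0V
  let M := {P : PrimeSpectrum A | P.asIdeal ∈ associatedPrimes A (A ⧸ Ideal.span {t}) ∧ P ∉ EGA4.norLocus A}
  have hMfin : M.Finite := Set.Finite.of_finite_image ((associatedPrimes.finite A (A ⧸ Ideal.span {t})).subset
    (by rintro _ ⟨P, hP, rfl⟩; exact hP.1)) (Set.injOn_of_injective (fun _ _ h => PrimeSpectrum.ext h))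
  refine ⟨(basicOpen g : Set (PrimeSpectrum A)) ∩ (⋃ P ∈ M, zeroLocus (P.asIdeal : Set A))ᶜ, ?_,
    (basicOpen g).isOpen.inter (hMfin.isClosed_biUnion fun P _ => isClosed_zeroLocus _).isOpen_compl, hgp, ?_⟩
  · rintro q ⟨hgq, hq⟩
    refine normal_of_associated p0 g hgp0 hgk t ht q.asIdeal hgq
      (fun P _ _ htP => hVn (htV (show (⟨P, ‹_›⟩ : PrimeSpectrum A) ∈ _ from htP)))
      (fun P _ hPq hPA => by_contra fun hn => hq ?_)
    exact Set.mem_biUnion (x := (⟨P, ‹_›⟩ : PrimeSpectrum A)) ⟨hPA, hn⟩ hPq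
  · simp only [Set.mem_compl_iff, Set.mem_iUnion, not_exists]
    intro P hP hle
    exact hP.2 (CAlgNormal.normal_of_le (SetLike.coe_subset_coe.1 hle))

end Groth.Agent.RegLocus
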